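import Cfsg.Agent.Lib.MaxU.FrD
import Cfsg.Agent.Lib.Max.C2S
import Cfsg.Agent.Lib.Max.C1
import Cfsg.Agent.Lib.Max2.U
import Cfsg.Agent.Lib.Asch.Comm

/-!
# Orthogonal decompositions of unitary spaces: the matrix statements
-/

set_option autoImplicit false

namespace Cfsg.Lib.Forms

open Module Form Herm Cfsg.Geo

variable {F : Type*} [Field F] {σ : F →+* F} {V : Type*} [AddCommGroup V] [Module F V]
  {q : ℕ} {h : IsConj σ q} {D : Form h.kind V} [FiniteDimensional F V]

theorem Herm.not_E_le_dec {ι : Type*} {W : ι → Submodule F V} (hD : D.Nondeg) (hW : D.IsOrth W)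
    {i j : ι} (hij : i ≠ j) (hi : 2 ≤ finrank F (W i)) (hj : 2 ≤ finrank F (W j)) :
    ¬ D.E ≤ D.dec W := fun H => by
  obtain ⟨e, he, f, hf, h1⟩ := exists_hyp_mem (hW.disjoint hD i) hi
  obtain ⟨e', he', f', hf', h2⟩ := exists_hyp_mem (hW.disjoint hD j) hj
  have o : ∀ x ∈ W i, ∀ y ∈ W j, D.B y x = 0 := fun x hx y hy => hW.orth i j hij hx y hy
  obtain ⟨c, c0, hc⟩ := h.exists_trace_zero
  have h3 : D.Q (e + e') = 0 := by
    rw [D.Q_add_of_B (D.eq_zero_symm (o e he e' he')), h1.Q_e, h2.Q_e, add_zero]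
  have h4 : D.IsRk1 (e + e') c := isRk1_iff.2 (by rw [h3, hc]; ring)
  refine hW.not_mem_dec hij hf (not_mem_perp_iff.2 ⟨e, he, ?_⟩) (not_mem_perp_iff.2 ⟨f', hf', ?_⟩)
    (H (rk1_mem_E h4 h3))
  · simp [rk1_apply, h1.B_ef, h1.B_ee, o e he e' he', B_symm D e f]
  · simp [rk1_apply, h1.B_ef, o f hf e' he', D.eq_zero_symm (o f hf f' hf'),
      D.eq_zero_symm (o e he f' hf'), h2.B_ef, c0]

theorem Herm.exists_onb {ι : Type*} [Fintype ι] [DecidableEq ι] {W : ι → Submodule F V}
    (hD : D.Nondeg) (hW : D.IsOrth W) (h1 : ∀ i, finrank F (W i) = 1) :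
    ∃ b : Basis ι F V, ONB D b ∧ W = fun i => F ∙ b i := by
  choose v hv h2 using fun i => exists_unit (hW.disjoint hD i) fun H => by
    have := h1 i; rw [H] at this; simp at this
  have h3 : ∀ i j, D.B (v i) (v j) = if i = j then 1 else 0 := fun i j => by
    split_ifs with hij
    · rw [hij, ← Q_eq, h2]
    · exact hW.orth j i (Ne.symm hij) (hv j) _ (hv i)
  have h4 : W = fun i => F ∙ v i := funext fun i => (Submodule.eq_of_le_of_finrank_eq
    ((Submodule.span_singleton_le_iff_mem _ _).2 (hv i)) (by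
      rw [h1, finrank_span_singleton fun H => by simpa [H] using h2 i])).symm
  have h5 : LinearIndependent F v := Fintype.linearIndependent_iff.2 fun c hc i => by
    simpa [map_sum, h3] using congrArg (D.B (v i)) hc
  have h6 : ⊤ ≤ Submodule.span F (Set.range v) := by
    rw [← hW.top, h4]
    exact iSup_le fun i => Submodule.span_mono (by simp)
  exact ⟨Basis.mk h5 h6, fun i j => by simpa using h3 i j, by simpa using h4⟩

theorem su_max_orth [Fintype F] {n : ℕ} (hF : Fintype.card F = q ^ 2) {t k : ℕ}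
    {W : Fin t → Submodule F (Fin n → F)} (hW : IsNondegenerateMDecomposition (hermForm n F q) k W)
    (hk : 3 ≤ k ∨ k = 2 ∧ q ≠ 2 ∧ 3 ≤ t ∨ k = 1 ∧ (10 ≤ n ∨ n = 6 ∧ q ≠ 2)) :
    IsMaximalIn (GU n F q ⊓ specialLinear (Fin n) F)
      (decompositionStabilizer W ⊓ (GU n F q ⊓ specialLinear (Fin n) F)) := by
  obtain ⟨σ, h⟩ := isConj_of_card hF
  have hD := stdHerm_nondeg h (Fin n)
  have h1 := (rep_herm h n).isOrth hW
  have h2 := hW.decomp.two_le
  have h3 := hW.decomp.finrank_eq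
  have h4 : t * k = n := by simpa using Asch.IsMDecomposition.mul_eq hW.decomp
  have h5 : 2 * k ≤ n := h4 ▸ Nat.mul_le_mul_right _ h2
  have hn : finrank F (Fin n → F) = n := by simp
  by_cases h6 : k = 1
  · obtain ⟨b, hb, h7⟩ := exists_onb hD h1 (h6 ▸ h3)
    refine isMaximalIn_map' (su_eq h (by omega)) (comap_decompositionStabilizer W) toGL_injective
      ((Herm.trans hD (by omega)).not_E_le_dec (Herm.sing _) hW.decomp.indep (i := ⟨0, by omega⟩)
        (fun H => by have := h3 ⟨0, by omega⟩; rw [H] at this; simp at this; omega)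
        (by rw [h3]; omega)) ?_
    rw [h7]
    exact hb.E_le_frame (by rw [Fintype.card_fin]; subst h6; omega)
  refine isMaximalIn_map (su_eq h (by omega)) (comap_decompositionStabilizer W)
    (Herm.not_E_le_dec hD h1 (i := ⟨0, by omega⟩) (j := ⟨1, by omega⟩) (by simp) (by rw [h3]; omega)
      (by rw [h3]; omega)) (E_le_of_orth hD (by omega) h1 ⟨0, by omega⟩ h3 ?_)
  rcases hk with hk | ⟨hk, hq, ht⟩ | hk
  · exact Or.inl hk
  · refine Or.inr ⟨hk, hq, fun j => ?_⟩
    by_cases hj : j = ⟨1, by omega⟩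
    · exact ⟨⟨2, by omega⟩, by simp, by simp [hj]⟩
    · exact ⟨_, by simp, Ne.symm hj⟩
  · exact (h6 hk.1).elim

end Cfsg.Lib.Forms
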