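import Cfsg.Agent.Lib.MaxU.Circ

/-!
# Orthogonal decompositions of unitary spaces with blocks of dimension at least two
-/

set_option autoImplicit false

namespace Cfsg.Lib.Forms

open Module Form

variable {F : Type*} [Field F] {σ : F →+* F} {V : Type*} [AddCommGroup V] [Module F V]

namespace Form

variable {K : Kind σ} {D : Form K V} {X : Subgroup D.isom}

/-- `X` contains the full rank-one group with centre `p`. -/
def Rk (X : Subgroup D.isom) (p : V) : Prop := ∀ c hc, D.rk1 p c hc ∈ X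

theorem Rk.conj {p : V} (h : Rk X p) {g : D.isom} (hg : g ∈ X) : Rk X (g.1 p) := fun c hc => by
  have h1 : D.IsRk1 p c := isRk1_of_Q_eq hc (Q_isom g p).symm
  rw [← D.conj_rk1 g p c h1]
  exact mul_mem (mul_mem hg (h c h1)) (inv_mem hg)

theorem Rk.smul {p : V} (h : Rk X p) {t : F} (ht : t ≠ 0) : Rk X (t • p) := fun c hc => by
  rw [rk1_smul hc ((isRk1_smul ht).1 hc)]; exact h _ _

theorem Rk.at_bot {e : V} (h : Rk X e) : D.At X ⊥ e := fun z hz d hd => by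
  obtain rfl : z = 0 := by simpa using hz
  rw [D.eich_zero_eq_rk1 hd hd.isRk1]; exact h _ _

theorem At.rk {U : Submodule F V} {e : V} (h : D.At X U e) (he : D.Q e = 0) : Rk X e :=
  fun c hc => by rw [rk1_eq_eich hc he]; exact h _ (zero_mem _) _ _

end Form

variable {q : ℕ} {h : IsConj σ q} {D : Form h.kind V} {X : Subgroup D.isom}

namespace Herm

theorem B_symm (D : Form h.kind V) (x y : V) : D.B y x = σ (D.B x y) := (herm_symm D x y).symm

theorem Q_eq (D : Form h.kind V) (x : V) : D.Q x = D.B x x := herm_Q D x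

theorem isRk1_iff {p : V} {c : F} : D.IsRk1 p c ↔ c + σ c + c * σ c * D.Q p = 0 := by
  simp [IsRk1]

theorem torus2 {e f : V} (hef : D.IsHyp e f) (he : Rk X e) (hf : Rk X f) {s : F} (s0 : s ≠ 0)
    (hs : σ s = s) : ∃ g ∈ X, g.1 e = s • e ∧ ∀ w, D.B e w = 0 → D.B f w = 0 → g.1 w = w := by
  have k : ∀ c : F, c ≠ 0 → c + σ c = 0 → ∃ g ∈ X, g.1 e = c • f ∧
      ∀ w, D.B e w = 0 → D.B f w = 0 → g.1 w = w := fun c c0 hc => by
    have h1 : D.IsRk1 f c := isRk1_iff.2 (by simp [hef.Q_f, hc])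
    have h2 : D.IsRk1 e (-c⁻¹) := isRk1_iff.2 (by
      simp [hef.Q_e, eq_neg_of_add_eq_zero_right hc])
    refine ⟨_, mul_mem (he _ h2) (hf _ h1), ?_, fun w h3 h4 => ?_⟩
    · simp only [isom_mul_apply, rk1_apply, D.B_lin, hef.B_fe, hef.B_ee, hef.B_ef, hermKind_ε]
      match_scalars <;> field_simp <;> ring
    · rw [isom_mul_apply, D.rk1_apply_of_perp _ _ h4, D.rk1_apply_of_perp _ _ h3]
  obtain ⟨c, c0, hc⟩ := h.exists_trace_zero
  obtain ⟨g, hg, h1, h2⟩ := k c c0 hc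
  obtain ⟨g', hg', h1', h2'⟩ := k (s * c) (mul_ne_zero s0 c0) (by
    rw [map_mul, hs]; linear_combination s * hc)
  refine ⟨_, mul_mem (inv_mem hg) hg', ?_, fun w h3 h4 => ?_⟩
  · rw [isom_mul_apply, isom_inv_apply_eq, h1', map_smul, h1, smul_smul]
  · rw [isom_mul_apply, isom_inv_apply_eq, h2' w h3 h4, h2 w h3 h4]

theorem span2 (h : IsConj σ q) {P : AddSubgroup V} {y : V} {β β' : F} (H : β' * σ β ≠ σ β' * β)
    (h1 : ∀ r, σ r = r → (r * β) • y ∈ P) (h2 : ∀ r, σ r = r → (r * β') • y ∈ P) (κ : F) :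
    κ • y ∈ P := by
  have H' := sub_ne_zero.2 H
  have H'' : σ β' * β - β' * σ β ≠ 0 := sub_ne_zero.2 H.symm
  convert add_mem (h1 ((κ * σ β' - σ κ * β') / (σ β' * β - β' * σ β)) ?_)
    (h2 ((κ * σ β - σ κ * β) / (β' * σ β - σ β' * β)) ?_) using 1
  · rw [← add_smul]; congr 1; field_simp; ring
  all_goals
    simp only [map_div₀, map_sub, map_mul, h.σσ]
    rw [← neg_div_neg_eq]; congr 1 <;> ring

variable [FiniteDimensional F V] {ι : Type*} {W : ι → Submodule F V}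

theorem mem_E (hD : D.Nondeg) (hn : 3 ≤ finrank F V) {g : D.isom} : g ∈ D.E ↔ D.det g = 1 := by
  rw [E_eq hD hn, MonoidHom.mem_ker]

theorem exists_scale (hD : D.Nondeg) (hn : 3 ≤ finrank F V) (hW : D.IsOrth W) {j l : ι} {e f w : V}
    (hef : D.IsHyp e f) (he : e ∈ W j) (hf : f ∈ W j) (hw : w ∈ W l) (hQ : D.Q w = 1)
    (h1 : D.B e w = 0) {α : F} (hα : α ≠ 0) : ∃ g ∈ D.E ⊓ D.dec W, g.1 e = α • e ∧
      ∀ y, D.B e y = 0 → D.B f y = 0 → D.B w y = 0 → g.1 y = y := by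
  obtain ⟨g, h2, -, h3⟩ := hef.exists_torus hD hα
  obtain ⟨c, hc, h4⟩ := exists_rk1_det_eq hQ (u := σ (D.det g))
    (by rw [h.σσ, mul_comm]; exact hD.det_mul_σ_det g)
  have h5 : ∀ x, g.1 x - x ∈ W j := fun x => by
    have := hD.sub_mem_of_fix (Y := D.hp e f) h3 x
    rw [hp, hD.perp_perp] at this
    exact (Submodule.span_le.2 (Set.pair_subset he hf) : _ ≤ W j) this
  have h6 : ∀ x, (D.rk1 w c hc).1 x - x ∈ W l := fun x => by
    simpa [rk1_apply] using (W l).smul_mem _ hw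
  refine ⟨g * D.rk1 w c hc, ⟨(mem_E hD hn).2 (Units.ext ?_), mem_dec_of_stab fun m => mul_mem
    (hW.mem_stab hD (i := j) (j := j) (by simpa using h5) (mem_stab_of_sub_mem h5) m)
    (hW.mem_stab hD (i := l) (j := l) (by simpa using h6) (mem_stab_of_sub_mem h6) m)⟩, ?_,
    fun y k1 k2 k3 => ?_⟩
  · rw [map_mul, Units.val_mul, h4]; exact hD.det_mul_σ_det g
  · rw [isom_mul_apply, D.rk1_apply_of_perp _ _ (D.eq_zero_symm h1), h2]
  · rw [isom_mul_apply, D.rk1_apply_of_perp _ _ k3, h3 y (D.mem_hp.2 ⟨k1, k2⟩)]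

theorem exists_hyp_mem {U : Submodule F V} (hU : Disjoint U (D.perp U)) (h2 : 2 ≤ finrank F U) :
    ∃ e ∈ U, ∃ f ∈ U, D.IsHyp e f := by
  obtain ⟨⟨e, he⟩, ⟨f, hf⟩, hef⟩ := exists_isHyp (D.nondeg_restrict_iff.2 hU) h2
  exact ⟨e, he, f, hf, hef.Q_e, hef.Q_f, hef.B_ef⟩

theorem exists_unit_hp {U : Submodule F V} (hU : Disjoint U (D.perp U)) (h3 : 3 ≤ finrank F U)
    {e f : V} (hef : D.IsHyp e f) (he : e ∈ U) (hf : f ∈ U) :
    ∃ w ∈ U, D.Q w = 1 ∧ D.B e w = 0 ∧ D.B f w = 0 := by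
  obtain ⟨a, ha⟩ := h.exists_trace_eq (map_one σ)
  obtain ⟨w, h1, h2⟩ := hp_universal (D.nondeg_restrict_iff.2 hU) h3 (e := ⟨e, he⟩) (f := ⟨f, hf⟩)
    ⟨hef.Q_e, hef.Q_f, hef.B_ef⟩ a
  exact ⟨w, w.2, h2.trans ha, ((D.restrict U).mem_hp).1 h1⟩

theorem exists_unit {U : Submodule F V} (hU : Disjoint U (D.perp U)) (h1 : U ≠ ⊥) :
    ∃ w ∈ U, D.Q w = 1 := by
  have := Submodule.nontrivial_iff_ne_bot.2 h1
  obtain ⟨w, hw⟩ := exists_Q_eq (D.nondeg_restrict_iff.2 hU) (map_one σ)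
  exact ⟨w, w.2, hw⟩

theorem full_of_dec (hD : D.Nondeg) (hW : D.IsOrth W) (h1 : D.E ⊓ D.dec W ≤ X) (i : ι) :
    D.Full X (W i) := fun e he _ z hz d hd => h1 ⟨eich_mem_E _ _ _ _, mem_dec_of_stab
  (hW.mem_stab hD (i := i) (j := i) (by simpa using eich_sub_mem hd he hz)
    (eich_mem_stab hd he hz le_rfl))⟩

omit [FiniteDimensional F V] in
theorem mem_zSet_diff {u y : V} (hu : D.Q u = 0) (hy : D.Q y = 0) (huy : D.B u y = 0) {s : F}
    (h1 : Rk X (u + y)) (h2 : Rk X (s • u + y)) {c : F} (hc : c + σ c = 0) :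
    (σ (c * (s - 1))) • y ∈ zSet X u hu := by
  have k0 := D.B_self_of_Q hu
  have k1 := D.B_self_of_Q hy
  have k2 := D.eq_zero_symm huy
  have hc' := eq_neg_of_add_eq_zero_right hc
  have k3 : D.IsRk1 (s • u + y) c := isRk1_iff.2 (by simp [Q_eq, k0, k1, k2, huy, hc])
  have k4 : D.IsRk1 (u + y) (-c) := isRk1_iff.2 (by simp [Q_eq, k0, k1, k2, huy, hc'])
  refine ⟨-(c * (s * σ s - 1)), ⟨hu, by simp [huy], by simp [D.Q_smul, hy, hc', h.σσ]; ring⟩, ?_⟩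
  convert mul_mem (h2 _ k3) (h1 _ k4) using 1
  refine isom_ext fun x => ?_
  simp only [eich_apply, isom_mul_apply, rk1_apply, D.B_lin, k0, k1, k2, huy, hermKind_ε, h.σσ,
    map_mul, map_sub, map_one, map_neg, hc']
  match_scalars <;> ring

theorem mem_or_perp (hD : D.Nondeg) (hn : 3 ≤ finrank F V) (hW : D.IsOrth W) {i : ι}
    (h2 : ∀ j, 2 ≤ finrank F (W j))
    (hk : (∀ j, 3 ≤ finrank F (W j)) ∨ q ≠ 2 ∧ finrank F (W i) = 2 ∧ ∀ j, ∃ l, l ≠ i ∧ l ≠ j)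
    (h1 : D.E ⊓ D.dec W ≤ X) (hM : D.MaxFull X (W i)) {x : V} (hQ : D.Q x = 0) (hx : Rk X x) :
    x ∈ W i ∨ x ∈ D.perp (W i) := by
  have hd := hW.disjoint hD
  have hr : ∀ j, ∀ e ∈ W j, e ≠ 0 → e ∉ D.perp (W j) := fun j e h3 h4 h5 =>
    h4 (Submodule.disjoint_def.1 (hd j) e h3 h5)
  have hF := full_of_dec hD hW h1
  have hR : D.RichOn (W i) := Or.inl exists_tr
  obtain ⟨⟨u, hu⟩, ⟨y, hy⟩, rfl⟩ := (hD.isOrthCompl (hd i)).exists_add x
  simp only at *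
  by_contra H
  have u0 : u ≠ 0 := by rintro rfl; simp [hy] at H
  have y0 : y ∉ W i := fun h3 => H (Or.inl (add_mem hu h3))
  have o : ∀ w ∈ W i, D.B w y = 0 := hy
  rw [D.Q_add_of_B (o u hu)] at hQ
  obtain ⟨c, c0, hc⟩ := h.exists_trace_zero
  by_cases hQu : D.Q u = 0
  · have hQy : D.Q y = 0 := by simpa [hQu] using hQ
    obtain ⟨f, hf, huf⟩ := exists_isHyp_mem hu hQu (hr i u hu u0)
    obtain ⟨s, s1, g, hg, h3, h4⟩ : ∃ s : F, s ≠ 1 ∧ ∃ g ∈ X, g.1 u = s • u ∧ g.1 y = y := by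
      rcases hk with hk | hk
      · obtain ⟨w, w1, w2, w3, -⟩ := exists_unit_hp (hd i) (hk i) huf hu hf
        obtain ⟨s, hs, s1, -⟩ := h.exists_mu3 1 1
        obtain ⟨g, hg, h3, h4⟩ := exists_scale hD hn hW huf hu hf w1 w2 w3
          (left_ne_zero_of_mul_eq_one hs)
        exact ⟨s, s1, g, h1 hg, h3, h4 y (o u hu) (o f hf) (o w w1)⟩
      · obtain ⟨s, hs, s0, s1⟩ := h.exists_fixed_ne hk.1
        obtain ⟨g, hg, h3, h4⟩ := torus2 huf ((hF i u hu (hr i u hu u0)).rk hQu)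
          ((hF i f hf (hr i f hf huf.f_ne_zero)).rk huf.Q_f) s0 hs
        exact ⟨s, s1, g, hg, h3, h4 y (o u hu) (o f hf)⟩
    have h5 := mem_zSet_diff hQu hQy (o u hu) hx (by simpa [h3, h4] using hx.conj hg) hc
    obtain ⟨j, hj⟩ : ∃ j, y ∉ D.perp (W j) := by
      by_contra! h6
      exact y0 (hW.eq_zero hD h6 ▸ zero_mem _)
    have ji : j ≠ i := by rintro rfl; exact hj hy
    have oj : ∀ w ∈ W j, D.B w u = 0 := fun w hw => hW.orth i j ji.symm hu w hw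
    obtain ⟨e, he, hQe, e0, hB⟩ : ∃ e ∈ W j, D.Q e = 0 ∧ e ∉ D.perp (W j) ∧ D.B e y ≠ 0 := by
      by_contra! h6
      obtain ⟨e, he, f, hf, hef⟩ := exists_hyp_mem (hd j) (h2 j)
      exact hj (D.le_perp_comm.1 (le_of_singular (A := D.perp (F ∙ y)) he hef.Q_e
        (hef.not_mem_perp hf) fun x h7 h8 h9 => D.mem_perp_span_singleton.2
          (D.eq_zero_symm (h6 x h7 h8 h9))) (Submodule.mem_span_singleton_self y))
    have h6 : D.IsRk1 e c := isRk1_iff.2 (by simp [hQe, hc])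
    have h7 := sub_mem_zSet h5 ((hF j e he e0).rk hQe c h6) (D.rk1_apply_of_perp _ _ (oj e he))
    rw [rk1_apply, add_sub_cancel_left] at h7
    obtain ⟨f', hf', hef⟩ := exists_isHyp_mem he hQe e0
    obtain ⟨l, li, w, w1, w2, w3⟩ : ∃ l, l ≠ i ∧ ∃ w ∈ W l, D.Q w = 1 ∧ D.B e w = 0 := by
      rcases hk with hk | hk
      · obtain ⟨w, w1, w2, w3, -⟩ := exists_unit_hp (hd j) (hk j) hef he hf'
        exact ⟨j, ji, w, w1, w2, w3⟩
      · obtain ⟨l, li, lj⟩ := hk.2.2 j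
        obtain ⟨w, w1, w2⟩ := exists_unit (hd l) fun h8 => by have := h2 l; rw [h8] at this; simp at this
        exact ⟨l, li, w, w1, w2, hW.orth l j lj w1 e he⟩
    refine e0 (hW.orth i j ji.symm (hM.mem_of_zSet hR hu hQu (hr i u hu u0) fun a => ?_))
    by_cases a0 : a = 0
    · simp [a0]
    set κ := c * D.B e (σ (c * (s - 1)) • y)
    have κ0 : κ ≠ 0 := by
      simp only [κ, D.B_smul_right]
      exact mul_ne_zero c0 (mul_ne_zero ((map_ne_zero σ).2 (mul_ne_zero c0 (sub_ne_zero.2 s1))) hB)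
    obtain ⟨k, hk, h8, h9⟩ := exists_scale hD hn hW hef he hf' w1 w2 w3 (div_ne_zero a0 κ0)
    have := map_mem_zSet' h7 (h1 hk) (h9 u (oj e he) (oj f' hf') (hW.orth i l li.symm hu w w1))
    rwa [map_smul, h8, smul_smul, mul_div_cancel₀ _ κ0] at this
  have hQx : D.Q (u + y) = 0 := by rwa [D.Q_add_of_B (o u hu)]
  rcases hk with hk | ⟨hq, hk, -⟩
  · obtain ⟨e, he, e0, hQe, h3⟩ := (sing D).exists (W i) [D.B u] (hk i)
    replace h3 : D.B u e = 0 := by simpa using h3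
    have h4 : D.IsRk1 (u + y) c := isRk1_iff.2 (by simp [hQx, hc])
    refine H (Or.inl (hM.mem_of_zSet (w := u + y) hR he hQe (hr i e he e0) fun a => ?_))
    have := sub_mem_zSet ((hF i e he (hr i e he e0)).mem_zSet hQe
      ((W i).smul_mem (a / (c * D.Q u)) hu) (by simp [D.eq_zero_symm h3])) (hx c h4)
      (D.rk1_apply_of_perp _ _ (by simp [h3, D.eq_zero_symm (o e he)]))
    rw [rk1_apply, add_sub_cancel_left] at this
    convert this using 2
    simp [D.eq_zero_symm (o u hu), ← Q_eq]; field_simp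
  obtain ⟨e, he, f, hf, hef⟩ := exists_hyp_mem (hd i) (h2 i)
  have h3 : Submodule.span F {e, f} = W i := Submodule.eq_of_le_of_finrank_eq
    (Submodule.span_le.2 (Set.pair_subset he hf)) (hef.finrank_span.trans hk.symm)
  obtain ⟨a, b, rfl⟩ := Submodule.mem_span_pair.1 (h3.ge hu)
  have h4 : D.Q (a • e + b • f) = σ a * b + a * σ b := by
    simpa [h.σσ] using hef.Q_comb a b (zero_mem _)
  have Re := (hF i e he (hef.not_mem_perp hf)).rk hef.Q_e
  have Rf := (hF i f hf (hef.not_mem_perp' he)).rk hef.Q_f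
  have k : ∀ b : F, D.Q (a • e + b • f + y) = 0 → b ≠ 0 → Rk X (a • e + b • f + y) → ∀ r, σ r = r →
      (r * b⁻¹) • y ∈ zSet X e hef.Q_e := fun b h5 b0 h6 => by
    have hp : D.IsHyp e (b⁻¹ • (a • e + b • f + y)) :=
      ⟨hef.Q_e, D.Q_smul_of_Q h5 _, by simp [hef.B_ee, hef.B_ef, o e he, b0]⟩
    have k1 : ∀ r, σ r = r → r ≠ 1 → (r * b⁻¹) • y ∈ zSet X e hef.Q_e := fun r hr r1 => by
      have r2 : σ (1 - r)⁻¹ = (1 - r)⁻¹ := by simp [hr]
      have r3 := inv_ne_zero (sub_ne_zero.2 r1.symm)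
      obtain ⟨g, hg, h7, h8⟩ := torus2 hef Re Rf r3 r2
      obtain ⟨g', hg', h7', h8'⟩ := torus2 hp Re (h6.smul (inv_ne_zero b0)) r3 r2
      have := two_tori hD hef.Q_e hp.B_ef hef.B_ef hg' hg h7' h7 h8' h8
      convert sub_mem this (smul_mem_zSet hef.Q_e (r * b⁻¹ * a)) using 1
      rw [r2, inv_inv]
      match_scalars <;> field_simp <;> ring
    intro r hr
    by_cases r1 : r = 1
    · obtain ⟨s, hs, s0, s1⟩ := h.exists_fixed_ne hq
      convert add_mem (k1 s hs s1) (k1 (1 - s) (by simp [hs]) (by simpa using s0)) using 1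
      rw [r1]; module
    · exact k1 r hr r1
  have h5 : D.IsRk1 f c := isRk1_iff.2 (by simp [hef.Q_f, hc])
  have h6 : (D.rk1 f c h5).1 (a • e + b • f + y) = a • e + (b + c * a) • f + y := by
    simp only [rk1_apply, D.B_lin, hef.B_fe, hef.B_ff, o f hf, hermKind_ε]; module
  have hc' := eq_neg_of_add_eq_zero_right hc
  have b0 : b ≠ 0 := fun h7 => hQu (by rw [h4, h7]; simp)
  have b1 : b + c * a ≠ 0 := fun h7 => hQu (by
    rw [h4, eq_neg_of_add_eq_zero_left h7]; simp [hc']; ring)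
  have b2 : σ b ≠ 0 := by simpa using b0
  have b3 : σ (b + c * a) ≠ 0 := by simpa only [map_ne_zero] using b1
  refine y0 (hM.mem_of_zSet hR he hef.Q_e (hef.not_mem_perp hf) (span2 h ?_ (k b hQx b0 hx)
    (k _ (by rw [← h6, Q_isom, hQx]) b1 (h6 ▸ hx.conj (Rf c h5)))))
  intro h7
  rw [map_inv₀, map_inv₀] at h7
  field_simp at h7
  simp only [map_add, map_mul, hc'] at h7
  exact mul_ne_zero c0 hQu (by rw [h4]; linear_combination -h7)

theorem E_le_of_orth [Finite ι] (hD : D.Nondeg) (hn : 3 ≤ finrank F V) (hW : D.IsOrth W) (i : ι)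
    {k : ℕ} (hk : ∀ j, finrank F (W j) = k)
    (hk' : 3 ≤ k ∨ k = 2 ∧ q ≠ 2 ∧ ∀ j, ∃ l, l ≠ i ∧ l ≠ j) (X : Subgroup D.isom)
    (h1 : D.E ⊓ D.dec W ≤ X) (h3 : ¬ X ≤ D.dec W) : D.E ≤ X := by
  classical
  have h2 : ∀ j, 2 ≤ finrank F (W j) := fun j => by rw [hk]; omega
  have hd := hW.disjoint hD
  have hn' := fun j => D.nondeg_restrict_iff.2 (hd j)
  have hiso : ∀ i j, (D.restrict (W i)).Iso (D.restrict (W j)) := fun i j =>
    iso (hn' i) (hn' j) (by rw [hk, hk])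
  have hU : D.Univ (W i) := univ ((wide_self (hd i)).mono le_rfl (by have := h2 i; omega))
  obtain ⟨U, hU', hM⟩ := (full_of_dec hD hW h1 i).exists_maxFull
  obtain ⟨e, he, f, hf, hef⟩ := exists_hyp_mem (hd i) (h2 i)
  rcases hW.eq_or_eq_top hD (trans hD hn) hU (fun j => irr (hn' j)) h2 hiso hU'
    (fun g hg => hM.mem_stab' hef (hU' he) (hU' hf) (h1 hg.1)
      (hU' (stab_inv_mem hg.2 he)) (hU' (stab_inv_mem hg.2 hf))) with rfl | rfl
  swap
  · exact hM.full.E_le hD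
  refine (h3 (hW.le_dec hD (i := i) (fun j hj => by have := h2 j; rw [hj] at this; simp at this)
    (fun j => ?_) fun g hg => ?_)).elim
  · obtain ⟨g, hg, h4, -⟩ := hW.exists_mem_swap hD (trans hD hn) hU (hiso i j)
    exact ⟨g, h1 ⟨hg, _, h4⟩, by rw [h4, Equiv.swap_apply_left]⟩
  refine (le_or_le_perp (U' := (W i).map (g.1 : V →ₗ[F] V)) (e := g.1 e) ⟨e, he, rfl⟩
    (hef.isom g).Q_e ((hef.isom g).not_mem_perp ⟨f, hf, rfl⟩) fun x h4 h5 h6 =>
      mem_or_perp hD hn hW h2 (hk'.imp (fun h7 j => (hk j).symm ▸ h7) fun h7 =>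
        ⟨h7.2.1, (hk i).trans h7.1, h7.2.2⟩) h1 hM h5 ((hM.full.map hg x h4 h6).rk h5)).imp_left
    fun H => D.mem_stab_iff_map.2 (Submodule.eq_of_le_of_finrank_eq H (finrank_map_isom _ g))

end Herm

end Cfsg.Lib.Forms
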