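import Cfsg.Agent.Lib.MaxU.Blk
import Cfsg.Agent.Lib.Max.C3F

/-!
# Odd degree extensions of a field with a conjugation
-/

set_option autoImplicit false

namespace Cfsg.Lib.Forms

open Module Form

open MvPolynomial in
theorem exists_common_zero {k W T : Type*} [Field k] [Finite k] [AddCommGroup W] [Module k W]
    [AddCommGroup T] [Module k T] [Module.Finite k W] [Module.Finite k T] (β : W →ₗ[k] W →ₗ[k] T)
    (S : Submodule k T) (hS : ∀ x, β x x ∈ S) (h : 2 * finrank k S < finrank k W) :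
    ∃ x ≠ 0, β x x = 0 := by
  classical
  have := Fintype.ofFinite k
  obtain ⟨p, hp⟩ := CharP.exists k
  obtain ⟨π, hπ⟩ := S.subtype.exists_leftInverse_of_injective S.ker_subtype
  let b := finBasis k W
  let c := finBasis k S
  let f : Fin (finrank k S) → MvPolynomial (Fin (finrank k W)) k := fun j =>
    ∑ i, ∑ i', C (c.repr (π (β (b i) (b i'))) j) * X i * X i'
  have h1 : ∀ j x, eval x (f j) = c.repr (π (β (b.equivFun.symm x) (b.equivFun.symm x))) j :=
    fun j x => by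
      simp only [f, map_sum, map_mul, eval_C, eval_X, Basis.equivFun_symm_apply, map_smul,
        LinearMap.sum_apply, LinearMap.smul_apply, Finsupp.coe_finsetSum, Finset.sum_apply,
        Finsupp.smul_apply, smul_eq_mul, Finset.mul_sum]
      rw [Finset.sum_comm]
      exact Finset.sum_congr rfl fun _ _ => Finset.sum_congr rfl fun _ _ => by ring
  have h2 : ∀ j, (f j).totalDegree ≤ 2 := fun j =>
    (IsHomogeneous.sum _ _ 2 fun i _ => IsHomogeneous.sum _ _ 2 fun i' _ =>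
      ((isHomogeneous_C _ _).mul (isHomogeneous_X _ i)).mul (isHomogeneous_X _ i')).totalDegree_le
  have h3 := char_dvd_card_solutions_of_fintype_sum_lt p (f := f)
    ((Finset.sum_le_sum fun j _ => h2 j).trans_lt (by simpa [mul_comm] using h))
  by_contra! H
  rw [Fintype.card_eq_nat_card, Nat.card_eq_one_iff_exists.2
    ⟨⟨0, fun i => by rw [h1]; simp⟩, fun x => Subtype.ext ?_⟩] at h3
  · exact (CharP.char_is_prime k p).one_lt.ne' (Nat.dvd_one.1 h3)
  by_contra h4
  refine H (b.equivFun.symm x.1) (b.equivFun.symm.map_ne_zero_iff.2 h4) ?_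
  have h5 : π (β (b.equivFun.symm x.1) (b.equivFun.symm x.1)) = 0 :=
    c.repr.injective (Finsupp.ext fun j => by rw [← h1, x.2]; simp)
  have h6 := LinearMap.congr_fun hπ ⟨_, hS (b.equivFun.symm x.1)⟩
  exact congrArg Subtype.val (h6.symm.trans h5)

variable {F K : Type*} [Field F] [Field K] [Algebra F K] {σ : F →+* F} {τ : K →+* K}
  {μ : K →ₗ[F] F}

variable (σ τ μ) in
/-- Compatible conjugations and a compatible functional. -/
structure Ux : Prop where
  alg : ∀ c, τ (algebraMap F K c) = algebraMap F K (σ c)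
  μτ : ∀ a, μ (τ a) = σ (μ a)
  ne : μ ≠ 0
  ττ : ∀ a, τ (τ a) = a
  nf : ∃ ω, σ ω ≠ ω

namespace Ux

variable (h : Ux σ τ μ)
include h

theorem smul (c : F) (a : K) : τ (c • a) = σ c • τ a := by
  rw [Algebra.smul_def, map_mul, h.alg, Algebra.smul_def]

theorem le_of_fixed {C W : Submodule F K} (hC : ∀ a ∈ C, τ a ∈ C)
    (H : ∀ s ∈ C, τ s = s → s ∈ W) : C ≤ W := fun a ha => by
  obtain ⟨ω, hω⟩ := h.nf
  have k : ∀ a ∈ C, a + τ a ∈ W := fun a ha =>
    H _ (add_mem ha (hC a ha)) (by rw [map_add, h.ττ, add_comm])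
  rw [← W.smul_mem_iff (sub_ne_zero.2 hω)]
  convert sub_mem (W.smul_mem (σ ω) (k a ha)) (k _ (C.smul_mem ω ha)) using 1
  rw [h.smul]; module

theorem exists_fixed {C W : Submodule F K} (hC : ∀ a ∈ C, τ a ∈ C) (H : ¬ C ≤ W) :
    ∃ s ∈ C, τ s = s ∧ s ∉ W := by
  by_contra! H'
  exact H (h.le_of_fixed hC H')

/-- The conjugation as a semilinear map. -/
def lin : K →ₛₗ[σ] K := ⟨⟨τ, map_add τ⟩, h.smul⟩

@[simp] theorem lin_apply (a : K) : h.lin a = τ a := rfl

theorem eq_zero {b : K} (H : ∀ s, τ s = s → μ (s * b) = 0) : b = 0 :=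
  eq_zero_of_comp h.ne fun a => h.le_of_fixed (C := ⊤)
    (W := LinearMap.ker (μ ∘ₗ LinearMap.mulRight F b)) (by simp) (fun s _ => H s) (x := a) trivial

theorem exists_μ {c : F} (hc : σ c = c) {b : K} (hb : τ b = b) (h0 : b ≠ 0) :
    ∃ s, τ s = s ∧ μ (s * b) = c := by
  obtain ⟨s, h1, h2⟩ : ∃ s, τ s = s ∧ μ (s * b) ≠ 0 := by
    by_contra! H; exact h0 (h.eq_zero H)
  have h3 : σ (μ (s * b)) = μ (s * b) := by rw [← h.μτ, map_mul, h1, hb]
  exact ⟨(c / μ (s * b)) • s, by rw [h.smul, h1, map_div₀, h3, hc], by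
    rw [smul_mul_assoc, map_smul, smul_eq_mul, div_mul_cancel₀ _ h2]⟩

variable [FiniteDimensional F K]

theorem exists_two (hr : 3 ≤ finrank F K) {a b : K} (H : τ a = a ∧ τ b = b ∨ τ a = b) :
    ∃ s, s ≠ 0 ∧ τ s = s ∧ μ (s * a) = 0 ∧ μ (s * b) = 0 := by
  obtain ⟨x, -, h1, h2⟩ := exists_ne_zero_kers (⊤ : Submodule F K)
    [μ ∘ₗ LinearMap.mulRight F a, μ ∘ₗ LinearMap.mulRight F b] (by simp; omega)
  have k : ∀ x y : K, μ (x * y) = 0 → μ (τ x * τ y) = 0 := fun x y H => by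
    rw [← map_mul, h.μτ, H, map_zero]
  obtain ⟨s, h3, h4, h5⟩ := h.exists_fixed (W := ⊥) (C := LinearMap.ker (μ ∘ₗ LinearMap.mulRight F a) ⊓
    LinearMap.ker (μ ∘ₗ LinearMap.mulRight F b)) (fun x hx => by
      rcases H with H | H
      · exact ⟨H.1 ▸ k x a hx.1, H.2 ▸ k x b hx.2⟩
      · exact ⟨h.ττ a ▸ k x (τ a) (H ▸ hx.2), H ▸ k x a hx.1⟩)
    fun H => h1 (H ⟨h2 _ (by simp), h2 _ (by simp)⟩)
  exact ⟨s, h5, h4, h3⟩

theorem mem_of_hyper {D : Submodule F K} (hD : finrank F K ≤ finrank F D + 1) {b : K} (hb : b ≠ 0)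
    (H : ∀ a ∈ D, μ (a * b) = 0) {a : K} (ha : μ (a * b) = 0) : a ∈ D := by
  have h1 := Submodule.finrank_lt (s := LinearMap.ker (μ ∘ₗ LinearMap.mulRight F b)) fun h1 =>
    hb (eq_zero_of_comp h.ne fun a => h1.ge trivial)
  exact (Submodule.eq_of_le_of_finrank_le (show D ≤ LinearMap.ker (μ ∘ₗ LinearMap.mulRight F b) from H)
    (by omega)).ge ha

theorem finrank_comap [Finite F] (A : Submodule F K) : finrank F (A.comap h.lin) = finrank F A := by
  have : Nat.card (A.comap h.lin) = Nat.card A := Nat.card_congr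
    ⟨fun a => ⟨τ a, a.2⟩, fun a => ⟨τ a, by simp [h.ττ]⟩, fun a => by simp [h.ττ],
      fun a => by simp [h.ττ]⟩
  rw [Module.natCard_eq_pow_finrank (K := F), Module.natCard_eq_pow_finrank (K := F) (V := A)] at this
  exact Nat.pow_right_injective (Finite.one_lt_card (α := F)) this

omit h in
theorem finrank_mul {b : K} (hb : b ≠ 0) (A : Submodule F K) :
    finrank F (A.comap (LinearMap.mulRight F b)) = finrank F A := by
  let e : K ≃ₗ[F] K := LinearEquiv.ofInjectiveEndo (LinearMap.mulRight F b) (mul_left_injective₀ hb)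
  exact (LinearEquiv.finrank_eq (e.ofSubmodule' A))

theorem finrank_le_one [Finite F] (hr : finrank F K = 3 ∨ finrank F K = 5) {D W : Submodule F K}
    (h1 : 1 ∈ D) (hd : finrank F D + finrank F W = finrank F K)
    (ho : ∀ a ∈ D, ∀ b ∈ W, μ (τ a * b) = 0)
    (H : ∀ s, τ s = s → ∀ b ∈ W, b ≠ 0 → s * b ∈ D → ∀ b' ∈ W, s * b' ∈ D) : finrank F W ≤ 1 := by
  by_contra! h2
  have k : ∀ s, s ≠ 0 → (∀ b ∈ W, s * b ∈ D) → W.comap (LinearMap.mulRight F s⁻¹) ≤ D :=
    fun s h0 H x hx => by simpa [mul_comm s, h0] using H _ hx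
  have h3 : finrank F W ≤ finrank F D := by
    by_contra! h3
    have h4 := Submodule.finrank_sup_add_finrank_inf_eq W (W.comap h.lin)
    have h5 := Submodule.finrank_le (W ⊔ W.comap h.lin)
    rw [h.finrank_comap] at h4
    obtain ⟨s, h6, h7, h8⟩ := h.exists_fixed (W := ⊥) (C := W ⊓ W.comap h.lin)
      (fun a ha => ⟨ha.2, by simpa [h.ττ] using ha.1⟩) fun H => by
        rw [le_bot_iff.1 H, finrank_bot] at h4; omega
    have := Submodule.finrank_mono (k s⁻¹ (inv_ne_zero h8)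
      (H _ (by rw [map_inv₀, h7]) s h6.1 h8 (by rwa [inv_mul_cancel₀ h8])))
    rw [finrank_mul (by simpa using h8)] at this
    omega
  have h4 : finrank F W = 2 ∧ finrank F D = 3 := by omega
  have k2 : ∀ {a b}, b ∈ W → a ∈ D → μ (a * τ b) = 0 := fun {a b} hb ha => by
    simpa [h.ττ, ho a ha b hb] using h.μτ (τ a * b)
  obtain ⟨b, b1, b0⟩ := exists_ne_zero_of_finrank_pos (U := W) (by omega)
  obtain ⟨A, hA⟩ : ∃ A, A = D.comap (LinearMap.mulRight F b) := ⟨_, rfl⟩
  have h5 := Submodule.finrank_sup_add_finrank_inf_eq A (A.comap h.lin)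
  have h6 : finrank F ↥(A ⊔ A.comap h.lin) < finrank F K :=
    (Submodule.finrank_mono (t := LinearMap.ker (μ ∘ₗ LinearMap.mulRight F (b * τ b))) (sup_le
      (fun a ha => by rw [hA] at ha; simpa [mul_assoc] using k2 b1 ha) fun a ha => by
        rw [hA] at ha
        simpa [h.ττ, mul_assoc, mul_comm b] using ho _ ha b b1)).trans_lt
      (Submodule.finrank_lt fun h1 => mul_ne_zero b0 ((map_ne_zero τ).2 b0)
        (eq_zero_of_comp h.ne fun a => h1.ge trivial))
  rw [h.finrank_comap, hA, finrank_mul b0, ← hA] at h5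
  have k3 : ∀ U : Submodule F K, finrank F U ≤ 1 → ∃ s, τ s = s ∧ s ∉ U ∧ ∀ b' ∈ W, s * b' ∈ D :=
    fun U hU => by
      obtain ⟨s, h6, h7, h8⟩ := h.exists_fixed (W := U) (C := A ⊓ A.comap h.lin)
        (fun a ha => ⟨ha.2, by simpa [h.ττ] using ha.1⟩) fun H => by
          have := Submodule.finrank_mono H; omega
      exact ⟨s, h7, h8, H s h7 b b1 b0 (by rw [hA] at h6; exact h6.1)⟩
  obtain ⟨s₁, s1, s0, s2⟩ := k3 ⊥ (by simp)
  obtain ⟨s₂, t1, t0, t2⟩ := k3 (F ∙ s₁) (finrank_span_singleton_le _)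
  have t3 : s₂ ≠ 0 := by rintro rfl; simp at t0
  replace s0 : s₁ ≠ 0 := by simpa using s0
  have h7 := Submodule.finrank_sup_add_finrank_inf_eq (W.comap (LinearMap.mulRight F s₁⁻¹))
    (W.comap (LinearMap.mulRight F s₂⁻¹))
  have h8 := Submodule.finrank_mono (sup_le (k _ s0 s2) (k _ t3 t2))
  rw [finrank_mul (inv_ne_zero s0), finrank_mul (inv_ne_zero t3)] at h7
  obtain ⟨x, ⟨x1, x2⟩, x0⟩ := exists_ne_zero_of_finrank_pos (U := W.comap (LinearMap.mulRight F s₁⁻¹) ⊓
    W.comap (LinearMap.mulRight F s₂⁻¹)) (by omega)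
  obtain ⟨s, hs⟩ : ∃ s, s = s₂ / s₁ := ⟨_, rfl⟩
  obtain ⟨y, hy⟩ : ∃ y, y = x * s₂⁻¹ := ⟨_, rfl⟩
  have y0 : y ≠ 0 := hy ▸ mul_ne_zero x0 (inv_ne_zero t3)
  have y1 : y ∈ W := hy ▸ x2
  have y2 : s * y ∈ W := by convert x1 using 1; rw [hs, hy]; simp; field_simp
  have y3 : τ s = s := by rw [hs, map_div₀, s1, t1]
  have y4 : ∀ c : F, algebraMap F K c ≠ s := fun c hc => t0 (Submodule.mem_span_singleton.2
    ⟨c, by rw [Algebra.smul_def, hc, hs, div_mul_cancel₀ _ s0]⟩)
  have y5 : ∀ a, μ (a * τ y) = 0 → μ (a * (s * τ y)) = 0 → a ∈ D := fun a a1 a2 => by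
    have h9 := Submodule.finrank_lt_finrank_of_lt (s := LinearMap.ker (μ ∘ₗ LinearMap.mulRight F (τ y)) ⊓
      LinearMap.ker (μ ∘ₗ LinearMap.mulRight F (s * τ y)))
      (t := LinearMap.ker (μ ∘ₗ LinearMap.mulRight F (τ y))) (lt_of_le_of_ne inf_le_left fun h9 => ?_)
    · have h10 := Submodule.finrank_lt (s := LinearMap.ker (μ ∘ₗ LinearMap.mulRight F (τ y))) fun h1 =>
        (map_ne_zero τ).2 y0 (eq_zero_of_comp h.ne fun a => h1.ge trivial)
      exact (Submodule.eq_of_le_of_finrank_le (show D ≤ LinearMap.ker (μ ∘ₗ LinearMap.mulRight F (τ y)) ⊓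
        LinearMap.ker (μ ∘ₗ LinearMap.mulRight F (s * τ y)) from fun a ha => ⟨k2 y1 ha, by
          simpa [y3, mul_assoc] using k2 y2 ha⟩) (by omega)).ge ⟨a1, a2⟩
    obtain ⟨z, hz⟩ := LinearMap.surjective_of_ne_zero h.ne 1
    refine y4 (μ (z * s)) (sub_eq_zero.1 (eq_zero_of_comp h.ne fun a => ?_))
    have : μ (_ * _) = 0 := (h9.ge (x := (a - μ a • z) / τ y) (by simp [y0, hz])).2
    rw [show (a - μ a • z) / τ y * (s * τ y) = a * s - μ a • (z * s) by
      have := (map_ne_zero τ).2 y0; rw [← smul_mul_assoc]; field_simp] at this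
    rw [mul_sub, mul_comm a, ← Algebra.smul_def]
    simp only [map_sub, map_smul, smul_eq_mul] at this ⊢
    linear_combination -this
  obtain ⟨c, hc⟩ := mem_range_of_stable (V := K) (T := D) (v := 1) (b := s)
    (by rcases hr with hr | hr <;> rw [hr] <;> decide) h1 one_ne_zero (self_mem_ln _) (fun H => by
      have := Submodule.finrank_mono H; rw [finrank_ln one_ne_zero] at this; omega) fun x hx => by
    have := h.le_of_fixed (C := D.comap (LinearMap.mulRight F y))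
      (W := D.comap (LinearMap.mulRight F (s * y))) (fun a ha => y5 _
        (by simpa [mul_assoc, mul_comm y] using ho _ ha y y1)
        (by simpa [mul_assoc, mul_comm y, mul_left_comm (τ y)] using ho _ ha _ y2))
      (fun a ha a1 => H a a1 y y1 y0 ha _ y2) (x := x / y) (by simpa [y0] using hx)
    simpa [mul_comm s, ← mul_assoc, y0] using this
  exact y4 c hc

end Ux

end Cfsg.Lib.Forms
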