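import Cfsg.Agent.Lib.MaxU.C3A

/-!
# Overgroups of extension field subgroups of unitary groups: the shape
-/

set_option autoImplicit false

namespace Cfsg.Lib.Forms

open Module Form Herm

variable {F K V : Type*} [Field F] [Field K] [Algebra F K] [AddCommGroup V] [Module F V]
  [Module K V] [IsScalarTower F K V] [FiniteDimensional F V] [FiniteDimensional K V]
  {σ : F →+* F} {q : ℕ} {h : IsConj σ q} {τ : K →+* K} {q' : ℕ} {h' : IsConj τ q'}

/-- A unitary space over an extension field of degree three or five. -/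
structure C3U (D : Form h.kind V) (D' : Form h'.kind V) (μ : K →ₗ[F] F) (X : Subgroup D.isom) :
    Prop where
  ux : Ux σ τ μ
  nd : D.Nondeg
  nd' : D'.Nondeg
  B : ∀ x y, D.B x y = μ (D'.B x y)
  mem : ∀ g ∈ D'.E, ∃ k ∈ X, ∀ x, k.1 x = g.1 x
  rk : finrank F K = 3 ∨ finrank F K = 5
  two : 2 ≤ finrank K V

namespace C3U

variable {D : Form h.kind V} {D' : Form h'.kind V} {μ : K →ₗ[F] F} {X : Subgroup D.isom}
  (c : C3U D D' μ X)
include c

omit [FiniteDimensional F V] in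
theorem exists_smul (A : V →ₗ[F] V) (hA : ∀ x, D'.Q x = 0 → A x ∈ K ∙ x) :
    ∃ a : K, ∀ x, A x = a • x := by
  obtain ⟨θ, θ0, hθ⟩ := h'.exists_trace_zero
  have key : ∀ {x y : V} {a : K}, D'.Q x = 0 → D'.Q y = 0 → D'.B x y ≠ 0 → A x = a • x →
      A y = a • y := fun {x y a} hx hy h0 h1 => by
    have k : ∀ s, τ s = s → A ((s * θ / D'.B x y) • y) = a • (s * θ / D'.B x y) • y := fun s hs => by
      obtain ⟨b, hb⟩ := Submodule.mem_span_singleton.1 (hA _ (D'.Q_smul_of_Q hy (s * θ / D'.B x y)))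
      obtain ⟨d, hd⟩ := Submodule.mem_span_singleton.1 (hA (x + (s * θ / D'.B x y) • y) (by
        rw [D'.Q_add_smul hy, hx, div_mul_cancel₀ _ h0, hermKind_tr, map_mul, hs]
        linear_combination s * hθ))
      rw [map_add, h1, ← hb] at hd
      have h2 := congrArg (D'.B y) hd
      simp only [D'.B_lin, D'.B_self_of_Q hy, mul_zero, add_zero,
        mul_left_inj' (D'.ne_zero_symm h0)] at h2
      rw [← hb]
      linear_combination (norm := module) h2 • (x + (s * θ / D'.B x y) • y) - hd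
    have := c.ux.le_of_fixed (C := ⊤) (W := LinearMap.ker ((A - (LinearMap.lsmul K V a).restrictScalars F) ∘ₗ
      (LinearMap.toSpanSingleton K V ((θ / D'.B x y) • y)).restrictScalars F)) (by simp)
      (fun s _ hs => by simpa [sub_eq_zero, smul_smul, mul_div_assoc, mul_comm a] using k s hs)
      (x := D'.B x y / θ) trivial
    simpa [sub_eq_zero, smul_smul, θ0, h0] using this
  obtain ⟨e, f, hef⟩ := Herm.exists_isHyp c.nd' c.two
  obtain ⟨a, ha⟩ := Submodule.mem_span_singleton.1 (hA e hef.Q_e)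
  have h1 := key hef.Q_e hef.Q_f (by simp [hef.B_ef]) ha.symm
  refine ⟨a, hef.induction_singular (fun x hx => ?_) fun x y h1 h2 => by rw [map_add, h1, h2, smul_add]⟩
  by_cases h2 : D'.B e x = 0
  swap
  · exact key hef.Q_e hx h2 ha.symm
  by_cases h3 : D'.B f x = 0
  swap
  · exact key hef.Q_f hx h3 h1
  have := key (y := e + x) hef.Q_f (by rw [D'.Q_add_of_B h2, hx, hef.Q_e, add_zero])
    (by simp [h3, hef.B_fe]) h1
  rwa [map_add, ← ha, smul_add, add_right_inj] at this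

theorem le_nK (H : ∀ g ∈ X, ∀ v, D'.Q v = 0 → ∀ a : K, g.1 (a • v) ∈ ln F K (g.1 v)) :
    X ≤ (nK F K V).comap D.isom.subtype := by
  refine Subgroup.map_le_iff_le_comap.1 (Forms.le_nK ?_)
  rintro _ ⟨g, hg, rfl⟩ a
  obtain ⟨b, hb⟩ := c.exists_smul (g.1 ∘ₗ (LinearMap.lsmul K V a).restrictScalars F ∘ₗ (g⁻¹).1)
    fun x hx => by
      by_cases h0 : x = 0
      · simp [h0]
      have h1 : (ln F K x).map ((g⁻¹).1 : V →ₗ[F] V) = ln F K ((g⁻¹).1 x) := by
        refine Submodule.eq_of_le_of_finrank_eq ?_ (by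
          rw [finrank_map_lin, finrank_ln h0, finrank_ln (F := F) (by simpa using h0)])
        rintro _ ⟨y, hy, rfl⟩
        obtain ⟨d, rfl⟩ := mem_ln.1 hy
        exact H _ (X.inv_mem hg) x hx d
      obtain ⟨y, hy, h2⟩ := h1.ge (smul_mem_ln a _)
      change g.1 (a • (g⁻¹).1 x) ∈ _
      rw [← h2, LinearEquiv.coe_coe, isom_apply_inv]; exact hy
  exact ⟨b, fun x => by simpa using hb (g.1 x)⟩

omit [FiniteDimensional K V] in
theorem fin : FiniteDimensional F K := Module.finite_of_finrank_pos (by have := c.rk; omega)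

omit [FiniteDimensional K V] in
theorem exists_iso {L : Submodule F V} (hL : finrank F L = finrank F K)
    (H : ∀ x ∈ L, D.B x x = 0) : ∃ t ∈ L, t ≠ 0 ∧ D'.Q t = 0 := by
  have := h.finite
  have := h'.finite
  have := c.fin
  let k : Subfield F := σ.eqLocusField (RingHom.id F)
  have hk : Nat.card k = q := h.card_fixed
  have k1 : ∀ (a : k) (s : K), τ (a • s) = a • τ s := fun a s =>
    (c.ux.smul a s).trans (by rw [show σ a = a from a.2]; rfl)
  let S₀ : Submodule k K :=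
    { carrier := {s | τ s = s}
      add_mem' := fun h1 h2 => by rw [Set.mem_ofPred_eq, map_add, h1, h2]
      zero_mem' := map_zero τ
      smul_mem' := fun a s hs => (k1 a s).trans (by rw [hs]) }
  let β : L →ₗ[k] L →ₗ[k] K := LinearMap.mk₂ k (fun x y => D'.B x y) (by simp)
    (fun a x y => by
      change D'.B ((a : F) • x) y = (a : F) • _
      rw [← algebraMap_smul K, B_smul_left, c.ux.alg, show σ a = a from a.2, Algebra.smul_def])
    (by simp) fun a x y => by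
      change D'.B x ((a : F) • y) = (a : F) • _
      rw [← algebraMap_smul K, B_smul_right, Algebra.smul_def]
  have : Finite V := Module.finite_of_finite F
  obtain ⟨x, x0, hx⟩ := exists_common_zero β (S₀ ⊓ LinearMap.ker (μ.restrictScalars k))
    (fun x => ⟨herm_symm D' _ _, (c.B _ _).symm.trans (H _ x.2)⟩) (by
      obtain ⟨s, s1, s2⟩ := c.ux.exists_μ (map_one σ) (map_one τ) one_ne_zero
      have h1 := Submodule.finrank_lt_finrank_of_lt (lt_of_le_of_ne
        (inf_le_left (a := S₀) (b := LinearMap.ker (μ.restrictScalars k))) fun h1 => by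
          have : μ s = 0 := (h1.ge s1).2
          simp [this] at s2)
      have h2 : q' = q ^ finrank k S₀ := by
        rw [← hk, ← Module.natCard_eq_pow_finrank]; exact h'.card_fixed.symm
      have h3 := Module.natCard_eq_pow_finrank (K := k) (V := L)
      rw [Module.natCard_eq_pow_finrank (K := F), hL, ← Module.natCard_eq_pow_finrank, h'.card, h2,
        hk, ← pow_mul] at h3
      have := Nat.pow_right_injective h.two_le h3
      omega)
  exact ⟨x, x.2, by simpa using x0, (herm_Q _ _).trans hx⟩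

omit [FiniteDimensional F V] [FiniteDimensional K V] in
theorem B_ln {v x y : V} (hv : D'.Q v = 0) (hx : x ∈ ln F K v) (hy : y ∈ ln F K v) : D.B x y = 0 := by
  obtain ⟨a, rfl⟩ := mem_ln.1 hx
  obtain ⟨b, rfl⟩ := mem_ln.1 hy
  simp [c.B, D'.B_lin, D'.B_self_of_Q hv]

omit [FiniteDimensional F V] [FiniteDimensional K V] in
theorem exists_tv {t : V} (ht : D'.Q t = 0) {a : K} (ha : a + τ a = 0) :
    ∃ k ∈ X, ∀ x, k.1 x = x + (a * D'.B t x) • t :=
  c.mem _ (rk1_mem_E ((Herm.isRk1_iff_of_Q_eq_zero ht).2 ha) ht)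

omit [FiniteDimensional F V] [FiniteDimensional K V] in
theorem exists_eich {t z : V} (ht : D'.Q t = 0) (hz : D'.B t z = 0) : ∃ k ∈ X, ∃ d : K,
    ∀ x, k.1 x = x + D'.B z x • t - D'.B t x • (z + d • t) := by
  obtain ⟨d, hd⟩ := exists_isEich ht hz
  obtain ⟨k, k1, k2⟩ := c.mem _ (eich_mem_E _ _ _ hd)
  exact ⟨k, k1, d, fun x => by simp [k2, eich_apply]⟩

theorem exists_shape (H : ¬ X ≤ (nK F K V).comap D.isom.subtype) :
    ∃ g ∈ X, ∃ v u p L, D'.Q v = 0 ∧ (ln F K v).map (g.1 : V →ₗ[F] V) = L ∧ D'.Q u = 0 ∧ u ≠ 0 ∧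
      (∃ w ∈ L, D.B p w ≠ 0) ∧ ∀ s : K, τ s = s → μ s = 0 →
        s • u ∈ L ∧ ∃ k ∈ X, ∀ x ∈ L, k.1 x = x + D.B p x • s • u := by
  have := c.fin
  have := h.finite
  have hr : (finrank F K).Prime := by rcases c.rk with h | h <;> rw [h] <;> decide
  let P : Submodule F V → Prop := fun U => ∃ g ∈ X, ∃ v, v ≠ 0 ∧ D'.Q v = 0 ∧
    (ln F K v).map (g.1 : V →ₗ[F] V) = U
  have Pm : ∀ U, P U → ∀ g ∈ X, P (U.map (g.1 : V →ₗ[F] V)) := by
    rintro U ⟨k, hk, v, hv, hv', rfl⟩ g hg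
    exact ⟨g * k, X.mul_mem hg hk, v, hv, hv', map_lin_mul _ _ _⟩
  have Pl : ∀ v, v ≠ 0 → D'.Q v = 0 → P (ln F K v) := fun v hv hv' =>
    ⟨1, X.one_mem, v, hv, hv', Submodule.map_id _⟩
  have Pr : ∀ U, P U → finrank F U = finrank F K := by
    rintro U ⟨k, hk, v, hv, -, rfl⟩; rw [finrank_map_lin, finrank_ln hv]
  have Pt : ∀ U, P U → ∀ x ∈ U, ∀ y ∈ U, D.B x y = 0 := by
    rintro U ⟨k, hk, v, -, hv, rfl⟩ _ ⟨x, hx, rfl⟩ _ ⟨y, hy, rfl⟩
    exact (B_isom k x y).trans (c.B_ln hv hx hy)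
  obtain ⟨g, hg, v, hv', a, h0⟩ : ∃ g ∈ X, ∃ v, D'.Q v = 0 ∧ ∃ a : K,
      g.1 (a • v) ∉ ln F K (g.1 v) := by
    by_contra! H'; exact H (c.le_nK H')
  have hv : v ≠ 0 := by rintro rfl; exact h0 (by simp)
  have P0 := Pm _ (Pl _ hv hv') g hg
  obtain ⟨t₀, t1, t2, t3⟩ := c.exists_iso (Pr _ P0) fun x hx => Pt _ P0 x hx x hx
  obtain ⟨A, B, ⟨k, hk, v₁, hv₁, hv₁', rfl⟩, hB, hne, hle, hmax⟩ := exists_max_inter P (Pl _ t2 t3)
    P0 fun h1 => h0 (by
      rw [ln_eq (x := g.1 v) (h1.ge ⟨v, self_mem_ln v, rfl⟩) (by simpa using hv)]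
      exact h1.ge ⟨_, smul_mem_ln a v, rfl⟩)
  have hpos : 0 < finrank F ↥(ln F K t₀ ⊓ (ln F K v).map (g.1 : V →ₗ[F] V)) :=
    Module.finrank_pos_iff_exists_ne_zero.2 ⟨⟨t₀, self_mem_ln _, t1⟩,
      fun h => t2 (congrArg Subtype.val h)⟩
  obtain ⟨L, hL⟩ : ∃ L, L = B.map ((k.1⁻¹ : V ≃ₗ[F] V) : V →ₗ[F] V) := ⟨_, rfl⟩
  have PL : P L := hL ▸ Pm _ hB _ (X.inv_mem hk)
  have hne' : ln F K v₁ ≠ L := fun h => hne (by
    rw [h, hL, ← map_lin_mul, mul_inv_cancel]; exact Submodule.map_id B)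
  have hk' : finrank F ↥(ln F K v₁ ⊓ L) =
      finrank F ↥((ln F K v₁).map (k.1 : V →ₗ[F] V) ⊓ B) := by
    rw [← finrank_map_lin _ k.1, Submodule.map_inf _ k.1.injective, hL, ← map_lin_mul, mul_inv_cancel]
    rw [show B.map ((1 : V ≃ₗ[F] V) : V →ₗ[F] V) = B from Submodule.map_id B]
  rw [← hk'] at hle hmax
  obtain ⟨t, ⟨ht1, ht2⟩, ht0⟩ := exists_ne_zero_of_finrank_pos (lt_of_lt_of_le hpos hle)
  have ht : D'.Q t = 0 := by obtain ⟨b, rfl⟩ := mem_ln.1 ht1; exact D'.Q_smul_of_Q hv₁' b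
  rw [← ln_eq ht1 ht0] at hne' hmax
  clear hle hk' hL hne hB ht1 hpos hv h0 hg hk t1 t2 t3 P0 hv₁' hv₁ hv'
  have nle : ¬ ∀ a : K, a • t ∈ L := fun h1 => hne' (Submodule.eq_of_le_of_finrank_eq
    (fun x hx => by obtain ⟨a, rfl⟩ := mem_ln.1 hx; exact h1 a) (by rw [finrank_ln ht0, Pr L PL]))
  have stab : ∀ w ∈ L, w ∉ ln F K t → ∀ k ∈ X, (∀ a : K, k.1 (a • t) = a • t) →
      k.1 w - w ∈ ln F K t ⊓ L → ∀ x ∈ L, k.1 x - x ∈ L := by
    intro w hw hw' k hk h1 h3 x hx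
    have h4 : ∀ y ∈ ln F K t, k.1 y = y := fun y hy => by
      obtain ⟨a, rfl⟩ := mem_ln.1 hy; exact h1 a
    have : L = L.map (k.1 : V →ₗ[F] V) := hmax _ _ PL (Pm _ PL k hk)
      (Submodule.finrank_lt_finrank_of_lt
      (lt_of_le_of_ne (fun y hy => ⟨hy.2, y, hy.2, h4 y hy.1⟩) fun h5 => hw' ?_))
    · exact sub_mem (this.ge ⟨x, hx, rfl⟩) hx
    · have h6 : w ∈ L ⊓ L.map (k.1 : V →ₗ[F] V) := ⟨hw, w - (k.1 w - w), L.sub_mem hw h3.2, by
        simp only [LinearEquiv.coe_coe, map_sub k.1 w, h4 _ h3.1]; abel⟩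
      rw [← h5] at h6; exact h6.1
  obtain ⟨θ, θ0, hθ⟩ := h.exists_trace_zero
  have θ1 : ∀ s, τ s = s → θ • s + τ (θ • s) = 0 := fun s hs => by
    rw [c.ux.smul, hs, ← add_smul, hθ, zero_smul]
  let T : Submodule F K := L.comap ((LinearMap.toSpanSingleton K V t).restrictScalars F)
  have hT : ∀ a, a ∈ T ↔ a • t ∈ L := fun _ => Iff.rfl
  have tv : ∀ w ∈ L, w ∉ ln F K t → ∀ s, τ s = s → s * D'.B t w ∈ T → ∀ x ∈ L,
      s * D'.B t x ∈ T := fun w hw hw' s hs h1 x hx => by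
    obtain ⟨k, k1, k2⟩ := c.exists_tv ht (θ1 s hs)
    have := stab w hw hw' k k1 (fun a => by simp [k2, D'.B_self_of_Q ht]) (by
      rw [k2, add_sub_cancel_left, smul_mul_assoc, smul_assoc]
      exact ⟨Submodule.smul_mem _ _ (smul_mem_ln _ _), L.smul_mem _ h1⟩) x hx
    rwa [k2, add_sub_cancel_left, smul_mul_assoc, smul_assoc, L.smul_mem_iff θ0] at this
  have hd : finrank F T = finrank F ↥(ln F K t ⊓ L) := by
    rw [LinearEquiv.finrank_eq (Submodule.equivMapOfInjective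
      ((LinearMap.toSpanSingleton K V t).restrictScalars F) (smul_left_injective K ht0) T),
      Submodule.map_comap_eq, show LinearMap.range ((LinearMap.toSpanSingleton K V t).restrictScalars F)
        = ln F K t from Submodule.ext fun x => (mem_ln (v := t)).symm]
  obtain ⟨w, hw, hw', dec, b, b0, hb, hk⟩ : ∃ w ∈ L, w ∉ ln F K t ∧
      (∀ x ∈ L, ∃ d : F, x - d • w ∈ ln F K t) ∧ ∃ b : K, b ≠ 0 ∧ (∀ a ∈ T, μ (a * b⁻¹) = 0) ∧
        ∀ s, τ s = s → ∃ k ∈ X, (∀ a : K, k.1 (a • t) = a • t) ∧ k.1 w = w + (s * b) • t := by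
    by_cases hI : ∃ w ∈ L, w ∉ ln F K t ∧ D'.B t w = 0
    · obtain ⟨w, hw, hw', h0⟩ := hI
      have h1 : ∀ x ∈ L, D'.B t x = 0 := fun x hx => by
        by_contra h1
        refine nle fun a => ?_
        have := c.ux.le_of_fixed (C := ⊤) (W := T.comap (LinearMap.mulRight F (D'.B t x))) (by simp)
          (fun s _ hs => tv w hw hw' s hs (by simp [h0]) x hx) (x := a / D'.B t x) trivial
        simpa [h1, hT] using this
      have h2 : ∀ z, D'.B t z = 0 → ∃ k ∈ X, (∀ a : K, k.1 (a • t) = a • t) ∧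
          ∀ x ∈ L, k.1 x = x + D'.B z x • t := fun z hz => by
        obtain ⟨k, k1, d, k2⟩ := c.exists_eich ht hz
        exact ⟨k, k1, fun a => by simp [k2, D'.B_self_of_Q ht, D'.eq_zero_symm hz],
          fun x hx => by simp [k2, h1 x hx]⟩
      have h3 : ∀ z, D'.B t z = 0 → D'.B z w ∈ T → ∀ x ∈ L, D'.B z x ∈ T := fun z hz h3 x hx => by
        obtain ⟨k, k1, k2, k3⟩ := h2 z hz
        have := stab w hw hw' k k1 k2 (by
          rw [k3 w hw, add_sub_cancel_left]; exact ⟨smul_mem_ln _ _, h3⟩) x hx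
        rwa [k3 x hx, add_sub_cancel_left] at this
      have h4 : ∀ a, ∃ z, D'.B t z = 0 ∧ D'.B z w = a := fun a => by
        obtain ⟨z, z1, z2⟩ := c.nd'.exists_perp_B_eq (H := K ∙ t) hw' a
        exact ⟨z, D'.mem_perp_span_singleton.1 z1, z2⟩
      obtain ⟨a₀, ha₀⟩ := not_forall.1 nle
      obtain ⟨φ, p1, p2⟩ := exists_functional (W := T) ha₀ 1
      obtain ⟨ψ, hψ⟩ := exists_comp (V := K) c.ux.ne φ
      have p3 : ∀ a, φ a = μ (a * ψ 1) := fun a => by
        rw [hψ, ← smul_eq_mul, ← map_smul, smul_eq_mul, mul_one]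
      refine ⟨w, hw, hw', fun x hx => ?_, (ψ 1)⁻¹, fun h => by simp [p3, inv_eq_zero.1 h] at p1,
        fun a ha => by rw [inv_inv, ← p3, p2 a ha], fun s _ => ?_⟩
      swap
      · obtain ⟨z, z1, z2⟩ := h4 (s * (ψ 1)⁻¹)
        obtain ⟨k, k1, k2, k3⟩ := h2 z z1
        exact ⟨k, k1, k2, by rw [k3 w hw, z2]⟩
      have h5 : x ∈ (K ∙ t) ⊔ K ∙ w := by
        by_contra h5
        obtain ⟨z, z1, z2⟩ := c.nd'.exists_perp_B_eq h5 a₀
        rw [perp_sup, Submodule.mem_inf, mem_perp_span_singleton, mem_perp_span_singleton] at z1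
        exact ha₀ (z2 ▸ h3 z z1.1 (by simp [D'.eq_zero_symm z1.2]) x hx)
      obtain ⟨y, hy, z, hz, rfl⟩ := Submodule.mem_sup.1 h5
      obtain ⟨b, rfl⟩ := Submodule.mem_span_singleton.1 hz
      obtain ⟨d, rfl⟩ := mem_range_of_stable (V := K) (T := T) (b := b) (v := 1) hr
        (show (1 : K) ∈ T by simpa [hT] using ht2) one_ne_zero (self_mem_ln _)
        (fun h => ha₀ (h (mem_ln.2 ⟨a₀, by simp⟩))) fun a ha => by
          obtain ⟨z, z1, z2⟩ := h4 a
          obtain ⟨e, rfl⟩ := Submodule.mem_span_singleton.1 hy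
          simpa [z2, D'.eq_zero_symm z1] using h3 z z1 (z2 ▸ ha) _ hx
      exact ⟨d, by simpa [ln] using hy⟩
    push Not at hI
    obtain ⟨w, hw, hw'⟩ : ∃ w ∈ L, w ∉ ln F K t := by
      by_contra! H
      exact hne' (Submodule.eq_of_le_of_finrank_eq H (by rw [finrank_ln ht0, Pr L PL])).symm
    have b0 := hI w hw hw'
    have o : ∀ a ∈ T, ∀ x ∈ L, μ (τ a * D'.B t x) = 0 := fun a ha x hx => by
      rw [← B_smul_left, ← c.B]; exact Pt L PL _ ha x hx
    have l0 : ∀ x ∈ ln F K t, D'.B t x = 0 := fun x hx => by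
      obtain ⟨a, rfl⟩ := mem_ln.1 hx; simp [D'.B_self_of_Q ht]
    have h1 := c.ux.finrank_le_one c.rk (D := T) (W := L.map ((D'.B t).restrictScalars F))
      (by simpa [hT] using ht2) (by
        have := LinearMap.finrank_range_add_finrank_ker (((D'.B t).restrictScalars F).domRestrict L)
        rw [LinearMap.range_domRestrict, LinearMap.ker_domRestrict, Pr L PL,
          show (LinearMap.ker ((D'.B t).restrictScalars F)).comap L.subtype =
            (ln F K t ⊓ L).comap L.subtype from Submodule.ext fun x =>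
              ⟨fun hx => ⟨by_contra fun h => hI x x.2 h hx, x.2⟩, fun hx => l0 _ hx.1⟩,
          (Submodule.comapSubtypeEquivOfLe inf_le_right).finrank_eq] at this
        omega)
      (by rintro a ha _ ⟨x, hx, rfl⟩; exact o a ha x hx) (by
        rintro s hs _ ⟨x, hx, rfl⟩ h0 h1 _ ⟨y, hy, rfl⟩
        exact tv x hx (fun h => h0 (l0 x h)) s hs h1 y hy)
    refine ⟨w, hw, hw', fun x hx => ?_, θ • (τ (D'.B t w))⁻¹, by simp [θ0, b0], fun a ha => ?_,
      fun s hs => ?_⟩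
    · obtain ⟨d, hd⟩ := Submodule.mem_span_singleton.1 ((Submodule.eq_of_le_of_finrank_le
        ((Submodule.span_singleton_le_iff_mem _ _).2 (Submodule.mem_map_of_mem hw))
        (h1.trans (finrank_span_singleton b0).ge)).ge ⟨x, hx, rfl⟩)
      change d • D'.B t w = D'.B t x at hd
      refine ⟨d, by_contra fun h => hI _ (L.sub_mem hx (L.smul_mem d hw)) h ?_⟩
      rw [B_sub_right, ← algebraMap_smul K, B_smul_right, ← Algebra.smul_def, hd, sub_self]
    · have := c.ux.μτ (τ a * D'.B t w)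
      rw [o a ha w hw, map_mul, c.ux.ττ, map_zero] at this
      rw [smul_inv₀, inv_inv, mul_smul_comm, map_smul, this, smul_zero]
    · obtain ⟨k, k1, k2⟩ := c.exists_tv ht (θ1 (s / (D'.B t w * τ (D'.B t w))) (by
        rw [map_div₀, hs, map_mul, c.ux.ττ, mul_comm]))
      refine ⟨k, k1, fun a => by simp [k2, D'.B_self_of_Q ht], ?_⟩
      rw [k2, smul_mul_assoc, mul_smul_comm]
      congr 3
      have := (map_ne_zero τ).2 b0
      field_simp
  obtain ⟨p, p1, p2⟩ := c.nd.exists_perp_B_eq (H := ln F K t ⊓ L) (a := w) (fun h' => hw' h'.1) 1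
  rw [mem_perp'] at p1
  have h1 : L ≤ (ln F K t ⊓ L) ⊔ F ∙ w := fun x hx => by
    obtain ⟨d, hd⟩ := dec x hx
    rw [← sub_add_cancel x (d • w)]
    exact Submodule.add_mem_sup ⟨hd, L.sub_mem hx (L.smul_mem d hw)⟩
      (Submodule.smul_mem _ _ (Submodule.mem_span_singleton_self w))
  have h2 := Submodule.finrank_mono h1
  have h3 := Submodule.finrank_add_le_finrank_add_finrank (ln F K t ⊓ L) (F ∙ w)
  have h4 := finrank_span_singleton_le w (F := F)
  rw [Pr L PL] at h2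
  obtain ⟨g, hg, v, -, hv, hgL⟩ := PL
  refine ⟨g, hg, v, b • t, p, L, hv, hgL, D'.Q_smul_of_Q ht b, smul_ne_zero b0 ht0,
    ⟨w, hw, by simp [p2]⟩, fun s s1 s2 => ⟨?_, ?_⟩⟩
  · rw [smul_smul, ← hT]
    exact c.ux.mem_of_hyper (by omega) (inv_ne_zero b0) hb (by rwa [mul_inv_cancel_right₀ b0])
  obtain ⟨k, k1, k2, k3⟩ := hk s s1
  refine ⟨k, k1, fun x hx => ?_⟩
  obtain ⟨d, hd⟩ := dec x hx
  have h5 := p1 _ ⟨hd, L.sub_mem hx (L.smul_mem d hw)⟩
  obtain ⟨e, he⟩ := mem_ln.1 hd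
  rw [B_sub_right, B_smul_right, p2, mul_one, sub_eq_zero] at h5
  rw [h5, ← sub_add_cancel x (d • w), ← he, map_add, k2, map_smul, k3, smul_smul s]
  module

end C3U

end Cfsg.Lib.Forms
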