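import Cfsg.Agent.Lib.MaxU.C3B

/-!
# Overgroups of extension field subgroups of unitary groups: generation
-/

set_option autoImplicit false

namespace Cfsg.Lib.Forms

open Module Form Herm

section
variable {F V : Type*} [Field F] [AddCommGroup V] [Module F V] {σ : F →+* F} {q : ℕ}
  {h : IsConj σ q} {D : Form h.kind V} {X : Subgroup D.isom}

/-- The maps `N : V/L → L` with `1 + N ∈ X`. -/
def Nz (X : Subgroup D.isom) (L : Submodule F V) : AddSubgroup (V →ₗ[F] V) where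
  carrier := {N | (∀ x ∈ L, N x = 0) ∧ (∀ x, N x ∈ L) ∧ ∃ g ∈ X, ∀ x, g.1 x = x + N x}
  zero_mem' := ⟨fun _ _ => rfl, fun _ => L.zero_mem, 1, X.one_mem, by simp⟩
  add_mem' := by
    rintro N M ⟨h1, h2, g, hg, h3⟩ ⟨h4, h5, k, hk, h6⟩
    refine ⟨fun x hx => by simp [h1 x hx, h4 x hx], fun x => L.add_mem (h2 x) (h5 x),
      g * k, X.mul_mem hg hk, fun x => ?_⟩
    simp only [isom_mul_apply, h6, h3, map_add, h1 _ (h5 x), LinearMap.add_apply]
    module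
  neg_mem' := by
    rintro N ⟨h1, h2, g, hg, h3⟩
    exact ⟨fun x hx => by simp [h1 x hx], fun x => L.neg_mem (h2 x), g⁻¹, X.inv_mem hg, fun x => by
      rw [isom_inv_apply_eq]; simp [h3, h1 _ (h2 x)]⟩

variable (D) in
/-- The map `x ↦ B y x • z`. -/
def Sm (y z : V) : V →ₗ[F] V := (D.B y).smulRight z

@[simp] theorem Sm_apply (y z x : V) : Sm D y z x = D.B y x • z := rfl

theorem Nz.key (hD : D.Nondeg) {L : Submodule F V} (hL : ∀ x ∈ L, ∀ y ∈ L, D.B x y = 0)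
    {N : V →ₗ[F] V} (hN : N ∈ Nz X L) {k : D.isom} (hk : k ∈ X) {p u : V} (hu : u ∈ L)
    (H : ∀ x ∈ L, k.1 x = x + D.B p x • u) [FiniteDimensional F V] :
    Sm D u (N p) - Sm D (N p) u + D.B p (N p) • Sm D u u ∈ Nz X L := by
  obtain ⟨h1, h2, g, hg, h3⟩ := id hN
  have n3 : ∀ x y, D.B x (N y) = -D.B (N x) y := fun x y => by
    have := B_isom g x y
    simp only [h3, D.B_lin, hL _ (h2 x) _ (h2 y)] at this
    linear_combination this
  have n5 : ∀ x ∈ D.perp L, N x = 0 := fun x hx => hD.ext' fun y => by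
    rw [n3, B_zero_right, hx _ (h2 y), neg_zero]
  have kL : ∀ x ∈ L, k.1 x ∈ L := fun x hx => H x hx ▸ L.add_mem hx (L.smul_mem _ hu)
  have n6 : k.1 ∘ₗ N ∘ₗ (k⁻¹).1 ∈ Nz X L :=
    ⟨fun x hx => (congrArg k.1 (h1 _ (stab_inv_mem (D.mem_stab_of_mapsTo kL) hx))).trans (map_zero _),
      fun x => kL _ (h2 _),
      k * g * k⁻¹, mul_mem (mul_mem hk hg) (inv_mem hk), fun x => by simp [isom_mul_apply, h3]⟩
  convert sub_mem n6 hN using 1
  ext y
  have h4 : N ((k⁻¹).1 y) = N y + D.B u y • N p := by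
    rw [← map_smul, ← map_add, ← sub_eq_zero, ← map_sub]
    refine n5 _ fun l hl => ?_
    rw [B_sub_right, ← B_isom_left, H l hl]
    simp [D.B_lin, B_symm D p l]; ring
  simp only [LinearMap.sub_apply, LinearMap.comp_apply, LinearEquiv.coe_coe, h4,
    H _ (L.add_mem (h2 y) (L.smul_mem _ (h2 p))), D.B_lin, n3 p y, LinearMap.add_apply,
    LinearMap.smul_apply, Sm_apply]
  module

/-- `X` contains the long root elements attached to `x, y`. -/
def Pn (X : Subgroup D.isom) (x y : V) : Prop := ∀ κ, κ + σ κ = 0 →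
  ∃ k ∈ X, ∀ z, k.1 z = z + κ • (D.B x z • y + D.B y z • x)

theorem Pn.conj {x y : V} (H : Pn X x y) {g : D.isom} (hg : g ∈ X) : Pn X (g.1 x) (g.1 y) :=
  fun κ hκ => by
    obtain ⟨k, k1, k2⟩ := H κ hκ
    exact ⟨g * k * g⁻¹, mul_mem (mul_mem hg k1) (inv_mem hg), fun z => by
      simp [isom_mul_apply, k2, B_isom_left]⟩

theorem Pn.mem_zSet {x y : V} (H : Pn X x y) (hx : D.Q x = 0) (hy : D.Q y = 0) (h0 : D.B x y = 0)
    {κ : F} (hκ : κ + σ κ = 0) : κ • y ∈ zSet X x hx := by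
  obtain ⟨k, k1, k2⟩ := H (-κ) (by rw [map_neg]; linear_combination -hκ)
  refine ⟨0, ⟨hx, by simp [h0], by simp [D.Q_smul_of_Q hy]⟩, ?_⟩
  convert k1 using 1
  refine isom_ext fun z => ?_
  simp only [eich_apply, k2, D.B_lin, hermKind_ε, eq_neg_of_add_eq_zero_right hκ]
  module

theorem Form.Rk.mem_zSet {u y z : V} {hu : D.Q u = 0} (H : Rk X y) (hy : D.Q y = 0)
    (h0 : D.B y u = 0) (hz : z ∈ zSet X u hu) {a : F} (ha : a + σ a = 0) :
    (a * D.B y z) • y ∈ zSet X u hu := by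
  simpa [rk1_apply] using sub_mem_zSet hz (H a ((Herm.isRk1_iff_of_Q_eq_zero hy).2 ha))
    (D.rk1_apply_of_perp _ _ h0)

end

variable {F K V : Type*} [Field F] [Field K] [Algebra F K] [AddCommGroup V] [Module F V]
  [Module K V] [IsScalarTower F K V] [FiniteDimensional F V] [FiniteDimensional K V]
  {σ : F →+* F} {q : ℕ} {h : IsConj σ q} {τ : K →+* K} {q' : ℕ} {h' : IsConj τ q'}

namespace C3U

variable {D : Form h.kind V} {D' : Form h'.kind V} {μ : K →ₗ[F] F} {X : Subgroup D.isom}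
  (c : C3U D D' μ X)
include c

omit [FiniteDimensional F V] [FiniteDimensional K V] in
theorem tr0 {θ : F} (hθ : θ + σ θ = 0) {s : K} (hs : τ s = s) : θ • s + τ (θ • s) = 0 := by
  rw [c.ux.smul, hs, ← add_smul, hθ, zero_smul]

omit [FiniteDimensional F V] [FiniteDimensional K V] in
theorem weyl {e f : V} (hef : D'.IsHyp e f) {b : K} (b0 : b ≠ 0) (hb : b + τ b = 0) :
    ∃ k ∈ X, ∀ a : K, k.1 (a • e) = (a * b) • f := by
  obtain ⟨k, k1, k2⟩ := c.exists_tv hef.Q_f hb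
  obtain ⟨l, l1, l2⟩ := c.exists_tv hef.Q_e (a := -b⁻¹) (by simp [eq_neg_of_add_eq_zero_right hb])
  refine ⟨l * k, mul_mem l1 k1, fun a => ?_⟩
  simp only [isom_mul_apply, k2, l2, D'.B_lin, hef.B_fe, hef.B_ee, hef.B_ef, hermKind_ε]
  match_scalars <;> field_simp <;> ring

omit [FiniteDimensional F V] [FiniteDimensional K V] in
theorem mem_Nz {v : V} (hv : D'.Q v = 0) {a : K} (ha : a + τ a = 0) {g : D.isom} (hg : g ∈ X) :
    ∃ N ∈ Nz X ((ln F K v).map (g.1 : V →ₗ[F] V)),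
      ∀ x, N x = g.1 ((a * D'.B v ((g⁻¹).1 x)) • v) := by
  obtain ⟨k, k1, k2⟩ := c.exists_tv hv ha
  refine ⟨g.1 ∘ₗ ((a • D'.B v).smulRight v).restrictScalars F ∘ₗ (g⁻¹).1, ⟨?_, fun x =>
    ⟨_, smul_mem_ln _ _, rfl⟩, g * k * g⁻¹, mul_mem (mul_mem hg k1) (inv_mem hg), fun x => by
      simp [isom_mul_apply, k2]⟩, fun _ => rfl⟩
  rintro _ ⟨x, hx, rfl⟩
  obtain ⟨b, rfl⟩ := mem_ln.1 hx
  simp [D'.B_self_of_Q hv]

theorem exists_pn (H : ¬ X ≤ (nK F K V).comap D.isom.subtype) : ∃ u, u ≠ 0 ∧ D'.Q u = 0 ∧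
    ∀ s s' : K, τ s = s → μ s = 0 → τ s' = s' → μ s' = 0 → Pn X (s • u) (s' • u) := by
  obtain ⟨g, hg, v, u, p, L, hv, rfl, hu, u0, ⟨_, ⟨w, hw, rfl⟩, hp⟩, H⟩ := c.exists_shape H
  refine ⟨u, u0, hu, fun s s' s1 s2 s3 s4 κ hκ => ?_⟩
  obtain ⟨θ, θ0, hθ⟩ := h.exists_trace_zero
  obtain ⟨a, rfl⟩ := mem_ln.1 hw
  have b0 : D'.B v ((g⁻¹).1 p) ≠ 0 := fun h0 => hp (by
    rw [LinearEquiv.coe_coe, B_isom_right, c.B, B_smul_right, D'.eq_zero_symm h0]; simp)
  obtain ⟨t, t1, t2⟩ := c.ux.exists_μ (c := κ / θ)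
    (b := D'.B v ((g⁻¹).1 p) * τ (D'.B v ((g⁻¹).1 p)))
    (by rw [map_div₀, eq_neg_of_add_eq_zero_right hκ, eq_neg_of_add_eq_zero_right hθ, neg_div_neg_eq])
    (by rw [map_mul, c.ux.ττ, mul_comm]) (by simpa using b0)
  obtain ⟨N, n1, n2⟩ := c.mem_Nz hv (c.tr0 hθ t1) hg
  have n3 : D.B p (N p) = κ := by
    rw [n2, B_isom_right, c.B, B_smul_right, B_symm D' v, smul_mul_assoc, smul_mul_assoc, map_smul,
      mul_assoc, t2, smul_eq_mul, mul_div_cancel₀ _ θ0]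
  have k := fun s h1 h2 => Nz.key c.nd (by
    rintro _ ⟨x, hx, rfl⟩ _ ⟨y, hy, rfl⟩; exact (B_isom g x y).trans (c.B_ln hv hx hy)) n1
    (H s h1 h2).2.choose_spec.1 (H s h1 h2).1 (H s h1 h2).2.choose_spec.2
  obtain ⟨-, -, k, k1, k2⟩ := sub_mem (sub_mem (k (s + s') (by rw [map_add, s1, s3])
    (by rw [map_add, s2, s4, add_zero])) (k s s1 s2)) (k s' s3 s4)
  refine ⟨k, k1, fun z => ?_⟩
  simp only [k2, n3, add_smul, LinearMap.sub_apply, LinearMap.add_apply, LinearMap.smul_apply,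
    Sm_apply, D.B_add_left]
  module

omit [FiniteDimensional K V] in
theorem rk_of_pn {u f : V} (hef : D'.IsHyp u f)
    (H : ∀ s s' : K, τ s = s → μ s = 0 → τ s' = s' → μ s' = 0 → Pn X (s • u) (s' • u)) :
    Rk X u ∧ ∀ (hu : D.Q u = 0) (κ : F) (s : K), κ + σ κ = 0 → τ s = s → κ • s • u ∈ zSet X u hu := by
  have := c.fin
  have h3 : 3 ≤ finrank F K := by have := c.rk; omega
  obtain ⟨θ, θ0, hθ⟩ := h.exists_trace_zero
  have θ1 := eq_neg_of_add_eq_zero_right hθ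
  have hfe : D'.IsHyp f u := by simpa using hef.symm
  have p1 : ∀ a b : K, τ a = a → τ b = b → Pn X ((θ • a) • f) ((θ • b) • f) := fun a b ha hb => by
    obtain ⟨s, s0, s1, s2, s3⟩ := c.ux.exists_two h3 (Or.inl ⟨ha, hb⟩)
    obtain ⟨k, k1, k2⟩ := c.weyl hef (b := θ • s⁻¹) (by simp [θ0, s0]) (c.tr0 hθ (by rw [map_inv₀, s1]))
    convert (H _ _ (by rw [map_mul, s1, ha]) s2 (by rw [map_mul, s1, hb]) s3).conj k1 using 1
    all_goals rw [k2, mul_smul_comm, mul_right_comm, mul_inv_cancel₀ s0, one_mul]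
  have p2 : ∀ b : K, τ b = b → Pn X u (b • u) := fun b hb => by
    obtain ⟨k, k1, k2⟩ := c.weyl hfe (b := θ⁻¹ • 1) (by simp [θ0]) (c.tr0 (by simp [θ1]) (map_one τ))
    convert (p1 1 b (map_one τ) hb).conj k1 using 1
    all_goals rw [k2]; simp [θ0, smul_smul]
  have B1 : ∀ a b : K, D.B (a • f) (b • u) = μ (τ a * b) := fun a b => by
    simp [c.B, D'.B_lin, hfe.B_ef, mul_comm]
  have o : ∀ a b : K, D.B (a • u) (b • u) = 0 := fun a b =>
    c.B_ln hef.Q_e (smul_mem_ln _ _) (smul_mem_ln _ _)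
  have hu : D.Q u = 0 := by simpa [Q_eq] using o 1 1
  have z1 : ∀ (κ : F) (s : K), κ + σ κ = 0 → τ s = s → κ • s • u ∈ zSet X u hu := fun κ s hκ hs =>
    (p2 s hs).mem_zSet hu (by simpa [Q_eq] using o s s) (by simpa using o 1 s) hκ
  refine ⟨fun κ hκ => ?_, fun _ => z1⟩
  obtain ⟨s, s0, s1, s2, -⟩ := c.ux.exists_two h3 (Or.inl ⟨map_one τ, map_one τ⟩)
  obtain ⟨a, a1, a2⟩ := c.ux.exists_μ (map_one σ) s1 s0
  obtain ⟨s', t0, t1, t2, t3⟩ := c.ux.exists_two h3 (Or.inl ⟨map_one τ, a1⟩)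
  obtain ⟨k, k1, k2⟩ := p1 s s' s1 t1 θ⁻¹ (by simp [θ1])
  obtain ⟨d, hd, z2⟩ : ((θ * σ θ) • s') • f ∈ zSet X u hu := by
    convert sub_mem_zSet (z1 θ a hθ a1) k1 (by
      have h1 := B1 s 1
      have h2 := B1 s' 1
      simp only [one_smul] at h1 h2
      simp only [k2, smul_assoc, D.B_smul_left, h1, h2, s1, t1, s2, t2]; simp) using 1
    simp only [k2, smul_assoc, D.B_smul_left, D.B_smul_right, B1, s1, t1, t3, mul_comm s, a2]
    match_scalars <;> field_simp <;> ring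
  obtain ⟨r, hr⟩ : ∃ r, r = (θ * σ θ) • s' := ⟨_, rfl⟩
  have r1 : τ r = r := by rw [hr, c.ux.smul, t1, map_mul, h.σσ, mul_comm]
  have r0 : r ≠ 0 := by simp [hr, θ0, t0]
  subst hr
  rw [Herm.isRk1_iff_of_Q_eq_zero hu] at hκ
  generalize (θ * σ θ) • s' = r at *
  obtain ⟨t, t1, t2⟩ := c.ux.exists_μ (c := κ / θ) (b := r * r)
    (by rw [map_div₀, eq_neg_of_add_eq_zero_right hκ, θ1, neg_div_neg_eq])
    (by rw [map_mul, r1]) (by simpa using r0)
  obtain ⟨N, n1, n2⟩ := c.mem_Nz hef.Q_e (c.tr0 hθ t1) X.one_mem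
  rw [show (ln F K u).map ((1 : D.isom).1 : V →ₗ[F] V) = ln F K u from Submodule.map_id _] at n1
  have n3 : N (r • f) = θ • (t * r) • u := by simp [n2, hef.B_ef, smul_assoc]
  have n4 := Nz.key c.nd (fun x hx y hy => c.B_ln hef.Q_e hx hy) n1 z2 (self_mem_ln u) (p := r • f)
    fun x hx => eich_apply_of_perp D hd (c.B_ln hef.Q_e (self_mem_ln u) hx)
  obtain ⟨l, l1, l2⟩ := p2 (t * r) (by rw [map_mul, t1, r1]) θ hθ
  have n5 : θ • (Sm D u ((t * r) • u) + Sm D ((t * r) • u) u) ∈ Nz X (ln F K u) :=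
    ⟨fun x hx => by simp [c.B_ln hef.Q_e (self_mem_ln u) hx, c.B_ln hef.Q_e (smul_mem_ln _ u) hx],
      fun x => Submodule.smul_mem _ _ (add_mem (Submodule.smul_mem _ _ (smul_mem_ln _ _))
        (Submodule.smul_mem _ _ (self_mem_ln _))), l, l1, l2⟩
  obtain ⟨-, -, m, m1, m2⟩ := sub_mem n4 n5
  convert m1 using 1
  refine isom_ext fun x => ?_
  simp only [m2, rk1_apply, n3, LinearMap.sub_apply, LinearMap.add_apply, LinearMap.smul_apply,
    Sm_apply, D.B_smul_left, D.B_smul_right, B1, r1, mul_left_comm r, t2, θ1, mul_div_cancel₀ _ θ0]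
  module

theorem E_le (H : ¬ X ≤ (nK F K V).comap D.isom.subtype)
    (ex : ∀ u f, D'.IsHyp u f → ∃ a : K, (∀ d : F, d • τ a ≠ a) ∧ ∃ k ∈ X, ∀ b : K,
      k.1 (b • f) = (b * a) • f) : D.E ≤ X := by
  have := c.fin
  have h3 : 3 ≤ finrank F K := by have := c.rk; omega
  obtain ⟨u, u0, hu', H⟩ := c.exists_pn H
  obtain ⟨f, hef⟩ := c.nd'.exists_isHyp hu' u0
  obtain ⟨r1, z1⟩ := c.rk_of_pn hef H
  obtain ⟨θ, θ0, hθ⟩ := h.exists_trace_zero
  have θ1 := eq_neg_of_add_eq_zero_right hθ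
  have hfe : D'.IsHyp f u := by simpa using hef.symm
  have B1 : ∀ a b : K, D.B (a • f) (b • u) = μ (τ a * b) := fun a b => by
    simp [c.B, D'.B_lin, hfe.B_ef, mul_comm]
  have B2 : ∀ a b : K, D.B (a • u) (b • f) = μ (τ a * b) := fun a b => by
    simp [c.B, D'.B_lin, hef.B_ef, mul_comm]
  have Q1 : ∀ {v : V}, D'.Q v = 0 → ∀ a : K, D.Q (a • v) = 0 := fun hv a =>
    (Q_eq _ _).trans (c.B_ln hv (smul_mem_ln _ _) (smul_mem_ln _ _))
  have hu : D.Q u = 0 := by simpa using Q1 hu' 1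
  have w1 : ∀ {e f : V}, D'.IsHyp e f → Rk X e → ∀ s : K, s ≠ 0 → τ s = s → Rk X (s • f) :=
    fun {e f} hef H s s0 s1 => by
      obtain ⟨k, k1, k2⟩ := c.weyl hef (b := θ • s) (by simp [θ0, s0]) (c.tr0 hθ s1)
      have := (H.conj k1).smul (inv_ne_zero θ0)
      rwa [← one_smul K e, k2, one_mul, smul_assoc, inv_smul_smul₀ θ0] at this
  have r2 := w1 hef r1
  have r3 := w1 hfe (by simpa using r2 1 one_ne_zero (map_one τ))
  obtain ⟨a, a1, k, k1, k2⟩ := ex u f hef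
  obtain ⟨s, s0, s1, s2, s3⟩ := c.ux.exists_two h3 (Or.inr (rfl : τ a = τ a))
  have a0 : a ≠ 0 := by rintro rfl; simpa using a1 0
  have y1 : ∀ d : F, d • (s * a) • f ∈ zSet X u hu := by
    have y2 : ∀ t, τ t = t → ∀ r, σ r = r → (r * μ (t * (s * τ a))) • (s * a) • f ∈ zSet X u hu :=
      fun t ht r hr => by
        convert Rk.mem_zSet (k2 s ▸ (r2 s s0 s1).conj k1) (Q1 hef.Q_f _)
          (by simpa [s1, s3] using B1 (s * a) 1) (z1 hu θ t hθ ht) (a := r / θ)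
          (by rw [map_div₀, hr, θ1]; ring) using 2
        rw [B_smul_right, B1, map_mul τ, s1, mul_comm t]; field_simp
    obtain ⟨t, t1, t2⟩ : ∃ t, τ t = t ∧ μ (t * (s * τ a)) ≠ 0 := by
      by_contra! H; simpa [s0, a0] using c.ux.eq_zero H
    obtain ⟨t', t3, t4⟩ : ∃ t', τ t' = t' ∧ μ (t' * (s * τ a)) * σ (μ (t * (s * τ a))) ≠
        σ (μ (t' * (s * τ a))) * μ (t * (s * τ a)) := by
      by_contra! H
      have := c.ux.eq_zero (b := σ (μ (t * (s * τ a))) • (s * τ a) - μ (t * (s * τ a)) • (s * a))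
        fun t' ht' => by
          have := H t' ht'
          rw [← c.ux.μτ (t' * _), map_mul τ, map_mul τ, ht', s1, c.ux.ττ] at this
          simp only [mul_sub, mul_smul_comm, map_sub, map_smul, smul_eq_mul]
          linear_combination this
      refine a1 (σ (μ (t * (s * τ a))) / μ (t * (s * τ a))) ?_
      rw [← mul_smul_comm, ← mul_smul_comm, ← mul_sub, mul_eq_zero, or_iff_right s0,
        sub_eq_zero] at this
      rw [div_eq_inv_mul, mul_smul, this, inv_smul_smul₀ t2]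
    exact span2 h t4 (y2 t t1) (y2 t' t3)
  have sub : ∀ v : V, ∃ A : Submodule F K, ∀ a, a ∈ A ↔ ∀ d : F, d • a • v ∈ zSet X u hu := fun v =>
    ⟨{ carrier := {a | ∀ d : F, d • a • v ∈ zSet X u hu}
       add_mem' := fun h1 h2 d => by rw [add_smul, smul_add]; exact add_mem (h1 d) (h2 d)
       zero_mem' := fun d => by simp
       smul_mem' := fun e a ha d => by rw [smul_assoc, smul_smul]; exact ha _ }, fun _ => Iff.rfl⟩
  have y3 : ∀ b : K, b • u ∈ zSet X u hu := fun b => by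
    obtain ⟨A, hA⟩ := sub u
    have y4 : ∀ t, τ t = t → μ (t * (s * a)) ≠ 0 → t ∈ A := fun t ht h0 => (hA _).2 fun d => by
      convert Rk.mem_zSet (r3 t (by rintro rfl; simp at h0) ht) (Q1 hu' _)
        (c.B_ln hu' (smul_mem_ln _ _) (self_mem_ln _)) (y1 (d / (θ * μ (t * (s * a))))) hθ using 2
      rw [B_smul_right, B2, ht]; generalize μ (t * (s * a)) = m at h0; field_simp
    obtain ⟨t, t1, t2⟩ : ∃ t, τ t = t ∧ μ (t * (s * a)) ≠ 0 := by
      by_contra! H; simpa [s0, a0] using c.ux.eq_zero H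
    simpa using (hA _).1 (c.ux.le_of_fixed (C := ⊤) (W := A) (by simp) (fun t' _ ht' => by
      by_cases h0 : μ (t' * (s * a)) = 0
      · simpa using A.sub_mem (y4 (t' + t) (by rw [map_add, t1, ht']) (by simpa [add_mul, h0]))
          (y4 t t1 t2)
      · exact y4 t' ht' h0) (x := b) trivial) 1
  have y5 : ∀ b : K, μ b = 0 → b • f ∈ zSet X u hu := fun b hb => by
    obtain ⟨A, hA⟩ := sub f
    simpa using (hA _).1 (c.ux.le_of_fixed (C := LinearMap.ker μ) (W := A)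
      (fun x hx => by rw [LinearMap.mem_ker, c.ux.μτ, hx, map_zero]) (fun t h0 ht => by
        by_cases t0 : t = 0
        · simp [t0]
        obtain ⟨α, -, hα⟩ := c.ux.exists_μ (map_one σ) ht t0
        refine (hA _).2 fun d => ?_
        convert Rk.mem_zSet (r2 t t0 ht) (Q1 hef.Q_f _) (by simpa [ht, show μ t = 0 from h0] using B1 t 1)
          (y3 ((d / θ) • α)) hθ using 2
        rw [B1, ht, mul_smul_comm, map_smul, mul_comm t, hα]; simp; field_simp) (x := b) hb) 1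
  have y6 : ∀ w ∈ D'.hp u f, w ∈ zSet X u hu := fun w hw => by
    obtain ⟨k, k1, d, k2⟩ := c.exists_eich hu' (z := -(s * a)⁻¹ • w) (by simp [(D'.mem_hp.1 hw).1])
    convert add_mem (sub_mem_zSet (y5 _ s2) k1 (by
      simp [k2, hef.B_ee, D'.eq_zero_symm (D'.mem_hp.1 hw).1])) (y3 (s * a * d)) using 1
    simp only [k2, D'.B_lin, hef.B_ef, D'.eq_zero_symm (D'.mem_hp.1 hw).2]
    match_scalars <;> field_simp <;> ring
  obtain ⟨t, t1, t2⟩ := c.ux.exists_μ (map_one σ) (map_one τ) one_ne_zero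
  obtain ⟨l, l1, l2⟩ := c.weyl hef (b := θ • t) (by rintro h; simp [θ0] at h; simp [h] at t2)
    (c.tr0 hθ t1)
  refine At.E_le_of_map c.nd (at_of_zSet (he := hu) r1.at_bot fun z _ hz => ?_) hu l1 ?_
  · obtain ⟨w, hw, hz'⟩ := hef.exists_comb z
    rw [hz']
    exact add_mem (add_mem (y3 _) (y5 _ ((c.B _ _).symm.trans hz))) (y6 w hw)
  · have := B2 1 (1 * θ • t)
    rw [← l2, one_smul, map_one, one_mul, one_mul, map_smul, ← mul_one t, t2] at this
    simpa [this] using θ0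

end C3U

end Cfsg.Lib.Forms
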