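import Cfsg.Agent.Lib.MaxU.C3C
import Cfsg.Agent.Lib.MaxU.Std

/-!
# Extension field subgroups of unitary groups: the matrix statement
-/

set_option autoImplicit false

namespace Cfsg.Lib.Forms

open Module Form Herm Cfsg.Geo Matrix

section
variable {F K V : Type*} [Field F] [Field K] [Algebra F K] [AddCommGroup V] [Module F V]
  [Module K V] [IsScalarTower F K V] [FiniteDimensional F V]
  {σ : F →+* F} {q : ℕ} {h : IsConj σ q} {D : Form h.kind V}

theorem Herm.exists_ext [Nontrivial V] [FiniteDimensional F K] (hD : D.Nondeg)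
    (hac : ∀ a : K, ∃ b : K, ∀ u v, D.B u (a • v) = D.B (b • u) v) :
    ∃ (τ : K →+* K) (q' : ℕ) (h' : IsConj τ q') (μ : K →ₗ[F] F) (D' : Form h'.kind V),
      Ux σ τ μ ∧ D'.Nondeg ∧ ∀ x y, D.B x y = μ (D'.B x y) := by
  have := h.finite
  have : Finite K := Module.finite_of_finite F
  choose t ht using hac
  obtain ⟨v, hv⟩ := Herm.exists_Q_eq hD (map_one σ)
  have v0 : v ≠ 0 := by rintro rfl; simp at hv
  have key : ∀ {a b : K}, (∀ u, D.B (a • v) u = D.B (b • v) u) → a = b := fun H =>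
    smul_left_injective K v0 (hD.ext H)
  let τ : K →+* K :=
    { toFun := t
      map_one' := key fun u => by rw [← ht, one_smul, one_smul]
      map_mul' := fun a b => key fun u => by rw [← ht, mul_smul, ht, ht, smul_smul, mul_comm]
      map_zero' := key fun u => by rw [← ht]; simp
      map_add' := fun a b => key fun u => by rw [← ht]; simp [add_smul, ht] }
  have h1 : ∀ (a : K) u v, D.B (a • u) v = D.B u (τ a • v) := fun a u v => by
    rw [B_symm, ht, ← B_symm]; rfl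
  have h2 : ∀ a, τ (τ a) = a := fun a => key fun u => ((h1 a v u).trans (ht _ _ _)).symm
  have h3 : ∀ c, τ (algebraMap F K c) = algebraMap F K (σ c) := fun c => key fun u =>
    (ht _ _ _).symm.trans (by simp [h.σσ])
  let μ : K →ₗ[F] F := D.B v ∘ₗ (LinearMap.toSpanSingleton K V v).restrictScalars F
  have U : Ux σ τ μ := ⟨h3, fun a => (h1 a v v).symm.trans (B_symm D _ _), fun H => by
    simpa [μ, ← Q_eq, hv] using LinearMap.congr_fun H 1, h2, h.exists_not_fixed⟩
  obtain ⟨q', h'⟩ := exists_isConj (σ := τ) (fun H => by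
    obtain ⟨ω, hω⟩ := h.exists_not_fixed
    exact hω ((algebraMap F K).injective (by rw [← h3, H]; rfl))) h2
  choose ψ hψ using fun x => exists_comp (V := V) U.ne (D.B x)
  have k2 : ∀ {a b : K}, (∀ c, μ (c * a) = μ (c * b)) → a = b := fun h =>
    sub_eq_zero.1 (eq_zero_of_comp U.ne fun c => by rw [mul_sub, map_sub, h, sub_self])
  have h4 : ∀ c x y, μ (c * ψ x y) = D.B x (c • y) := fun c x y => by rw [hψ, map_smul, smul_eq_mul]
  let β : V →ₛₗ[τ] V →ₗ[K] K := ⟨⟨ψ, fun x x' => LinearMap.ext fun y => k2 fun c => by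
    simp [h4, mul_add]⟩, fun a x => LinearMap.ext fun y => k2 fun c => by
      rw [h4, LinearMap.smul_apply, smul_eq_mul, ← mul_assoc, h4, h1, smul_smul, mul_comm]⟩
  refine ⟨τ, q', h', μ, ofHerm h'.σσ (Or.inl h'.ne_id) β ⟨fun x y => k2 fun c => ?_⟩, U,
    fun x hx => hD x fun y => by rw [hψ, show ψ x y = 0 from hx y, map_zero], hψ⟩
  change μ (c * τ (ψ x y)) = μ (c * ψ y x)
  rw [h4, ← h2 c, ← map_mul, U.μτ, h4, ← B_symm, h1]

theorem Herm.not_E_le_nK (hD : D.Nondeg) (hn : 3 ≤ finrank F V) (hr : 1 < finrank F K) :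
    ¬ D.E ≤ (nK F K V).comap D.isom.subtype := fun H => by
  obtain ⟨a, ha⟩ := exists_not_mem_range hr
  obtain ⟨e, y, hef⟩ := Herm.exists_isHyp hD (by omega)
  obtain ⟨c, c0, hc⟩ := h.exists_trace_zero
  have h1 := (Herm.isRk1_iff_of_Q_eq_zero hef.Q_e).2 hc
  let A : V →ₗ[F] V := (LinearMap.lsmul K V a).restrictScalars F
  obtain ⟨x, -, x0, x1⟩ := exists_ne_zero_kers (⊤ : Submodule F V) [D.B e, D.B e ∘ₗ A]
    (by rw [finrank_top]; simp; omega)
  have := comm_of_fix (a := a) (H (rk1_mem_E h1 hef.Q_e)) x0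
    (D.rk1_apply_of_perp _ h1 (x1 _ (by simp)))
    (D.rk1_apply_of_perp _ h1 (x1 (D.B e ∘ₗ A) (by simp))) y
  change (D.rk1 e c h1).1 _ = a • (D.rk1 e c h1).1 _ at this
  rw [rk1_apply, rk1_apply, hef.B_ef, smul_add, add_right_inj, mul_one, smul_comm a, mul_smul] at this
  exact ha _ (smul_left_injective K hef.e_ne_zero
    ((algebraMap_smul K _ e).trans (smul_right_injective V c0 this)))

theorem exists_norm_one_div [Finite F] {τ : K →+* K} {q' : ℕ} (h' : IsConj τ q')
    (H : finrank F K * (Nat.card F - 1) < q' + 1) (hr : finrank F K ≠ 0) :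
    ∃ a : K, (∀ d : F, d • τ a ≠ a) ∧ a ≠ 0 ∧ Algebra.norm F (a * (τ a)⁻¹) = 1 := by
  classical
  have := Fintype.ofFinite F
  have : FiniteDimensional F K := Module.finite_of_finrank_pos (by omega)
  obtain ⟨s, s1, s2⟩ := h'.exists_mu
  have h1 := Finite.one_lt_card (α := F)
  obtain ⟨η, η1, η2⟩ : ∃ η ∈ s, η ^ (finrank F K * (Nat.card F - 1)) ≠ 1 := by
    by_contra! H'
    have := (Finset.card_le_card (t := (Polynomial.nthRoots _ (1 : K)).toFinset) fun x hx =>
      Multiset.mem_toFinset.2 ((Polynomial.mem_nthRoots (Nat.mul_pos (by omega) (by omega))).2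
        (H' x hx))).trans ((Multiset.toFinset_card_le _).trans (Polynomial.card_nthRoots _ _))
    omega
  rw [s2] at η1
  obtain ⟨a, a0, ha⟩ := h'.exists_div_eq (u := η ^ (Nat.card F - 1)) (by
    rw [map_pow, ← mul_pow, η1, one_pow])
  have h2 : Algebra.norm F (a * (τ a)⁻¹) = 1 := by
    rw [ha, map_pow, Nat.card_eq_fintype_card, FiniteField.pow_card_sub_one_eq_one _
      (Algebra.norm_ne_zero_iff.2 (left_ne_zero_of_mul_eq_one η1))]
  refine ⟨a, fun d hd => η2 ?_, a0, h2⟩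
  have h3 : a * (τ a)⁻¹ = algebraMap F K d := by
    rw [mul_inv_eq_iff_eq_mul₀ ((map_ne_zero τ).2 a0), ← Algebra.smul_def, hd]
  rw [h3, Algebra.norm_algebraMap] at h2
  rw [mul_comm, pow_mul, ← ha, h3, ← map_pow, h2, map_one]

end

theorem su_max_ext {F : Type*} [Field F] [Fintype F] {n q r : ℕ} (hF : Fintype.card F = q ^ 2)
    (hr : r = 3 ∨ r = 5) (hn : 3 * r ≤ n ∨ 2 * r ≤ n ∧ r * (q ^ 2 - 1) < q ^ r + 1)
    (K : Subalgebra F (Matrix (Fin n) (Fin n) F)) (hK : IsFieldSubalgebra r K)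
    (hac : IsAdjointClosedFor (hermForm n F q) K) :
    IsMaximalIn (GU n F q ⊓ specialLinear (Fin n) F)
      (subalgebraNormalizer K ⊓ (GU n F q ⊓ specialLinear (Fin n) F)) := by
  have : NeZero n := ⟨by omega⟩
  obtain ⟨σ, h⟩ := isConj_of_card hF
  obtain ⟨E, _, _, _, _, _, _, e, h1, h2, h4, h4', h5, h3⟩ := exists_field hK
  have hD := stdHerm_nondeg h (Fin n)
  have hn' : finrank F (Fin n → F) = n := by simp
  rw [Fintype.card_fin] at h2
  obtain ⟨τ, q', h', μ, D', U, hD', hB⟩ := Herm.exists_ext (K := E) hD fun a => by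
    obtain ⟨k, hk, h6⟩ := hac _ (h4 a)
    obtain ⟨b, rfl⟩ := h4' k hk
    exact ⟨b, fun u v => by rw [h5, h5, ← hermForm_eq, ← hermForm_eq, h6]⟩
  refine isMaximalIn_map (su_eq h (by omega)) (S := (nK F E _).comap (stdHerm h (Fin n)).isom.subtype)
    (by rw [← h3]; rfl) (Herm.not_E_le_nK hD (by omega) (by omega)) fun X h6 h7 => ?_
  have h8 : ∀ g : D'.isom, Algebra.norm F (D'.det g : E) = 1 → ∃ k ∈ X, ∀ x, k.1 x = g.1 x :=
    fun g hg => ⟨D'.resHom _ (fun g => herm_isIsometry fun x y => by rw [hB, hB, B_isom]) g,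
      h6 ⟨(mem_E hD (by omega)).2 (Units.ext ((coe_det _).trans
        ((LinearMap.det_restrictScalars (f := (g.1 : (Fin n → F) →ₗ[E] _))).trans
          (by rw [← coe_det, hg]; rfl)))), KL.mem_nK fun a x => map_smul g.1 a x⟩, fun _ => rfl⟩
  have h9 : ∀ g ∈ D'.E, ∃ k ∈ X, ∀ x, k.1 x = g.1 x := fun g hg =>
    h8 g (by rw [show D'.det g = 1 from E_le_ker_det hg]; simp)
  have c : C3U _ D' μ X := ⟨U, hD, hD', hB, h9, h1 ▸ hr, by rcases hr with rfl | rfl <;> omega⟩
  refine c.E_le h7 fun u f hef => ?_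
  rcases hn with hn | ⟨-, hn⟩
  · obtain ⟨ω, hω⟩ := U.nf
    obtain ⟨s, -, s1, s2⟩ := U.exists_fixed (C := ⊤) (W := F ∙ 1) (by simp) fun H => by
      have := (Submodule.finrank_mono H).trans (finrank_span_singleton_le _)
      rw [finrank_top] at this; omega
    have a1 : ∀ d : F, d • τ (s + ω • 1) ≠ s + ω • 1 := fun d hd => by
      rw [map_add, U.smul, s1, map_one] at hd
      by_cases h0 : d = 1
      · exact hω (by simpa [h0] using hd)
      refine s2 (Submodule.mem_span_singleton.2 ⟨(d - 1)⁻¹ * (ω - d * σ ω), ?_⟩)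
      rw [mul_smul, inv_smul_eq_iff₀ (sub_ne_zero.2 h0)]
      linear_combination (norm := module) -hd
    obtain ⟨g, g1, g2⟩ := Herm.exists_mem_E_map hD' (by rcases hr with rfl | rfl <;> omega)
      hef.f_ne_zero (smul_ne_zero (fun H => by simpa [H] using a1 0) hef.f_ne_zero)
      (hef.Q_f.trans (D'.Q_smul_of_Q hef.Q_f (s + ω • 1)).symm)
    obtain ⟨k, k1, k2⟩ := h9 g g1
    exact ⟨_, a1, k, k1, fun b => by rw [k2, map_smul, g2, smul_smul]⟩
  have hq : q' = q ^ r := Nat.pow_left_injective two_ne_zero (by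
    simp only [← h'.card, Module.natCard_eq_pow_finrank (K := F) (V := E), h.card, h1]; ring)
  obtain ⟨a, a1, a0, a2⟩ := exists_norm_one_div (F := F) h' (by rwa [h1, h.card, hq]) (by omega)
  have hfe : D'.IsHyp f u := by simpa using hef.symm
  obtain ⟨g, g1, g2, g3⟩ := hfe.exists_torus hD' a0
  obtain ⟨k, k1, k2⟩ := h8 g (by rw [hfe.det_torus g1 g2 g3, a2])
  exact ⟨_, a1, k, k1, fun b => by rw [k2, map_smul, g1, smul_smul]⟩

end Cfsg.Lib.Forms
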