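import Cfsg.Agent.Lib.MaxU.Std
import Cfsg.Agent.Lib.Max.C5S

/-! Subfield subgroups of unitary groups are maximal (dimension at least ten). -/

set_option autoImplicit false

namespace Cfsg.Lib.Forms

open Module Form Herm

section
variable {F V ι : Type*} [Field F] [AddCommGroup V] [Module F V] [Fintype ι] [Finite F]
  [FiniteDimensional F V] {k : Subfield F} {b : Basis ι F V} {ζ : F} {σ : F →+* F} {q : ℕ}
  {hc : IsConj σ q} {D : Form hc.kind V}

theorem Herm.E_le_rat2 (h : D.RatF k b ζ) (hr : finrank k F = 2)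
    (X : Subgroup D.isom) (hX : D.E ⊓ D.ratS k b ≤ X) (hX' : ¬ X ≤ D.ratS k b) : D.E ≤ X := by
  have := h.nine
  refine (h.dichotomy hX (Or.inl Herm.comm)).resolve_left fun hZ => hX' fun g hg => ?_
  obtain ⟨u, u1, v, -, u2, -, -, u3, -⟩ := h.exists_pair
  obtain ⟨U, h1, h3, h4⟩ := exists_hull (k := k) (b := b) ((g⁻¹).1 u)
  exact h.mem_of_map hX hZ hg h1 u1 u2 (by rintro rfl; simp at u3) h3 (Or.inl (by omega))

theorem Herm.E_le_rat3 (h : D.RatF k b 1) (hn : 10 ≤ finrank F V) (hr : finrank k F ≠ 2)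
    (hk : ∃ a ∈ k, σ a ≠ a)
    (X : Subgroup D.isom) (hX : D.E ⊓ D.ratS k b ≤ X) (hX' : ¬ X ≤ D.ratS k b) : D.E ≤ X := by
  have : Finite V := Module.finite_of_finite F
  have : Nontrivial V := Module.nontrivial_of_finrank_pos (R := F) (by omega)
  refine (h.dichotomy hX (Or.inl Herm.comm)).resolve_left fun hZ => hX' fun g hg => ?_
  obtain ⟨θ, θk, θ0, hθ⟩ : ∃ θ ∈ k, θ ≠ 0 ∧ θ + σ θ = 0 := by
    obtain ⟨a, h1, h2⟩ := hk
    exact ⟨a - σ a, sub_mem h1 (h.σ_mem a h1), sub_ne_zero.2 h2.symm, by simp [hc.σσ]⟩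
  have θ1 := eq_neg_of_add_eq_zero_right hθ
  have hB : ∀ x ∈ rat k b, ∀ y ∈ rat k b, D.B x y ∈ k := by simpa using h.B_mem
  have r1 : ∀ {u : V}, D.Q u = 0 → D.IsRk1 u θ := fun hu => (isRk1_iff_of_Q_eq_zero hu).2 hθ
  have r2 : ∀ u ∈ rat k b, ∀ hu : D.Q u = 0, D.rk1 u θ (r1 hu) ∈ X := fun u h1 hu =>
    RatF.mem hX (rk1_mem_E _ hu) fun x hx => add_mem hx (rat_smul (mul_mem θk (hB u h1 x hx)) h1)
  obtain ⟨v, v1, u, u1, v4, u2, v2, v3, u3⟩ := h.exists_pair
  have u0 : u ≠ 0 := by rintro rfl; simp at u3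
  have fin : ∀ U, RatSub k b U → finrank F U ≤ 2 → g.1 u ∈ U → g ∈ D.ratS k b := fun U h1 h2 h3 =>
    inv_mem_iff.1 (h.mem_of_map hX hZ (inv_mem hg) h1 u1 u2 u0 (by simpa) (Or.inl (by omega)))
  by_cases h2 : (2 : F) = 0
  · have s1 : ∀ u (hu : D.Q u = 0), u ≠ 0 → supp (D.rk1 u θ (r1 hu)).1 = F ∙ u := fun u hu u0 => by
      obtain ⟨y, hy⟩ := h.nd.exists_ne_zero u0
      exact le_antisymm (supp_le.2 fun x => by
        simp [rk1_apply, Submodule.smul_mem _ _ (self_mem_span _)])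
        ((Submodule.span_singleton_le_iff_mem _ _).2 (mem_supp.2 ⟨(θ * D.B u y)⁻¹ • y, by
          simp only [rk1_apply, D.B_lin]; match_scalars <;> field_simp <;> ring⟩))
    have s2 : ∀ u (hu : D.Q u = 0), D.rk1 u θ (r1 hu) * D.rk1 u θ (r1 hu) = 1 := fun u hu =>
      isom_ext fun x => by
        simp only [isom_mul_apply, rk1_apply, D.B_lin, D.B_self_of_Q hu, isom_one_apply]
        linear_combination (norm := module) (h2 * θ * D.B u x) • u
    have v0 : v ≠ 0 := by rintro rfl; simp at v3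
    obtain ⟨s3, s4⟩ := h.nd.supp_mul (a := D.rk1 u θ (r1 u2)) (a' := D.rk1 v θ (r1 v4))
      (by rw [s1 u u2 u0, s1 v v4 v0, Submodule.span_singleton_le_iff_mem, mem_perp_span_singleton,
        D.eq_zero_symm v2])
      (by rw [s1 u u2 u0, s1 v v4 v0]; exact ((Submodule.disjoint_span_singleton' v0).2 v3).symm)
    obtain ⟨a, ha⟩ : ∃ a, a = D.rk1 u θ (r1 u2) := ⟨_, rfl⟩
    obtain ⟨c, hc⟩ : ∃ c, c = g * (a * D.rk1 v θ (r1 v4)) * g⁻¹ := ⟨_, rfl⟩
    have a1 : a ∈ X := ha ▸ r2 u u1 u2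
    have c1 : c ∈ X := hc ▸ mul_mem (mul_mem hg (mul_mem a1 (r2 v v1 v4))) (inv_mem hg)
    have c2 : c * c = 1 := by
      rw [hc, conj_mul, ha, mul_assoc (D.rk1 u _ _), ← mul_assoc (D.rk1 v _ _), ← s3,
        mul_assoc (D.rk1 u _ _) (D.rk1 v _ _), s2 v v4, mul_one, s2 u u2]; simp
    have c3 : supp c.1 = ((F ∙ u) ⊔ F ∙ v).map (g.1 : V →ₗ[F] V) := by
      rw [← s1 u u2 u0, ← s1 v v4 v0, ← s4, hc, ha]; exact supp_conj g.1 _
    have c4 : finrank F (supp c.1) = 2 := by rw [c3, finrank_map_isom, finrank_two u0 v3]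
    have a2 : supp a.1 = F ∙ u := ha ▸ s1 u u2 u0
    have a3 := finrank_span_singleton (K := F) u0
    obtain ⟨j, d1, d2, d3, d4, d5⟩ := exists_central_invol (a := a.1) (b := c.1)
      (congrArg Subtype.val (ha ▸ s2 u u2)) (congrArg Subtype.val c2) (by rw [a2]; omega)
    have d6 := (Submodule.finrank_mono d5).trans (Submodule.finrank_add_le_finrank_add_finrank _ _)
    rw [a2] at d3 d6
    have e1 := (ratMap_of_invol (w := ((a * c) ^ j).1) h.prime (h.mem_of_map hX hZ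
      (pow_mem (mul_mem a1 c1) j) (ratSub_span u1) u1 u2 u0
      (stab_inv_mem (D.mem_stab_iff_map.2 d3) (self_mem_span u)) (Or.inl (by omega))) d2 (Or.inl h2)).supp
    obtain ⟨w, w1, w2, w3⟩ := exists_rat_supp d1 e1
    have e2 := (ratMap_of_invol (w := c.1) h.prime (h.mem_of_map hX hZ c1 e1 w2
      ((herm_Q D w).trans (h.nd.supp_le_perp h2 (w := (a * c) ^ j) (Subtype.ext d2) w1 w w1)) w3
      (stab_inv_mem (D.mem_stab_iff_map.2 d4) w1) (Or.inl ((Nat.add_le_add_right d6 7).trans (by omega))))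
      (congrArg Subtype.val c2) (Or.inl h2)).supp
    exact fin _ e2 c4.le (c3 ▸ Submodule.mem_map_of_mem (Submodule.mem_sup_left (self_mem_span u)))
  obtain ⟨x, hx⟩ : ∃ x, x = g.1 u := ⟨_, rfl⟩
  have x1 : D.Q x = 0 := by simp [hx, u2]
  have x2 : D.rk1 x θ (r1 x1) ∈ X := by
    subst hx
    rw [← D.conj_rk1 g u θ (r1 u2)]
    exact mul_mem (mul_mem hg (r2 u u1 u2)) (inv_mem hg)
  have a1 : ∀ y ∈ rat k b, D.Q y = 0 → D.B y x * σ (D.B y x) ∈ k := fun y hy y1 => by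
    by_contra h3
    have h4 : θ ^ 2 * (D.B y x * σ (D.B y x)) ∉ k := fun H =>
      h3 (by simpa [θ0] using mul_mem (inv_mem (pow_mem θk 2)) H)
    obtain ⟨_, ⟨m, h5, rfl⟩, h6⟩ := dickson_nil h2 (X := X.map D.isom.subtype)
      (N := (θ • D.B y).smulRight y) (M := (θ • D.B x).smulRight x)
      (l := θ ^ 2 * (D.B y x * σ (D.B y x))) (fun H => h4 (H ▸ zero_mem k))
      (fun H => h4 (mem_of_sq_mem h.prime hr (H ▸ neg_mem (one_mem k))))
      (by simp [D.B_self_of_Q y1]) (by simp [D.B_self_of_Q x1])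
      (fun v => by simp [B_symm D y x]; module) (fun v => by simp [B_symm D y x]; module)
      ⟨_, ⟨_, r2 y hy y1, rfl⟩, fun v => by simp [rk1_apply]⟩ ⟨_, ⟨_, x2, rfl⟩, fun v => by simp [rk1_apply]⟩
    have y0 : y ≠ 0 := by rintro rfl; simp at h3
    have := finrank_span_singleton_le (F := F) y
    obtain ⟨w, w2, w1, w3, w4⟩ := h.exists_sing (ratSub_span hy) (F ∙ y) (by omega)
    rw [mem_perp_span_singleton] at w2
    obtain ⟨z, z2, z1, z3⟩ := h.exists_B_eq (ratSub_span w1) (x := y) (by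
      simpa using exchange_span (W := ⊥) (by simpa using y0) (by simpa using w3)) hy (one_mem k)
    rw [mem_perp_span_singleton] at z2
    obtain ⟨x', a1, c, a2⟩ := hZ w w1 (by rintro rfl; simp at w3) w4 _
      (sub_mem_zSet (h.mem_zSet hX w1 w4 z1 z2) h5 ((h6 w).trans (by simp [w2])))
    have := congrArg (D.B z) a2
    rw [one_mul] at z3
    rw [show m.1 _ = _ from h6 _] at this
    simp [D.eq_zero_symm z2, B_symm D z y, z3] at this
    have h7 := mul_mem (hB z z1 x' a1) (inv_mem θk)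
    rw [← this, mul_inv_cancel_right₀ θ0] at h7
    exact h4 h7
  obtain ⟨e, e1, e2, β, β0, H⟩ : ∃ e ∈ rat k b, D.Q e = 0 ∧ ∃ β : F, β ≠ 0 ∧
      ∀ y ∈ rat k b, D.B e y = 0 → D.Q y = 0 → D.B y (β • x) ∈ k := by
    by_cases H : ∀ y ∈ rat k b, D.Q y = 0 → D.B y x = 0
    · exact ⟨u, u1, u2, 1, one_ne_zero, fun y h1 _ h3 => by simp [H y h1 h3]⟩
    push Not at H
    obtain ⟨e, e1, e2, e3⟩ := H
    refine ⟨e, e1, e2, σ (D.B e x), by simpa, fun y y1 y2 y3 => ?_⟩
    have k1 := fun c h3 => sub_mem (sub_mem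
      (a1 _ (add_mem e1 (rat_smul (a := c) h3 y1)) (by rw [D.Q_add_smul y3, e2, y2]; simp)) (a1 e e1 e2))
      (a1 _ (rat_smul h3 y1) (D.Q_smul_of_Q y3 c))
    convert div_mem (sub_mem (k1 1 (one_mem k)) (div_mem (k1 θ θk) θk)) (ofNat_mem k 2) using 1
    simp only [D.B_lin]
    simp only [map_add, map_mul, θ1, map_neg, map_one, hc.σσ]
    field_simp; ring
  obtain ⟨T, t1, t2, t3⟩ := exists_proj k
  have : D.perp (F ∙ e) ≤ D.perp (F ∙ (β • x - pr b T (β • x))) :=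
    (h.perp (ratSub_span e1)).le fun y hy hr => by
      have h4 := h.B_pr hr t1 (β • x)
      rw [one_mul, one_mul, t3 _ (h.induct e1 e2 (P := fun y => D.B y (β • x) ∈ k) H
        (fun _ _ h1 h2 => by rw [B_sub_left]; exact sub_mem h1 h2) hr
        (D.mem_perp_span_singleton.1 hy))] at h4
      exact D.mem_perp_span_singleton.2 (D.eq_zero_symm (by rw [B_sub_right, h4, sub_self]))
  exact fin _ ((ratSub_span (pr_mem t2 (β • x))).sup (ratSub_span e1)) (finrank_two_le _ _)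
    ((Submodule.smul_mem_iff _ β0).1 (by
      simpa [hx] using Submodule.add_mem_sup (self_mem_span (pr b T (β • x)))
        (h.nd.perp_le_perp.1 this (self_mem_span _))))

end

open Cfsg.Geo Matrix
variable {F : Type*} [Field F] [Fintype F] {n q : ℕ} (hF : Fintype.card F = q ^ 2) (hn : 10 ≤ n)
include hF hn

theorem su_max_rat (F₀ : Subfield F) (r : ℕ) (P : GL (Fin n) F) (hr : r.Prime) (hro : Odd r)
    (hcard : Fintype.card F = Nat.card F₀ ^ r) (hP : IsFormRationalStructure (hermForm n F q) F₀ 1 P) :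
    IsMaximalIn (GU n F q ⊓ specialLinear (Fin n) F)
      (subfieldSubgroup F₀ P ⊓ (GU n F q ⊓ specialLinear (Fin n) F)) := by
  obtain ⟨σ, hc⟩ := isConj_of_card hF
  have hn' : finrank F (Fin n → F) = n := by simp
  have hr' : (finrank F₀ F).Prime := (finrank_of_card hcard).symm ▸ hr
  have hk : ∃ a ∈ F₀, σ a ≠ a := by
    by_contra! H
    rcases subring_prime hr' (RingHom.eqLocus σ (RingHom.id F)) H with h | h
    · have : Nat.card F₀ = q := hc.card_fixed ▸ Nat.card_congr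
        (Equiv.subtypeEquivRight fun x => ⟨H x, h x⟩)
      rw [this, hF] at hcard
      have := Nat.pow_right_injective hc.two_le hcard
      exact absurd hro (by rw [← (this : 2 = r)]; decide)
    · exact hc.ne_id (RingHom.ext h)
  have h := Herm.ratF (b := colBasis P) (stdHerm_nondeg hc (Fin n)) (fun x hx y hy => by
    obtain ⟨u, hu, rfl⟩ := (mem_rat_colBasis _ _).1 hx
    obtain ⟨v, hv, rfl⟩ := (mem_rat_colBasis _ _).1 hy
    exact hermForm_eq hc n _ _ ▸ hP v u hv hu) hr' (by omega) (Or.inr hk)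
  exact isMaximalIn_map (su_eq hc (by omega)) (comap_subfieldSubgroup' _ _ _) h.not_E_le
    (Herm.E_le_rat3 h (by omega) (by
      rw [finrank_of_card hcard]; rintro rfl; exact absurd hro (by decide)) hk)

theorem su_max_rat_orth (hodd : Odd q) (F₀ : Subfield F) (P : GL (Fin n) F)
    (hcard : Fintype.card F = Nat.card F₀ ^ 2) (hP : IsFormRationalStructure (hermForm n F q) F₀ 1 P) :
    IsMaximalIn (GU n F q ⊓ specialLinear (Fin n) F)
      (subfieldSubgroup F₀ P ⊓ (GU n F q ⊓ specialLinear (Fin n) F)) := by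
  obtain ⟨σ, hc⟩ := isConj_of_card hF
  have hn' : finrank F (Fin n → F) = n := by simp
  have h := Herm.ratF (b := colBasis P) (stdHerm_nondeg hc (Fin n)) (fun x hx y hy => by
    obtain ⟨u, hu, rfl⟩ := (mem_rat_colBasis _ _).1 hx
    obtain ⟨v, hv, rfl⟩ := (mem_rat_colBasis _ _).1 hy
    exact hermForm_eq hc n _ _ ▸ hP v u hv hu) ((finrank_of_card hcard).symm ▸ Nat.prime_two)
    (by omega) (Or.inl (two_ne_zero_of_odd_card hF hodd.pow))
  exact isMaximalIn_map (su_eq hc (by omega)) (comap_subfieldSubgroup' _ _ _) h.not_E_le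
    (Herm.E_le_rat2 h (finrank_of_card hcard))

theorem su_max_rat_symp (F₀ : Subfield F) (P : GL (Fin n) F) (ζ : F)
    (hcard : Fintype.card F = Nat.card F₀ ^ 2) (hζ0 : ζ ≠ 0) (hζ : ζ + ζ ^ q = 0)
    (hP : IsFormRationalStructure (hermForm n F q) F₀ ζ P) (halt : ∀ u : Fin n → F, (∀ i, u i ∈ F₀) →
      hermForm n F q ((P : Matrix (Fin n) (Fin n) F) *ᵥ u) ((P : Matrix (Fin n) (Fin n) F) *ᵥ u) = 0) :
    IsMaximalIn (GU n F q ⊓ specialLinear (Fin n) F)
      (subfieldSubgroup F₀ P ⊓ (GU n F q ⊓ specialLinear (Fin n) F)) := by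
  obtain ⟨σ, hc⟩ := isConj_of_card hF
  have hn' : finrank F (Fin n → F) = n := by simp
  have hQ : ∀ x ∈ rat F₀ (colBasis P), (stdHerm hc (Fin n)).Q x = 0 := fun x hx => by
    obtain ⟨u, hu, rfl⟩ := (mem_rat_colBasis _ _).1 hx
    exact hermForm_self hc n _ ▸ halt u hu
  have h : (stdHerm hc (Fin n)).RatF F₀ (colBasis P) ζ := ⟨stdHerm_nondeg hc (Fin n), hζ0,
    fun x hx y hy => by
      obtain ⟨u, hu, rfl⟩ := (mem_rat_colBasis _ _).1 hx
      obtain ⟨v, hv, rfl⟩ := (mem_rat_colBasis _ _).1 hy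
      exact hermForm_eq hc n _ _ ▸ hP v u hv hu,
    fun a ha => hc.apply a ▸ pow_mem ha q,
    by rw [hc.apply, eq_neg_of_add_eq_zero_right hζ, neg_div, div_self hζ0]; simp,
    fun x hx => ⟨0, by simp, by simp [hQ x hx]⟩,
    fun U hU h3 => by
      obtain ⟨e, h1, h2, h4⟩ := hU.exists_not_mem (W := ⊥) fun H => by
        rw [le_bot_iff.1 H] at h3; simp at h3
      exact ⟨e, h1, h2, by simpa using h4, hQ e h2⟩,
    (finrank_of_card hcard).symm ▸ Nat.prime_two, by omega⟩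
  exact isMaximalIn_map (su_eq hc (by omega)) (comap_subfieldSubgroup' _ _ _) h.not_E_le
    (Herm.E_le_rat2 h (finrank_of_card hcard))

end Cfsg.Lib.Forms
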