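import Cfsg.Agent.Lib.Max.Rf

/-!
# Sums of norm circles; two tori through a singular point
-/

set_option autoImplicit false

namespace Cfsg.Lib.Forms

open Module Form

variable {F : Type*} [Field F] {σ : F →+* F} {q : ℕ}

theorem quad3 {A B C x y z : F} (hx : A * x ^ 2 + B * x + C = 0) (hy : A * y ^ 2 + B * y + C = 0)
    (hz : A * z ^ 2 + B * z + C = 0) (xy : x ≠ y) (xz : x ≠ z) (yz : y ≠ z) : A = 0 := by
  have h1 : A * (x + y) + B = 0 :=
    mul_left_cancel₀ (sub_ne_zero.2 xy) (by linear_combination hx - hy)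
  have h2 : A * (x + z) + B = 0 :=
    mul_left_cancel₀ (sub_ne_zero.2 xz) (by linear_combination hx - hz)
  exact mul_left_cancel₀ (sub_ne_zero.2 yz) (by linear_combination h1 - h2)

namespace IsConj

variable (h : IsConj σ q)
include h

theorem exists_mu : ∃ s : Finset F, s.card = q + 1 ∧ ∀ x, x ∈ s ↔ x * σ x = 1 := by
  classical
  have := h.finite
  have := Fintype.ofFinite F
  refine ⟨Finset.univ.filter fun x => x * σ x = 1, ?_, by simp⟩
  rw [← h.card_norm_one, Nat.card_eq_fintype_card, Fintype.card_subtype]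

theorem circ2 {a b : F} (ha : a ≠ 0) (hb : b ≠ 0) : ∃ A : Finset F, q * (q + 1) ≤ 2 * A.card ∧
    ∀ x ∈ A, ∃ ε η, ε * σ ε = 1 ∧ η * σ η = 1 ∧ x = ε * a + η * b := by
  classical
  obtain ⟨s, hs, hs'⟩ := h.exists_mu
  let f : F × F → F := fun p => p.1 * a + p.2 * b
  let S := (s ×ˢ s).filter fun p => f p ≠ 0
  have h0 : ((s ×ˢ s).filter fun p => ¬ f p ≠ 0).card ≤ s.card := by
    refine Finset.card_le_card_of_injOn Prod.fst (fun p hp => ?_) fun p hp p' hp' H => ?_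
    · simp only [Finset.coe_filter, Finset.mem_product, Set.mem_ofPred_eq] at hp; exact hp.1.1
    · simp only [Finset.coe_filter, Finset.mem_product, Set.mem_ofPred_eq, not_not, f] at hp hp'
      exact Prod.ext H (mul_right_cancel₀ hb (by linear_combination hp.2 - hp'.2 - a * H))
  have h1 := Finset.card_filter_add_card_filter_not (s := s ×ˢ s) fun p => f p ≠ 0
  have h2 : S.card ≤ 2 * (S.image f).card := Finset.card_le_mul_card_image S 2 fun x hx => by
    by_contra H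
    obtain ⟨p₁, p₂, p₃, h1, h2, h3, h4, h5, h6⟩ := Finset.two_lt_card_iff.1 (not_le.1 H)
    have k : ∀ p ∈ S.filter fun p => f p = x, (-(a * σ x)) * p.1 ^ 2 +
        (x * σ x + a * σ a - b * σ b) * p.1 + -(x * σ a) = 0 := fun p hp => by
      simp only [S, Finset.mem_filter, Finset.mem_product, hs', f] at hp
      obtain ⟨⟨⟨k1, k2⟩, -⟩, rfl⟩ := hp
      simp only [map_add, map_mul]
      linear_combination (p.2 * b * σ a) * k1 + (p.1 * b * σ b) * k2
    have k' : ∀ p ∈ S.filter fun p => f p = x, ∀ p' ∈ S.filter fun p => f p = x, p ≠ p' →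
        p.1 ≠ p'.1 := fun p hp p' hp' H H' => by
      simp only [Finset.mem_filter, f] at hp hp'
      exact H (Prod.ext H' (mul_right_cancel₀ hb (by linear_combination hp.2 - hp'.2 - a * H')))
    have := quad3 (k _ h1) (k _ h2) (k _ h3) (k' _ h1 _ h2 h4) (k' _ h1 _ h3 h5) (k' _ h2 _ h3 h6)
    simp only [Finset.mem_filter, S] at h1
    simp [ha, h1.2 ▸ h1.1.2] at this
  refine ⟨S.image f, ?_, fun x hx => ?_⟩
  · rw [Finset.card_product, hs] at h1
    have : (q + 1) * (q + 1) = q * (q + 1) + (q + 1) := by ring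
    simp only [S] at h2 ⊢
    omega
  · simp only [S, Finset.mem_image, Finset.mem_filter, Finset.mem_product, hs', f] at hx
    obtain ⟨p, ⟨⟨k1, k2⟩, -⟩, rfl⟩ := hx
    exact ⟨_, _, k1, k2, rfl⟩

/-- Four norm circles cover the field. -/
theorem circ4 {a b c d : F} (ha : a ≠ 0) (hb : b ≠ 0) (hc : c ≠ 0) (hd : d ≠ 0) (x y : F) :
    ∃ ε₁ ε₂ ε₃ ε₄, ε₁ * σ ε₁ = 1 ∧ ε₂ * σ ε₂ = 1 ∧ ε₃ * σ ε₃ = 1 ∧ ε₄ * σ ε₄ = 1 ∧
      ε₁ * a + ε₂ * b + ε₃ * c + ε₄ * d = x ∧ ε₁ * a + ε₂ * b ≠ y := by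
  classical
  have := h.finite
  have := Fintype.ofFinite F
  obtain ⟨A, h1, hA⟩ := h.circ2 ha hb
  obtain ⟨B, h2, hB⟩ := h.circ2 hc hd
  have h3 := Finset.card_union_add_card_inter A (B.image (x - ·))
  have h4 := Finset.card_le_univ (A ∪ B.image (x - ·))
  rw [Finset.card_image_of_injective _ sub_right_injective] at h3
  rw [← Nat.card_eq_fintype_card, h.card] at h4
  have h5 := h.two_le
  obtain ⟨u, hu, hy⟩ := Finset.exists_mem_ne (s := A ∩ B.image (x - ·)) (by nlinarith) y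
  simp only [Finset.mem_inter, Finset.mem_image] at hu
  obtain ⟨hu, v, hv, huv⟩ := hu
  obtain ⟨ε₁, ε₂, k1, k2, rfl⟩ := hA u hu
  obtain ⟨ε₃, ε₄, k3, k4, rfl⟩ := hB v hv
  exact ⟨_, _, _, _, k1, k2, k3, k4, by linear_combination -huv, hy⟩

theorem mem_of_circ {V : Type*} [AddCommGroup V] [Module F V] {P : AddSubgroup V} {u : V} {κ : F}
    (hκ : κ ≠ 0) (H : ∀ ε : F, ε * σ ε = 1 → (ε * κ) • u ∈ P) (c : F) : c • u ∈ P := by
  obtain ⟨ε₁, ε₂, ε₃, ε₄, h1, h2, h3, h4, rfl, -⟩ := h.circ4 hκ hκ hκ hκ c 0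
  simp only [add_smul]
  exact add_mem (add_mem (add_mem (H _ h1) (H _ h2)) (H _ h3)) (H _ h4)

theorem exists_mu3 (a b : F) : ∃ ε, ε * σ ε = 1 ∧ ε ≠ a ∧ ε ≠ b := by
  classical
  obtain ⟨s, hs, hs'⟩ := h.exists_mu
  have := h.two_le
  obtain ⟨ε, h1, h2⟩ := Finset.exists_mem_notMem_of_card_lt_card (s := {a, b}) (t := s)
    (Finset.card_le_two.trans_lt (by omega))
  exact ⟨ε, (hs' ε).1 h1, by simpa using h2⟩

theorem exists_mu4 (hq : q ≠ 2) (a b c : F) : ∃ ε, ε * σ ε = 1 ∧ ε ≠ a ∧ ε ≠ b ∧ ε ≠ c := by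
  classical
  obtain ⟨s, hs, hs'⟩ := h.exists_mu
  have := h.two_le
  obtain ⟨ε, h1, h2⟩ := Finset.exists_mem_notMem_of_card_lt_card (s := {a, b, c}) (t := s)
    (Finset.card_le_three.trans_lt (by omega))
  exact ⟨ε, (hs' ε).1 h1, by simpa using h2⟩

end IsConj

namespace Form

variable {K : Kind σ} {V : Type*} [AddCommGroup V] [Module F V] {D : Form K V}
  {X : Subgroup D.isom}

/-- An isometry fixing `e` and acting trivially on `e^⊥ / e` is an Eichler element. -/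
theorem IsHyp.mem_zSet {e f : V} (hef : D.IsHyp e f) {g : D.isom} (hg : g ∈ X) (he : g.1 e = e)
    (h : ∀ w ∈ D.hp e f, ∃ c : F, g.1 w = w + c • e) : f - g.1 f ∈ zSet X e hef.Q_e := by
  have h1 : D.B e (g.1 f) = 1 := by rw [← he, B_isom, hef.B_ef]
  obtain ⟨d, hd, H⟩ := D.exists_eich_map hef.Q_e (hef.B_ef.trans h1.symm) (by simp [hef.B_ef])
    (Q_isom g f).symm
  have h2 : D.eich e _ d hd = g := isom_ext fun x => by
    obtain ⟨w, hw, hx⟩ := hef.exists_comb x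
    rw [hx, map_add, map_add, map_add, map_add, map_smul, map_smul, map_smul, map_smul, H, he,
      eich_apply_self]
    congr 1
    obtain ⟨c, hc⟩ := h w hw
    have h3 := B_isom g f w
    have h4 := B_isom (D.eich e _ d hd) f w
    rw [H, D.eich_apply_of_perp hd (D.mem_hp.1 hw).1] at h4
    rw [hc] at h3
    rw [hc, D.eich_apply_of_perp hd (D.mem_hp.1 hw).1]
    congr 2
    simp only [D.B_add_right, D.B_smul_right] at h3 h4
    exact mul_right_cancel₀ (D.ne_zero_symm (x := e) (y := g.1 f) (by simp [h1]))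
      (by linear_combination h4 - h3)
  have h5 : (K.ε * D.B e f)⁻¹ • (f - g.1 f) ∈ zSet X e hef.Q_e := ⟨d, hd, by rwa [h2]⟩
  rcases mul_self_eq_one_iff.1 K.ε_mul with h6 | h6
  · simpa [h6, hef.B_ef] using h5
  · simpa [h6, hef.B_ef] using neg_mem h5

theorem IsHyp.apply_f [FiniteDimensional F V] (hD : D.Nondeg) {e f : V} (hef : D.IsHyp e f)
    {g : D.isom} {s : F} (he : g.1 e = s • e) (h : ∀ w ∈ D.hp e f, g.1 w = w) :
    ∃ a b : F, σ s * b = 1 ∧ g.1 f = a • e + b • f := by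
  obtain ⟨w, hw, H⟩ := hef.exists_comb (g.1 f)
  refine ⟨K.ε * D.B f (g.1 f), D.B e (g.1 f), by rw [← D.B_smul_left, ← he, B_isom, hef.B_ef], ?_⟩
  by_cases h0 : w = 0
  · simpa [h0] using H
  obtain ⟨z, hz, h1⟩ := hef.exists_B_ne_zero hD hw h0
  have h2 := B_isom g z f
  rw [h z hz, H] at h2
  have := D.mem_hp.1 hz
  simp [D.eq_zero_symm this.1, D.eq_zero_symm this.2, h1] at h2

/-- Two torus elements with the same eigenvalue on `e`. -/
theorem two_tori [FiniteDimensional F V] (hD : D.Nondeg) {e p p' : V} (hQ : D.Q e = 0)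
    (hp : D.B e p = 1) (hp' : D.B e p' = 1) {g g' : D.isom}
    (hg : g ∈ X) (hg' : g' ∈ X) {s : F} (he : g.1 e = s • e) (he' : g'.1 e = s • e)
    (h : ∀ w, D.B e w = 0 → D.B p w = 0 → g.1 w = w)
    (h' : ∀ w, D.B e w = 0 → D.B p' w = 0 → g'.1 w = w) :
    (1 - (σ s)⁻¹) • (p - p') ∈ zSet X e hQ := by
  have k : ∀ {p : V} {g : D.isom}, D.B e p = 1 → (∀ w, D.B e w = 0 → D.B p w = 0 → g.1 w = w) →
      ∃ c : F, D.IsHyp e (p + c • e) ∧ ∀ w ∈ D.hp e (p + c • e), g.1 w = w := fun {p g} h1 h2 => by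
    obtain ⟨c, hc⟩ := D.exists_Q_add_smul_eq_zero hQ (w := p) (by simp [h1])
    refine ⟨c, ⟨hQ, hc, by simp [h1, D.B_self_of_Q hQ]⟩, fun w hw => ?_⟩
    have := D.mem_hp.1 hw
    exact h2 w this.1 (by simpa [this.1] using this.2)
  obtain ⟨c, hf, h1⟩ := k hp h
  obtain ⟨c', hf', h1'⟩ := k hp' h'
  have s0 : s ≠ 0 := by rintro rfl; exact hf.e_ne_zero (g.1.injective (by simpa using he))
  have h2 : (g'⁻¹).1 e = s⁻¹ • e := by
    rw [isom_inv_apply_eq, map_smul, he', smul_smul, inv_mul_cancel₀ s0, one_smul]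
  have h3 : ∀ w ∈ D.hp e (p' + c' • e), (g'⁻¹).1 w = w := fun w hw =>
    isom_inv_apply_eq.2 (h1' w hw)
  obtain ⟨a, b, hb, h4⟩ := hf.apply_f hD he h1
  obtain ⟨a', b', hb', h4'⟩ := hf'.apply_f hD h2 h3
  have σ0 : σ s ≠ 0 := by simpa using s0
  obtain rfl : b = (σ s)⁻¹ := eq_inv_of_mul_eq_one_right hb
  obtain rfl : b' = σ s := by rw [map_inv₀] at hb'; field_simp at hb'; exact hb'
  have h5 := hf.mem_zSet (X := X) (mul_mem (inv_mem hg') hg)
    (by rw [isom_mul_apply, he, map_smul, h2, smul_smul, mul_inv_cancel₀ s0, one_smul])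
    fun w hw => by
      obtain ⟨w', hw', H⟩ := hf'.exists_comb w
      rw [(D.mem_hp.1 hw).1, zero_smul, add_zero] at H
      refine ⟨(K.ε * D.B (p' + c' • e) w) * (s⁻¹ - 1), ?_⟩
      rw [isom_mul_apply, h1 w hw]
      conv_lhs => rw [H, map_add, map_smul, h2, h3 w' hw']
      linear_combination (norm := module) -H
  obtain ⟨y, hy, H⟩ := hf'.exists_comb (p + c • e)
  rw [hf.B_ef, one_smul] at H
  generalize K.ε * D.B (p' + c' • e) (p + c • e) = β at H
  rw [isom_mul_apply, h4, map_add, map_smul, map_smul, h2] at h5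
  conv at h5 => enter [2, 2, 2, 2]; rw [H, map_add, map_add, map_smul, h2, h4', h3 y hy]
  obtain rfl : p = β • e + (p' + c' • e) + y - c • e := eq_sub_of_add_eq H
  convert add_mem h5 (smul_mem_zSet hQ (a * s⁻¹ + (σ s)⁻¹ * (β * s⁻¹ + a') - β +
    (1 - (σ s)⁻¹) * (β + c' - c))) using 1
  match_scalars <;> field_simp <;> ring

end Form

end Cfsg.Lib.Forms
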