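import Cfsg.Agent.Lib.MaxU.Tab

/-! Two complementary totally isotropic three-spaces in a unitary space of dimension six. -/

set_option autoImplicit false

namespace Cfsg.Lib.Forms

open Module Form Herm

variable {F V : Type*} [Field F] [AddCommGroup V] [Module F V] [FiniteDimensional F V]
  {σ : F →+* F} {q : ℕ} {hc : IsConj σ q} {D : Form hc.kind V} {X : Subgroup D.isom}

theorem IsConj.sesq_zero (hc : IsConj σ q) {A B C E : F}
    (H : ∀ l, A + l * B + σ l * C + σ l * l * E = 0) : A = 0 ∧ B = 0 ∧ C = 0 ∧ E = 0 := by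
  obtain rfl : A = 0 := by simpa using H 0
  have k : ∀ ε, ε * σ ε = 1 → B * ε ^ 2 + E * ε + C = 0 := fun ε h => by
    linear_combination ε * H ε - (C + ε * E) * h
  obtain ⟨x, x1, x2, -⟩ := hc.exists_mu3 1 1
  obtain ⟨y, y1, y2, y3⟩ := hc.exists_mu3 1 x
  obtain rfl : B = 0 := quad3 (k 1 (by simp)) (k x x1) (k y y1) x2.symm y2.symm y3.symm
  obtain rfl : E = 0 := (mul_eq_zero.1 (show E * (x - 1) = 0 by
    linear_combination k x x1 - k 1 (by simp))).resolve_right (sub_ne_zero.2 x2)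
  simpa using k 1 (by simp)

namespace Du3

variable {W W' Y : Submodule F V} (h : D.IsDual W W') (ht : W ⊔ W' = ⊤) (hD : D.Nondeg)
  (h1 : D.E ⊓ (D.stab W ⊓ D.stab W') ≤ X)
  (hZ : ∀ u (hu : u ∈ W), u ≠ 0 → ∀ w ∈ W, (∀ c : F, c • w ∈ zSet X u (h.left.Q_eq u hu)) → w ∈ F ∙ u)
  {x x₁ x₂ : V} (m₁ : x₁ ∈ W) (m₂ : x₂ ∈ W') (hx : x₁ + x₂ = x)
  (hY : ∀ y ∈ Y, ∃ hE : D.IsEich x y 0, D.eich x y 0 hE ∈ X)
include h ht hD h1 hZ m₁ m₂ hx hY

theorem key {u y₁ y₂ : V} (hy : y₁ + y₂ ∈ Y) (n₁ : y₁ ∈ W) (n₂ : y₂ ∈ W') (hu : u ∈ W) (u0 : u ≠ 0)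
    (h2 : D.B u x₂ = 0) (h3 : D.B u y₂ = 0) (h4 : x₁ ∉ F ∙ u) : y₁ ∈ F ∙ u := by
  obtain ⟨v, v1, v2, v3⟩ := h.exists_B_eq ht hD ((Submodule.span_singleton_le_iff_mem _ _).2 hu) m₁ h4 1
  rw [mem_perp_span_singleton] at v2
  have v4 : D.B x₁ v = 1 := by rw [B_symm, v3, map_one]
  have k : ∀ y ∈ W', D.B u y = 0 → y ∈ zSet X u (h.left.Q_eq u hu) := fun y hy hy' =>
    ⟨0, h.isEich hu hy hy', h1 ⟨eich_mem_E _ _ _ _, h.eich_mem_stab hu hy _⟩⟩
  have A : ∀ t : F, (σ t * D.B y₁ v) • x₁ - t • y₁ ∈ F ∙ u := fun t => hZ u hu u0 _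
    (sub_mem (W.smul_mem _ m₁) (W.smul_mem _ n₁)) fun c => by
      obtain ⟨hE, hm⟩ := hY _ (Y.smul_mem t hy)
      have := sub_mem (sub_mem_zSet (k _ (W'.smul_mem c v1) (by simp [v2])) hm
        (eich_apply_of_perp_perp _ _ (by simp [← hx, h.left.B_eq _ m₁ _ hu, D.eq_zero_symm h2])
          (by simp [h.left.B_eq _ n₁ _ hu, D.eq_zero_symm h3])))
        (k (c • ((σ t * D.B y₁ v) • x₂ - t • y₂)) (W'.smul_mem _ (sub_mem (W'.smul_mem _ m₂)
          (W'.smul_mem _ n₂))) (by simp [h2, h3]))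
      convert this using 1
      simp only [eich_apply, ← hx, D.B_lin, v4, h.right.B_eq _ m₂ _ v1, h.right.B_eq _ n₂ _ v1,
        hermKind_ε]
      module
  have B : ∀ t : F, t * σ (D.B y₁ v) = σ t * D.B y₁ v := fun t => by
    obtain ⟨c, hc'⟩ := Submodule.mem_span_singleton.1 (A t)
    have := congrArg (D.B v) hc'
    simp only [D.B_lin, D.eq_zero_symm v2, v3, B_symm D y₁ v] at this
    linear_combination this
  obtain ⟨t, ht'⟩ := hc.exists_not_fixed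
  have C : D.B y₁ v = 0 := (mul_eq_zero.1 (show (σ t - t) * D.B y₁ v = 0 by
    have := B 1; rw [map_one] at this; linear_combination t * this - B t)).resolve_left
    (sub_ne_zero.2 ht')
  simpa [C] using A 1

omit hD h1 hZ hx hY ht h m₂ in
theorem exists_ab (h3 : finrank F W = 3) (x0 : x₁ ≠ 0) : ∃ a ∈ W, ∃ b ∈ W, D.B x₂ a = 0 ∧ D.B x₂ b = 0 ∧
    b ≠ 0 ∧ a ∉ F ∙ b ∧ ∀ l : F, x₁ ∉ F ∙ (a + l • b) := by
  have ex : ∀ b : V, ∃ a ∈ W, a ∉ F ∙ b ∧ D.B x₂ a = 0 := fun b => by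
    simpa using exists_not_mem_kers W (F ∙ b) [D.B x₂] (by
      have := finrank_span_singleton_le (F := F) b; simp; omega)
  by_cases h4 : D.B x₂ x₁ = 0
  · obtain ⟨a, a1, a2, a3⟩ := ex x₁
    exact ⟨a, a1, x₁, m₁, a3, h4, x0, a2, fun l => by
      simpa using exchange_span (W := ⊥) (by simpa using x0) (y := a + l • x₁) (by
        rwa [bot_sup_eq, Submodule.add_mem_iff_left _ (Submodule.smul_mem _ _ (self_mem_span _))])⟩
  obtain ⟨b, b1, b2, b3⟩ := ex 0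
  obtain ⟨a, a1, a2, a3⟩ := ex b
  refine ⟨a, a1, b, b1, a3, b3, by simpa using b2, a2, fun l H => ?_⟩
  obtain ⟨c, rfl⟩ := Submodule.mem_span_singleton.1 H
  simp [a3, b3] at h4

theorem disj (h3 : finrank F W = 3) (x0 : x₁ ≠ 0) {y : V} (hy : y ∈ Y) (n₁ : y ∈ W) : y = 0 := by
  obtain ⟨a, a1, b, b1, a2, b2, b0, a3, H⟩ := exists_ab (D := D) (x₂ := x₂) m₁ h3 x0
  have k : ∀ l : F, y ∈ F ∙ (a + l • b) := fun l => key h ht hD h1 hZ m₁ m₂ hx hY (y₂ := 0)
    (by simpa) n₁ (zero_mem _) (add_mem a1 (W.smul_mem _ b1)) (fun H0 => a3 (by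
      rw [eq_neg_of_add_eq_zero_left H0]; exact neg_mem (Submodule.smul_mem _ _ (self_mem_span _))))
    (D.eq_zero_symm (by simp [a2, b2])) (by simp) (H l)
  obtain ⟨c, c1⟩ := Submodule.mem_span_singleton.1 (k 0)
  obtain ⟨d, d1⟩ := Submodule.mem_span_singleton.1 (k 1)
  have e1 : (c - d) • a = d • b := by linear_combination (norm := module) c1 - d1
  by_cases e2 : c - d = 0
  · rw [e2, zero_smul, eq_comm, smul_eq_zero] at e1
    rw [← d1, e1.resolve_right b0, zero_smul]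
  · exact absurd ((Submodule.smul_mem_iff _ e2).1 (e1 ▸ Submodule.smul_mem _ _ (self_mem_span b))) a3

theorem false_of (h3 : finrank F W = 3) (x0 : x₁ ≠ 0) (h2 : 2 ≤ finrank F Y)
    (H' : ∀ y ∈ Y, y ∈ W' → y = 0) : False := by
  have H := fun y => disj h ht hD h1 hZ m₁ m₂ hx hY h3 x0 (y := y)
  obtain ⟨a, a1, b, b1, a2, b2, b0, a3, a4⟩ := exists_ab (D := D) (x₂ := x₂) m₁ h3 x0
  have k : ∀ l : F, ∃ z ∈ W', a + l • b + z ∈ Y ∧ D.B (a + l • b) z = 0 := fun l => by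
    have u1 := add_mem a1 (W.smul_mem l b1)
    obtain ⟨y, y1, y2, y3⟩ := exists_not_mem_kers Y ⊥ [D.B (a + l • b)] (by simp; omega)
    obtain ⟨y₁, n₁, y₂, n₂, rfl⟩ := exists_add_of_sup ht y
    have y4 : D.B (a + l • b) y₂ = 0 := by
      have := y3 (D.B (a + l • b)) (by simp)
      rwa [D.B_add_right, h.left.B_eq _ u1 _ n₁, zero_add] at this
    obtain ⟨c, rfl⟩ := Submodule.mem_span_singleton.1 (key h ht hD h1 hZ m₁ m₂ hx hY y1 n₁ n₂ u1
      (fun H0 => a3 (by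
        rw [eq_neg_of_add_eq_zero_left H0]; exact neg_mem (Submodule.smul_mem _ _ (self_mem_span _))))
      (D.eq_zero_symm (by simp [a2, b2])) y4 (a4 l))
    have c0 : c ≠ 0 := by
      rintro rfl
      exact y2 (by simpa using H' _ y1 (by simpa using n₂))
    refine ⟨c⁻¹ • y₂, W'.smul_mem _ n₂, ?_, by rw [D.B_smul_right, y4, mul_zero]⟩
    simpa only [smul_add c⁻¹ (c • _), inv_smul_smul₀ c0] using Y.smul_mem c⁻¹ y1
  obtain ⟨z, z1, z2, -⟩ := k 0
  obtain ⟨z', z3, z4, -⟩ := k 1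
  rw [zero_smul, add_zero] at z2
  have z5 : b + (z' - z) ∈ Y := by convert sub_mem z4 z2 using 1; module
  have z6 := sub_mem z3 z1
  generalize z' - z = w at z5 z6
  obtain ⟨e1, e2, e3, e4⟩ := hc.sesq_zero (A := D.B a z) (B := D.B a w) (C := D.B b z) (E := D.B b w)
    fun l => by
      obtain ⟨s, s1, s2, s3⟩ := k l
      have := H' (s - (z + l • w)) (by convert sub_mem s2 (add_mem z2 (Y.smul_mem l z5)) using 1; module)
        (sub_mem s1 (add_mem z1 (W'.smul_mem _ z6)))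
      rw [sub_eq_zero.1 this] at s3
      simp only [D.B_lin] at s3
      linear_combination s3
  have f1 := h.finrank_sup hD
  have f2 := hD.finrank_perp ((F ∙ b) ⊔ F ∙ a)
  rw [ht, finrank_top] at f1
  rw [finrank_two b0 a3] at f2
  have f3 : z ∉ W := fun H0 => a3 (by
    rw [H a (by simpa [Submodule.disjoint_def.1 h.disjoint z H0 z1] using z2) a1]; exact zero_mem _)
  have f4 : W ⊔ (F ∙ z) = D.perp ((F ∙ b) ⊔ F ∙ a) := Submodule.eq_of_le_of_finrank_le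
    (sup_le (fun v hv => by
      rw [mem_perp_sup_span, mem_perp_span_singleton]
      exact ⟨h.left.B_eq _ b1 _ hv, h.left.B_eq _ a1 _ hv⟩)
      ((Submodule.span_singleton_le_iff_mem _ _).2 (by
        rw [mem_perp_sup_span, mem_perp_span_singleton]; exact ⟨e3, e1⟩)))
    (by rw [Submodule.finrank_sup_span_singleton f3]; omega)
  obtain ⟨s, s1, _, s2, s3⟩ := Submodule.mem_sup.1 (f4.ge (show w ∈ _ by
    rw [mem_perp_sup_span, mem_perp_span_singleton]; exact ⟨e4, e2⟩))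
  obtain ⟨c, rfl⟩ := Submodule.mem_span_singleton.1 s2
  have s4 : s = 0 := Submodule.disjoint_def.1 h.disjoint s s1
    (eq_sub_of_add_eq s3 ▸ sub_mem z6 (W'.smul_mem _ z1))
  have s5 := H (b - c • a) (by
    convert sub_mem z5 (Y.smul_mem c z2) using 1; rw [← s3, s4]; module) (sub_mem b1 (W.smul_mem _ a1))
  rw [sub_eq_zero.1 s5] at a3 b0
  exact a3 ((Submodule.smul_mem_iff _ (left_ne_zero_of_smul b0)).1 (self_mem_span _))

end Du3

theorem Herm.dual_E_le {W W' : Submodule F V} (h : D.IsDual W W') (ht : W ⊔ W' = ⊤) (hD : D.Nondeg)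
    (h3 : finrank F W = 3) (h1 : D.E ⊓ D.dec ![W, W'] ≤ X) (h2 : ¬ X ≤ D.dec ![W, W']) : D.E ≤ X := by
  have ht' : W' ⊔ W = ⊤ := by rwa [sup_comm]
  have hf := h.finrank_eq hD
  have f1 := h.finrank_sup hD
  rw [ht, finrank_top] at f1
  have h4 : D.E ⊓ (D.stab W ⊓ D.stab W') ≤ X := fun g hg =>
    h1 ⟨hg.1, mem_dec_of_stab (by simpa [Fin.forall_fin_two] using hg.2)⟩
  have h4' : D.E ⊓ (D.stab W' ⊓ D.stab W) ≤ X := by rwa [inf_comm (D.stab W')]
  obtain ⟨s, hs, hs1, hs2⟩ := Herm.exists_swap hD (by omega) h (by rintro rfl; simp at h3)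
  have hsX : s ∈ X := h1 ⟨hs, Equiv.swap 0 1, by simp [Fin.forall_fin_two, hs1, hs2]⟩
  have hs0 : ∀ {e}, e ≠ 0 → s.1 e ≠ 0 := fun h => by simpa using h
  by_contra hno
  have hZ : ∀ u (hu : u ∈ W), u ≠ 0 → ∀ w ∈ W, (∀ c : F, c • w ∈ zSet X u (h.left.Q_eq u hu)) →
      w ∈ F ∙ u := fun u hu u0 w hw H => by
    by_contra H'
    have hA := h.at_of_zSet ht hD Herm.comm (by omega) h4 hu u0 hw H' H
    exact hno (h.E_le_of_at ht hD h4 hu u0 (hs1 ▸ Submodule.mem_map_of_mem hu) (hs0 u0) hA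
      (hA.conj hsX fun _ _ => trivial))
  have hZ' : ∀ u (hu : u ∈ W'), u ≠ 0 → ∀ w ∈ W', (∀ c : F, c • w ∈ zSet X u (h.right.Q_eq u hu)) →
      w ∈ F ∙ u := fun u hu u0 w hw H => by
    by_contra H'
    have hA := h.symm.at_of_zSet ht' hD Herm.comm (by omega) h4' hu u0 hw H' H
    exact hno (h.E_le_of_at ht hD h4 (hs2 ▸ Submodule.mem_map_of_mem hu) (hs0 u0) hu u0
      (hA.conj hsX fun _ _ => trivial) hA)
  have key : ∀ g ∈ X, ∀ a ∈ W, g.1 a ∉ W → g.1 a ∉ W' → False := fun g hg a ha h5 h6 => by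
    obtain ⟨x₁, m₁, x₂, m₂, hx⟩ := exists_add_of_sup ht (g.1 a)
    have hY : ∀ y ∈ (W' ⊓ D.perp (F ∙ a)).map (g.1 : V →ₗ[F] V),
        ∃ hE : D.IsEich (g.1 a) y 0, D.eich (g.1 a) y 0 hE ∈ X := by
      rintro _ ⟨b, ⟨b1, b2⟩, rfl⟩
      have hE := h.isEich ha b1 (D.mem_perp_span_singleton.1 b2)
      have := mul_mem (mul_mem hg (h4 ⟨eich_mem_E _ _ _ hE, h.eich_mem_stab ha b1 hE⟩)) (inv_mem hg)
      rw [conj_eich] at this
      exact ⟨_, this⟩
    refine Du3.false_of h ht hD h4 hZ m₁ m₂ hx hY h3 (by rintro rfl; exact h6 (by simpa [← hx])) ?_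
      fun y => Du3.disj h.symm ht' hD h4' hZ' m₂ m₁ ((add_comm _ _).trans hx) hY (by omega)
        (by rintro rfl; exact h5 (by simpa [← hx]))
    have := Submodule.finrank_sup_add_finrank_inf_eq W' (D.perp (F ∙ a))
    have := hD.finrank_perp (F ∙ a)
    have := finrank_span_singleton_le (F := F) a
    have := (W' ⊔ D.perp (F ∙ a)).finrank_le
    rw [finrank_map_isom]; omega
  refine h2 fun g hg => ?_
  have k : ∀ {U : Submodule F V}, finrank F U = finrank F W →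
      (∀ a ∈ U, g.1 a ∉ W → g.1 a ∉ W' → False) → ∃ j, U.map (g.1 : V →ₗ[F] V) = ![W, W'] j := by
    intro U hU H
    by_contra H'
    simp only [Fin.exists_fin_two, not_or] at H'
    obtain ⟨_, ⟨a, ha, rfl⟩, h4, h5⟩ := exists_not_mem_not_mem (U := U.map (g.1 : V →ₗ[F] V))
      (A := W) (B := W')
      (fun h => H'.1 (Submodule.eq_of_le_of_finrank_eq h (by rw [finrank_map_isom, hU]; rfl)))
      (fun h => H'.2 (Submodule.eq_of_le_of_finrank_eq h (by rw [finrank_map_isom, hU, hf]; rfl)))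
    exact H a ha h4 h5
  refine mem_dec_of_forall ?_ (Fin.forall_fin_two.2 ⟨k rfl (key g hg), k hf.symm fun a ha => ?_⟩)
  · have : W ≠ W' := fun hW => by
      have := h.disjoint.eq_bot_of_le hW.le
      rw [this] at h3; simp at h3
    intro i j; fin_cases i <;> fin_cases j <;> simp [this, this.symm]
  · obtain ⟨c, c1, rfl⟩ := hs1.ge ha
    exact key (g * s) (mul_mem hg hsX) c c1

theorem Herm.not_E_le_dual {W W' : Submodule F V} (h : D.IsDual W W') (h0 : W ≠ ⊥) :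
    ¬ D.E ≤ D.dec ![W, W'] := fun H => by
  obtain ⟨e, he, he0⟩ := Submodule.exists_mem_ne_zero_of_ne_bot h0
  obtain ⟨y, hy, hB⟩ := not_mem_perp_iff.1 fun hp => he0 (Submodule.disjoint_def.1 h.disj e he hp)
  obtain ⟨θ, t0, t1⟩ := hc.exists_trace_zero
  have y1 := h.right.Q_eq y hy
  obtain ⟨π, hπ⟩ := H (rk1_mem_E ((isRk1_iff_of_Q_eq_zero y1).2 t1) y1)
  have h1 := (hπ 0).le (Submodule.mem_map_of_mem he)
  have h2 : θ * D.B y e ≠ 0 := mul_ne_zero t0 (D.ne_zero_symm hB)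
  generalize π 0 = j at h1
  fin_cases j
  · have : y ∈ W := (W.smul_mem_iff h2).1 (by simpa [rk1_apply] using sub_mem h1 he)
    exact hB (h.left.B_eq _ he _ this)
  · exact he0 (Submodule.disjoint_def.1 h.disjoint e he (by
      simpa [rk1_apply] using sub_mem h1 (W'.smul_mem (θ * D.B y e) hy)))

open Cfsg.Geo in
theorem su_max_pair3 {F : Type*} [Field F] [Fintype F] {q : ℕ} (hF : Fintype.card F = q ^ 2)
    (D : Fin 2 → Submodule F (Fin 6 → F)) (hD : IsMDecomposition 3 D)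
    (hts : ∀ i, IsTotallySingularFor (hermForm 6 F q) (D i)) :
    IsMaximalIn (GU 6 F q ⊓ specialLinear (Fin 6) F)
      (decompositionStabilizer D ⊓ (GU 6 F q ⊓ specialLinear (Fin 6) F)) := by
  obtain ⟨σ, h⟩ := isConj_of_card hF
  have hN := stdHerm_nondeg h (Fin 6)
  obtain ⟨h1, h2, h3⟩ := isDual_of_dec hN hD fun i => Herm.isTS ((rep_herm h 6).ts.1 (hts i))
  have h0 := hD.finrank_eq 0
  have h4 : D 0 ≠ ⊥ := fun h => by rw [h] at h0; simp at h0
  refine isMaximalIn_map (su_eq h (by omega)) (comap_decompositionStabilizer D) ?_ fun X => ?_ <;>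
    rw [← h3]
  exacts [Herm.not_E_le_dual h1 h4, Herm.dual_E_le h1 h2 hN h0]

end Cfsg.Lib.Forms
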