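import Cfsg.Agent.Lib.MaxU.Blk
import Cfsg.Agent.Lib.Max2.Fr

/-!
# Overgroups of stabilisers of orthonormal frames: point stabilisers
-/

set_option autoImplicit false

namespace Cfsg.Lib.Forms

open Module Form

variable {F : Type*} [Field F] {σ : F →+* F} {V : Type*} [AddCommGroup V] [Module F V]

namespace Form

variable {K : Kind σ} {D : Form K V}

/-- Isometries stabilising `U` which agree on `U` with an element of `X`. -/
def agr (X : Subgroup D.isom) (U : Submodule F V) : Subgroup D.isom where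
  carrier := {g | g ∈ D.stab U ∧ ∃ x ∈ X, ∀ v ∈ U, x.1 v = g.1 v}
  mul_mem' := by
    rintro a b ⟨ha, x, hx, h⟩ ⟨hb, y, hy, h'⟩
    exact ⟨mul_mem ha hb, x * y, mul_mem hx hy, fun v hv => by
      rw [isom_mul_apply, isom_mul_apply, h' v hv, h _ (stab_mem hb hv)]⟩
  one_mem' := ⟨one_mem _, 1, one_mem _, fun _ _ => rfl⟩
  inv_mem' := by
    rintro a ⟨ha, x, hx, h⟩
    exact ⟨inv_mem ha, x⁻¹, inv_mem hx, fun v hv => by
      rw [isom_inv_apply_eq, h _ (stab_inv_mem ha hv), isom_apply_inv]⟩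

end Form

variable {q : ℕ} {h : IsConj σ q} {D : Form h.kind V} {X L : Subgroup D.isom}

namespace Herm

theorem isRk1_unit {p : V} (hp : D.Q p = 1) {ε : F} (hε : ε * σ ε = 1) : D.IsRk1 p (ε - 1) :=
  isRk1_iff.2 (by simp only [hp, map_sub, map_one]; linear_combination hε)

theorem torus3 {z p : V} (hz : D.Q z = 0) (hp : D.Q p ≠ 0) (hB : D.B z p = 1) (h1 : Rk X z)
    (h2 : Rk X p) {ε : F} (hε : ε * σ ε = 1) (e1 : ε ≠ 1) :
    ∃ g ∈ X, g.1 z = (-ε) • z ∧ ∀ w, D.B z w = 0 → D.B p w = 0 → g.1 w = w := by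
  have e0 := left_ne_zero_of_mul_eq_one hε
  have e2 : σ ε = ε⁻¹ := eq_inv_of_mul_eq_one_right hε
  have e3 := sub_ne_zero.2 e1
  have e4 := sub_ne_zero.2 e1.symm
  have hσ := herm_σ_Q D p
  have k1 : D.IsRk1 p ((ε - 1) / D.Q p) := isRk1_iff.2 (by
    simp only [map_div₀, map_sub, map_one, hσ, e2]; field_simp; ring)
  have k2 : D.IsRk1 z (D.Q p * (1 + ε) / (1 - ε)) := isRk1_iff.2 (by
    simp only [map_div₀, map_sub, map_add, map_mul, map_one, hσ, e2, hz]; field_simp; ring)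
  have hB' : D.B p z = 1 := by rw [B_symm, hB, map_one]
  refine ⟨_, mul_mem (mul_mem (h2 _ k1) (h1 _ k2)) (h2 _ k1), ?_, fun w h3 h4 => ?_⟩
  · simp only [isom_mul_apply, rk1_apply, D.B_lin, hB, hB', ← Q_eq, hz]
    match_scalars <;> field_simp <;> ring
  · rw [isom_mul_apply, isom_mul_apply, D.rk1_apply_of_perp _ _ h4, D.rk1_apply_of_perp _ _ h3,
      D.rk1_apply_of_perp _ _ h4]

variable [FiniteDimensional F V]

theorem mem_zSet_of_rk (hD : D.Nondeg) {z p p' : V} (hz : D.Q z = 0) (hp : D.Q p ≠ 0)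
    (hp' : D.Q p' ≠ 0) (hB : D.B z p = 1) (hB' : D.B z p' = 1) (h1 : Rk X z) (h2 : Rk X p)
    (h2' : Rk X p') (c : F) : c • (p - p') ∈ zSet X z hz := by
  obtain ⟨ε, hε, e1, e2⟩ := h.exists_mu3 1 (-1)
  obtain ⟨g, hg, h3, h4⟩ := torus3 hz hp hB h1 h2 hε e1
  obtain ⟨g', hg', h3', h4'⟩ := torus3 hz hp' hB' h1 h2' hε e1
  have h5 := two_tori hD hz hB hB' hg hg' h3 h3' h4 h4'
  have h6 : 1 - (σ (-ε))⁻¹ = 1 + ε := by rw [map_neg, eq_inv_of_mul_eq_one_right hε]; simp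
  rw [h6] at h5
  refine h.mem_of_circ (κ := 1 + ε) (fun h7 => e2 (by linear_combination h7)) (fun η hη => ?_) c
  by_cases η1 : η = 1
  · simpa [η1] using h5
  have hη' : σ η * σ (σ η) = 1 := by rw [h.σσ, mul_comm, hη]
  obtain ⟨k, hk, h7, h8⟩ := torus3 hz hp hB h1 h2 hη' fun h7 => η1 (by rw [← h.σσ η, h7, map_one])
  have h9 := map_mem_zSet h5 hk h7
  have h10 : D.B p z = 1 := by rw [B_symm, hB, map_one]
  have h11 := h8 (p - p' - D.B p (p - p') • z) (by simp [hB, hB', D.B_self_of_Q hz]) (by simp [h10])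
  rw [map_sub, map_smul, h7, sub_eq_iff_eq_add] at h11
  rw [map_smul, h11, map_neg, h.σσ] at h9
  convert sub_mem (smul_mem_zSet hz (η * (1 + ε) * D.B p (p - p') * (1 + σ η))) h9 using 1
  module

theorem rk_of_degenerate {u z : V} (hu : D.Q u = 1) (hz : D.Q z = 0) (huz : D.B u z = 0)
    (h1 : Rk X u) (h2 : Rk X (u + z)) : Rk X z ∧ ∀ c : F, c • u ∈ zSet X z hz := by
  have k0 : D.B u u = 1 := by rw [← Q_eq, hu]
  have k1 := D.B_self_of_Q hz
  have k2 := D.eq_zero_symm huz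
  obtain ⟨ε, hε, e1, -⟩ := h.exists_mu3 1 1
  have e2 : σ ε = ε⁻¹ := eq_inv_of_mul_eq_one_right hε
  have e0 := left_ne_zero_of_mul_eq_one hε
  have h3 : (1 - ε) • u ∈ zSet X z hz := by
    have k3 := isRk1_unit (D := D) (p := u + z) (by simp [Q_eq, k0, k1, k2, huz]) hε
    have k4 := isRk1_unit hu (ε := σ ε) (by rw [h.σσ, mul_comm, hε])
    refine ⟨1 - ε, ⟨hz, by simp [k2], by simp [D.Q_smul, hu]; linear_combination -hε⟩, ?_⟩
    convert mul_mem (h2 _ k3) (h1 _ k4) using 1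
    refine isom_ext fun x => ?_
    simp only [eich_apply, isom_mul_apply, rk1_apply, D.B_lin, k0, k1, k2, huz, hermKind_ε,
      map_sub, map_one, e2]
    match_scalars <;> field_simp <;> ring
  have h4 : ∀ c : F, c • u ∈ zSet X z hz := h.mem_of_circ (sub_ne_zero.2 e1.symm) fun η hη => by
    have := map_mem_zSet' h3 (h1 _ (isRk1_unit hu hη)) (D.rk1_apply_of_perp _ _ huz)
    convert this using 1
    simp only [rk1_apply, D.B_lin, k0]; module
  exact ⟨(at_bot_of_zSet (he := hz) comm fun a =>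
    ⟨u, by simpa using h4 1, a • u, h4 a, by simp [k0]⟩).rk hz, h4⟩

theorem mem_of_agr (hD : D.Nondeg) (hn : 3 ≤ finrank F V) (hX : X ≤ D.E) {w : V} (hw : D.Q w = 1)
    {g : D.isom} (hg : g ∈ agr X (D.perp (F ∙ w))) (hE : g ∈ D.E) : g ∈ X := by
  obtain ⟨-, x, hx, H⟩ := hg
  have h1 : x⁻¹ * g ∈ D.fix (D.perp (F ∙ w)) := fun v hv => by
    rw [isom_mul_apply, isom_inv_apply_eq, H v hv]
  have h2 := hD.sub_mem_of_fix h1 w
  rw [hD.perp_perp] at h2
  obtain ⟨c, hc⟩ := Submodule.mem_span_singleton.1 h2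
  have k0 : D.B w w = 1 := by rw [← Q_eq, hw]
  have h3 : ∀ v, (x⁻¹ * g).1 v = v + (c • D.B w) v • w := fun v => by
    have := h1 (v - D.B w v • w) (D.mem_perp_span_singleton.2 (by simp [k0]))
    rw [map_sub, map_smul, sub_eq_iff_eq_add, eq_add_of_sub_eq hc.symm] at this
    rw [this]; simp only [LinearMap.smul_apply, smul_eq_mul]; module
  have h4 := det_of_tv h3
  rw [← coe_det, (mem_E hD hn).1 (mul_mem (inv_mem (hX hx)) hE)] at h4
  have h5 : c = 0 := by simpa [k0] using h4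
  have : x⁻¹ * g = 1 := isom_ext fun v => by rw [h3, h5]; simp [isom_one_apply]
  rwa [← inv_mul_eq_one.1 this]

end Herm

variable {ι : Type*} [Fintype ι] [DecidableEq ι]

variable (D) in
/-- An orthonormal basis. -/
def ONB (b : Basis ι F V) : Prop := ∀ i j, D.B (b i) (b j) = if i = j then 1 else 0

variable (D) in
/-- The stabiliser of a frame. -/
def frm (b : Basis ι F V) : Subgroup D.isom := D.dec fun i => F ∙ b i

variable (D) in
open Classical in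
/-- The support of a vector. -/
noncomputable def sp (b : Basis ι F V) (x : V) : Finset ι := Finset.univ.filter fun i => D.B (b i) x ≠ 0

open Herm

variable {b : Basis ι F V}

omit [DecidableEq ι] in
@[simp] theorem mem_sp {x : V} {i : ι} : i ∈ sp D b x ↔ D.B (b i) x ≠ 0 := by simp [sp]

omit [DecidableEq ι] in
theorem mem_frm {g : D.isom} : g ∈ frm D b ↔ ∀ i, ∃ j, ∃ c : F, g.1 (b i) = c • b j :=
  Fr.mem_mono (g := g.1)

namespace ONB

variable (hb : ONB D b)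
include hb

omit [Fintype ι] in
theorem self (i : ι) : D.B (b i) (b i) = 1 := by simp [hb i i]

omit [Fintype ι] in
theorem ne {i j : ι} (hij : i ≠ j) : D.B (b i) (b j) = 0 := by simp [hb i j, hij]

omit [Fintype ι] in
theorem Q_b (i : ι) : D.Q (b i) = 1 := by rw [Q_eq, hb.self]

omit [Fintype ι] in
theorem co (i : ι) (x : V) : D.B (b i) x = b.repr x i := by
  have : D.B (b i) = b.coord i := b.ext fun j => by simp [hb i j, Finsupp.single_apply, eq_comm]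
  rw [this]; rfl

omit [Fintype ι] in
theorem ext {x y : V} (H : ∀ i, D.B (b i) x = D.B (b i) y) : x = y :=
  b.ext_elem fun i => by rw [← hb.co, ← hb.co, H]

theorem sum_eq (x : V) : ∑ i, D.B (b i) x • b i = x := by simp only [hb.co, b.sum_repr]

theorem B_sum (x y : V) : D.B x y = ∑ i, σ (D.B (b i) x) * D.B (b i) y := by
  conv_lhs => rw [← hb.sum_eq x]
  simp [map_sum]

omit [Fintype ι] in
theorem nondeg : D.Nondeg := fun x hx => hb.ext fun i => by rw [D.eq_zero_symm (hx _), map_zero]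

theorem exists_ne {x : V} (hx : x ≠ 0) : ∃ i, D.B (b i) x ≠ 0 := by
  by_contra! H
  exact hx (hb.ext fun i => by simp [H])

theorem sum_pair {i j : ι} (hij : i ≠ j) {x : V} (hx : ∀ l, l ≠ i → l ≠ j → D.B (b l) x = 0) (y : V) :
    D.B x y = σ (D.B (b i) x) * D.B (b i) y + σ (D.B (b j) x) * D.B (b j) y := by
  rw [hb.B_sum, Fintype.sum_eq_add i j hij fun l hl => by simp [hx l hl.1 hl.2]]

theorem rk_mem (i : ι) (c : F) (hc : D.IsRk1 (b i) c) : D.rk1 (b i) c hc ∈ frm D b :=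
  mem_frm.2 fun j => by
    by_cases hij : i = j
    · exact ⟨j, 1 + c, by simp [rk1_apply, hij, hb.self, add_smul]⟩
    · exact ⟨j, 1, by simp [rk1_apply, hb.ne hij]⟩

omit [Fintype ι] in
theorem isRk1_sw {i j : ι} (hij : i ≠ j) {ζ : F} (hζ : ζ * σ ζ = 1) :
    D.IsRk1 (b i - ζ • b j) (-1) := isRk1_iff.2 (by
  simp [Q_eq, hb.self, hb.ne hij, hb.ne hij.symm]; linear_combination hζ)

/-- A twisted transposition. -/
noncomputable def sw {i j : ι} (hij : i ≠ j) {ζ : F} (hζ : ζ * σ ζ = 1) : D.isom :=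
  D.rk1 _ _ (hb.isRk1_sw hij hζ)

omit [Fintype ι] in
theorem sw_apply {i j : ι} (hij : i ≠ j) {ζ : F} (hζ : ζ * σ ζ = 1) (x : V) :
    (hb.sw hij hζ).1 x = x - (D.B (b i) x - σ ζ * D.B (b j) x) • (b i - ζ • b j) := by
  simp only [sw, rk1_apply, D.B_lin]; module

omit [Fintype ι] in
theorem sw_left {i j : ι} (hij : i ≠ j) {ζ : F} (hζ : ζ * σ ζ = 1) :
    (hb.sw hij hζ).1 (b i) = ζ • b j := by simp [sw_apply, hb.self, hb.ne hij.symm]

omit [Fintype ι] in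
theorem sw_right {i j : ι} (hij : i ≠ j) {ζ : F} (hζ : ζ * σ ζ = 1) :
    (hb.sw hij hζ).1 (b j) = σ ζ • b i := by
  simp only [sw_apply, hb.self, hb.ne hij]
  linear_combination (norm := module) (-1 : F) • (congrArg (· • b j) hζ)

omit [Fintype ι] in
theorem sw_ne {i j l : ι} (hij : i ≠ j) {ζ : F} (hζ : ζ * σ ζ = 1) (h1 : l ≠ i) (h2 : l ≠ j) :
    (hb.sw hij hζ).1 (b l) = b l := by simp [sw_apply, hb.ne h1.symm, hb.ne h2.symm]

theorem sw_mem {i j : ι} (hij : i ≠ j) {ζ : F} (hζ : ζ * σ ζ = 1) : hb.sw hij hζ ∈ frm D b :=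
  mem_frm.2 fun l => by
    by_cases h1 : l = i
    · exact ⟨j, ζ, h1 ▸ hb.sw_left hij hζ⟩
    by_cases h2 : l = j
    · exact ⟨i, σ ζ, h2 ▸ hb.sw_right hij hζ⟩
    · exact ⟨l, 1, by rw [hb.sw_ne hij hζ h1 h2, one_smul]⟩

variable [FiniteDimensional F V]

omit [Fintype ι] in
theorem det_sw {i j : ι} (hij : i ≠ j) {ζ : F} (hζ : ζ * σ ζ = 1) :
    (D.det (hb.sw hij hζ) : F) = -1 := by
  rw [sw, det_rk1]; simp [hb.self, hb.ne hij, hb.ne hij.symm]; linear_combination hζ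

omit [DecidableEq ι] hb [FiniteDimensional F V] in
theorem card_le (b : Basis ι F V) (hn : 3 ≤ Fintype.card ι) : 3 ≤ finrank F V := by rwa [finrank_eq_card_basis b]

theorem exists_fix (hn : 3 ≤ Fintype.card ι) {g : D.isom} (hg : g ∈ frm D b) (k : ι) :
    ∃ c hc, g * D.rk1 (b k) c hc ∈ D.E ⊓ frm D b := by
  obtain ⟨c, hc, h4⟩ := exists_rk1_det_eq (hb.Q_b k) (u := σ (D.det g))
    (by rw [h.σσ, mul_comm]; exact hb.nondeg.det_mul_σ_det g)
  refine ⟨c, hc, (mem_E hb.nondeg (card_le b hn)).2 (Units.ext ?_),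
    mul_mem hg (hb.rk_mem _ _ _)⟩
  rw [map_mul, Units.val_mul, h4]; exact hb.nondeg.det_mul_σ_det g

omit [Fintype ι] in
theorem mem_stab {g : D.isom} {k : ι} {c : F} (hk : g.1 (b k) = c • b k) :
    g ∈ D.stab (D.perp (F ∙ b k)) := D.stab_le_stab_perp _ (D.mem_stab_of_mapsTo fun x hx => by
  obtain ⟨a, rfl⟩ := Submodule.mem_span_singleton.1 hx
  rw [map_smul, hk, smul_smul]; exact Submodule.smul_mem _ _ (Submodule.mem_span_singleton_self _))

theorem mem_agr (hn : 3 ≤ Fintype.card ι) (hX : D.E ⊓ frm D b ≤ X) {g : D.isom} (hg : g ∈ frm D b)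
    {k : ι} {c : F} (hk : g.1 (b k) = c • b k) : g ∈ agr X (D.perp (F ∙ b k)) := by
  obtain ⟨a, ha, H⟩ := hb.exists_fix hn hg k
  exact ⟨hb.mem_stab hk, _, hX H, fun v hv => by
    rw [isom_mul_apply, D.rk1_apply_of_perp _ _ (D.mem_perp_span_singleton.1 hv)]⟩

omit [Fintype ι] [FiniteDimensional F V] in
theorem exists_hyp {i j : ι} (hij : i ≠ j) :
    ∃ e ∈ Submodule.span F {b i, b j}, ∃ f ∈ Submodule.span F {b i, b j}, D.IsHyp e f := by
  obtain ⟨θ, hθ⟩ := h.exists_norm_eq (a := -1) (by simp)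
  have h1 : b i ∈ Submodule.span F {b i, b j} := Submodule.subset_span (by simp)
  have h2 : b i + θ • b j ∈ Submodule.span F {b i, b j} :=
    add_mem h1 (Submodule.smul_mem _ _ (Submodule.subset_span (by simp)))
  exact ⟨_, h2, exists_isHyp_mem h2 (by
    simp [Q_eq, hb.self, hb.ne hij, hb.ne hij.symm]; linear_combination hθ)
    (not_mem_perp_iff.2 ⟨_, h1, by simp [hb.self, hb.ne hij.symm]⟩)⟩

omit [Fintype ι] in
theorem stab_of_fix {U : Submodule F V} (hM : D.MaxFull L U) {i j : ι} (hij : i ≠ j) (hi : b i ∈ U)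
    (hj : b j ∈ U) {g : D.isom} (hg : g ∈ L) (h1 : g.1 (b i) = b i) (h2 : g.1 (b j) = b j) :
    g ∈ D.stab U := by
  obtain ⟨e, he, f, hf, hef⟩ := hb.exists_hyp hij
  have h3 : Submodule.span F {b i, b j} ≤ U := Submodule.span_le.2 (Set.pair_subset hi hj)
  have h4 : g⁻¹ ∈ D.fix (Submodule.span F {b i, b j}) := inv_mem (D.mem_fix_span.2 (by simp [h1, h2]))
  exact hM.mem_stab' hef (h3 he) (h3 hf) hg (by rw [h4 e he]; exact h3 he)
    (by rw [h4 f hf]; exact h3 hf)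

section
variable {k : ι} (hL : ∀ g ∈ frm D b, ∀ c : F, g.1 (b k) = c • b k → g ∈ L)
include hL

omit [FiniteDimensional F V] in
theorem rk_b (i : ι) : Rk L (b i) := fun c hc => hL _ (hb.rk_mem i c hc) (1 + c * D.B (b i) (b k))
  (by by_cases hi : i = k <;> simp [rk1_apply, hi, hb.self, hb.ne, add_smul])

omit [FiniteDimensional F V] in
theorem sw_mem' {i j : ι} (hij : i ≠ j) {ζ : F} (hζ : ζ * σ ζ = 1) (h1 : k ≠ i) (h2 : k ≠ j) :
    hb.sw hij hζ ∈ L := hL _ (hb.sw_mem hij hζ) 1 (by rw [hb.sw_ne hij hζ h1 h2, one_smul])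

theorem win {z : V} (hz : D.Q z = 0) (zk : D.B (b k) z = 0) (hT : Rk L z) {i j : ι} (hij : i ≠ j)
    (hi : D.B (b i) z ≠ 0) (hj : D.B (b j) z ≠ 0)
    (H : (∃ l, l ≠ i ∧ l ≠ j ∧ D.B (b l) z ≠ 0) ∨ ∃ u, D.Q u ≠ 0 ∧ D.B z u = 0 ∧ D.B (b k) u = 0 ∧
      ∀ c : F, c • u ∈ zSet L z hz) : D.Full L (D.perp (F ∙ b k)) := by
  obtain ⟨ε, hε, e1, -⟩ := h.exists_mu3 1 1
  have hi' := D.ne_zero_symm hi
  set Y := Submodule.span F {z, b i}
  have zY : z ∈ Y := Submodule.subset_span (by simp)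
  have iY : b i ∈ Y := Submodule.subset_span (by simp)
  have h1 : D.At L Y z := at_of_zSet (he := hz) hT.at_bot fun y hy h2 => by
    obtain ⟨s, t, rfl⟩ := Submodule.mem_span_pair.1 hy
    have : t = 0 := by simpa [D.B_self_of_Q hz, hi'] using h2
    simpa [this] using smul_mem_zSet hz s
  have h2 := isRk1_unit (hb.Q_b i) hε
  have h3 : D.rk1 _ _ h2 ∈ D.stab Y := mem_stab_of_sub_mem fun x => by
    simpa [rk1_apply] using Y.smul_mem _ iY
  obtain ⟨U, hU, hM⟩ := (h1.full (h1.conj (hb.rk_b hL i _ h2) fun y hy => stab_inv_mem h3 hy) zY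
    (stab_mem h3 zY) hz (by simpa using hz) (by
      simp [rk1_apply, D.B_self_of_Q hz, hi, hi', sub_ne_zero.2 e1])).exists_maxFull
  have hR : D.RichOn U := Or.inl exists_tr
  have hr : z ∉ D.perp U := not_mem_perp_iff.2 ⟨_, hU iY, hi'⟩
  have h4 : ∀ m, D.B (b m) z ≠ 0 → b m ∈ U := fun m hm => by
    have hm' := D.ne_zero_symm hm
    have := hM.mem_of_zSet hR (hU zY) hz hr (mem_zSet_of_rk hb.nondeg hz
      (p := (D.B z (b i))⁻¹ • b i) (p' := (D.B z (b m))⁻¹ • b m)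
      (by simp [D.Q_smul, hb.Q_b, hi']) (by simp [D.Q_smul, hb.Q_b, hm']) (by simp [hi'])
      (by simp [hm']) hT ((hb.rk_b hL i).smul (inv_ne_zero hi'))
      ((hb.rk_b hL m).smul (inv_ne_zero hm')))
    simpa [U.smul_mem_iff (inv_ne_zero hm')] using
      sub_mem (U.smul_mem (D.B z (b i))⁻¹ (hU iY)) this
  have h5 := fun {g} => hb.stab_of_fix hM hij (h4 i hi) (h4 j hj) (g := g)
  obtain ⟨l, li, lj, lk, hl⟩ : ∃ l, l ≠ i ∧ l ≠ j ∧ l ≠ k ∧ b l ∈ U := by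
    by_cases H' : ∃ l, l ≠ i ∧ l ≠ j ∧ D.B (b l) z ≠ 0
    · obtain ⟨l, li, lj, hl⟩ := H'
      exact ⟨l, li, lj, by rintro rfl; exact hl zk, h4 l hl⟩
    obtain ⟨u, hu, zu, uk, H⟩ := H.resolve_left H'
    push Not at H'
    obtain ⟨l, li, lj, hl⟩ : ∃ l, l ≠ i ∧ l ≠ j ∧ D.B (b l) u ≠ 0 := by
      by_contra! h6
      rw [Q_eq, hb.sum_pair hij h6] at hu
      rw [Q_eq, hb.sum_pair hij H'] at hz
      rw [hb.sum_pair hij H'] at zu
      have h7 := congrArg σ zu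
      simp only [map_add, map_mul, h.σσ, map_zero] at h7
      refine hu (mul_left_cancel₀ (mul_ne_zero hi ((map_ne_zero σ).2 hi)) ?_)
      linear_combination (σ (D.B (b j) u) * D.B (b j) u) * hz +
        (D.B (b i) z * σ (D.B (b i) u)) * zu - (σ (D.B (b j) z) * D.B (b j) u) * h7
    refine ⟨l, li, lj, by rintro rfl; exact hl uk, ?_⟩
    have h6 := hM.mem_of_zSet hR (hU zY) hz hr H
    have h7 := isRk1_unit (hb.Q_b l) hε
    have := sub_mem (stab_mem (h5 (hb.rk_b hL l _ h7) (D.rk1_apply_of_perp _ _ (hb.ne li))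
      (D.rk1_apply_of_perp _ _ (hb.ne lj))) h6) h6
    rwa [rk1_apply, add_sub_cancel_left,
      U.smul_mem_iff (mul_ne_zero (sub_ne_zero.2 e1) hl)] at this
  refine hM.full.mono fun v hv => ?_
  rw [← hb.sum_eq v]
  refine sum_mem fun m _ => ?_
  by_cases mk : m = k
  · rw [mk, D.mem_perp_span_singleton.1 hv, zero_smul]; exact zero_mem _
  refine U.smul_mem _ ?_
  by_cases mi : m = i
  · exact mi ▸ h4 i hi
  by_cases mj : m = j
  · exact mj ▸ h4 j hj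
  by_cases ml : l = m
  · exact ml ▸ hl
  have h6 : (1 : F) * σ 1 = 1 := by simp
  simpa [hb.sw_left] using stab_mem (h5 (hb.sw_mem' hL ml h6 lk.symm (Ne.symm mk))
    (hb.sw_ne ml h6 li.symm (Ne.symm mi)) (hb.sw_ne ml h6 lj.symm (Ne.symm mj))) hl

theorem win4 {u : V} (hu : D.Q u = 1) (uk : D.B (b k) u = 0) (hT : Rk L u)
    (h4 : 4 ≤ (sp D b u).card) :
    D.Full L (D.perp (F ∙ b k)) := by
  obtain ⟨i₁, i₂, i₃, i₄, h1, h2, h3, h4, n1, n2, n3, n4, n5, n6⟩ := Finset.three_lt_card_iff.1 h4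
  simp only [mem_sp] at h1 h2 h3 h4
  have N : ∀ {a : F}, a ≠ 0 → a * σ a ≠ 0 := fun ha => mul_ne_zero ha ((map_ne_zero σ).2 ha)
  obtain ⟨ε₁, ε₂, ε₃, ε₄, e1, e2, e3, e4, e5, e6⟩ := h.circ4 (N h1) (N h2) (N h3) (N h4)
    (D.B (b i₁) u * σ (D.B (b i₁) u) + D.B (b i₂) u * σ (D.B (b i₂) u) +
      D.B (b i₃) u * σ (D.B (b i₃) u) + D.B (b i₄) u * σ (D.B (b i₄) u))
    (D.B (b i₁) u * σ (D.B (b i₁) u) + D.B (b i₂) u * σ (D.B (b i₂) u))
  have R := fun i ε (hε : ε * σ ε = 1) => hb.rk_b hL i _ (isRk1_unit (hb.Q_b i) hε)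
  have hg := mul_mem (mul_mem (mul_mem (R i₁ _ e1) (R i₂ _ e2)) (R i₃ _ e3)) (R i₄ _ e4)
  obtain ⟨z, hz⟩ : ∃ z, z = ((ε₁ - 1) * D.B (b i₁) u) • b i₁ + ((ε₂ - 1) * D.B (b i₂) u) • b i₂ +
    ((ε₃ - 1) * D.B (b i₃) u) • b i₃ + ((ε₄ - 1) * D.B (b i₄) u) • b i₄ := ⟨_, rfl⟩
  have h5 := hT.conj hg
  have h6 := Q_isom (D.rk1 _ _ (isRk1_unit (hb.Q_b i₁) e1) * D.rk1 _ _ (isRk1_unit (hb.Q_b i₂) e2) *
    D.rk1 _ _ (isRk1_unit (hb.Q_b i₃) e3) * D.rk1 _ _ (isRk1_unit (hb.Q_b i₄) e4)) u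
  rw [show (_ : D.isom).1 u = u + z by
    simp only [hz, isom_mul_apply, rk1_apply, D.B_lin, hb.ne n1, hb.ne n2, hb.ne n3, hb.ne n4,
      hb.ne n5, hb.ne n6]; module] at h5 h6
  have h7 : D.B u z = 0 := by
    simp only [hz, D.B_lin, B_symm D (b _) u]; linear_combination e5
  have h8 : D.Q z = 0 := by simpa [D.Q_add_of_B h7] using h6
  obtain ⟨h9, h10⟩ := rk_of_degenerate hu h8 h7 hT h5
  have z0 : z ≠ 0 := fun h0 => by
    have a1 := congrArg (D.B (b i₁)) (hz.symm.trans h0)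
    have a2 := congrArg (D.B (b i₂)) (hz.symm.trans h0)
    simp [hb.self, hb.ne, n1, n2, n3, n4, n5, n1.symm, h1, h2, sub_eq_zero] at a1 a2
    simp [a1, a2] at e6
  have zk : D.B (b k) z = 0 := by
    have : ∀ i, D.B (b i) u ≠ 0 → D.B (b k) (b i) = 0 := fun i hi => hb.ne (by rintro rfl; exact hi uk)
    simp [hz, this, h1, h2, h3, h4]
  obtain ⟨i, hi⟩ := hb.exists_ne z0
  obtain ⟨j, ji, hj⟩ : ∃ j, j ≠ i ∧ D.B (b j) z ≠ 0 := by
    by_contra! H
    rw [Q_eq, hb.B_sum, Fintype.sum_eq_single i fun j hj => by simp [H j hj]] at h8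
    simp [hi] at h8
  exact hb.win hL h8 zk h9 ji.symm hi hj
    (Or.inr ⟨u, by simp [hu], D.eq_zero_symm h7, uk, h10⟩)

omit [FiniteDimensional F V] in
theorem grow (hq : q ≠ 2) {u : V} (hu : D.Q u = 1) (uk : D.B (b k) u = 0) (hT : Rk L u) {i j m : ι}
    (hij : i ≠ j) (hi : D.B (b i) u ≠ 0) (hj : D.B (b j) u ≠ 0) (hm : D.B (b m) u = 0) (mk : m ≠ k) :
    ∃ v, D.Q v = 1 ∧ D.B (b k) v = 0 ∧ Rk L v ∧ D.B (b m) v ≠ 0 ∧
      ∀ l, D.B (b l) u ≠ 0 → D.B (b l) v ≠ 0 := by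
  have jm : j ≠ m := by rintro rfl; exact hj hm
  have im : i ≠ m := by rintro rfl; exact hi hm
  have ik : i ≠ k := by rintro rfl; exact hi uk
  have jk : j ≠ k := by rintro rfl; exact hj uk
  have h6 : (1 : F) * σ 1 = 1 := by simp
  have hs := hb.sw_mem' hL jm h6 jk.symm mk.symm
  obtain ⟨η, hη, hβ⟩ : ∃ η : F, ∃ hη : η * σ η = 1, D.B ((hb.sw jm h6).1
      ((D.rk1 _ _ (isRk1_unit (hb.Q_b i) hη)).1 u)) u ≠ 0 := by
    by_contra! H
    obtain ⟨η, hη, e1, -⟩ := h.exists_mu3 1 1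
    have h1 := H η hη
    have h2 := H 1 h6
    simp only [rk1_apply, map_add, map_smul, hb.sw_ne jm h6 hij im, sub_self, zero_mul, zero_smul,
      add_zero, D.B_lin] at h1 h2
    simp [h2, hi, sub_eq_zero] at h1
    exact e1 (by rw [← h.σσ η, h1, map_one])
  have h1 := hT.conj (mul_mem hs (hb.rk_b hL i _ (isRk1_unit (hb.Q_b i) hη)))
  rw [isom_mul_apply] at h1
  have h2 : D.Q ((hb.sw jm h6).1 ((D.rk1 _ _ (isRk1_unit (hb.Q_b i) hη)).1 u)) = 1 := by simpa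
  have h3 : ∀ l, D.B (b l) ((hb.sw jm h6).1 ((D.rk1 _ _ (isRk1_unit (hb.Q_b i) hη)).1 u)) =
      if l = m then D.B (b j) u else if l = j then 0 else if l = i then η * D.B (b l) u else
        D.B (b l) u := fun l => by
    simp only [sw_apply, rk1_apply, D.B_lin, hb l, hb.ne hij.symm, hb.ne im.symm, hm]
    by_cases lm : l = m
    · simp [lm, hm, jm.symm, im.symm]
    by_cases lj : l = j
    · simp [lj, jm, hij.symm]
    by_cases li : l = i
    · simp [li, hij, im]; ring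
    · simp [lm, lj, li]
  generalize (hb.sw jm h6).1 ((D.rk1 _ _ (isRk1_unit (hb.Q_b i) hη)).1 u) = w at *
  obtain ⟨ε, hε, e1, e2, e3⟩ := h.exists_mu4 hq 1 (1 - (D.B w u)⁻¹) (1 - (D.B w u * η)⁻¹)
  have η0 := left_ne_zero_of_mul_eq_one hη
  refine ⟨_, by simpa, ?_, hT.conj (h1 _ (isRk1_unit h2 hε)), ?_, fun l hl => ?_⟩
  · simp [rk1_apply, h3, uk, mk.symm, jk.symm, ik.symm]
  · simp [rk1_apply, h3, hm, hβ, hj, sub_ne_zero.2 e1]
  have lm : l ≠ m := by rintro rfl; exact hl hm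
  simp only [rk1_apply, D.B_lin, h3, if_neg lm]
  split_ifs
  · simpa using hl
  · intro h4
    have h5 : 1 + (ε - 1) * D.B w u * η = 0 := mul_right_cancel₀ hl (by linear_combination h4)
    exact e3 (by field_simp; linear_combination h5)
  · intro h4
    have h5 : 1 + (ε - 1) * D.B w u = 0 := mul_right_cancel₀ hl (by linear_combination h4)
    exact e2 (by field_simp; linear_combination h5)

theorem win2 (hq : q ≠ 2) (hn : 5 ≤ Fintype.card ι) {u : V} (hu : D.Q u = 1)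
    (uk : D.B (b k) u = 0) (hT : Rk L u) (h2 : 2 ≤ (sp D b u).card) :
    D.Full L (D.perp (F ∙ b k)) := by
  obtain ⟨n, hn'⟩ : ∃ n, 4 ≤ (sp D b u).card + n := ⟨4, by omega⟩
  induction n generalizing u with
  | zero => exact hb.win4 hL hu uk hT hn'
  | succ n ih =>
    by_cases h4 : 4 ≤ (sp D b u).card
    · exact hb.win4 hL hu uk hT h4
    obtain ⟨i, hi, j, hj, hij⟩ := Finset.one_lt_card.1 h2
    obtain ⟨m, -, hm⟩ := Finset.exists_mem_notMem_of_card_lt_card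
      (s := insert k (sp D b u)) (t := Finset.univ)
      ((Finset.card_insert_le _ _).trans_lt (by rw [Finset.card_univ]; omega))
    simp only [Finset.mem_insert, mem_sp, not_or, not_not] at hi hj hm
    obtain ⟨v, v1, v2, v3, v4, v5⟩ := hb.grow hL hq hu uk hT hij hi hj hm.2 hm.1
    have := Finset.card_lt_card (s := sp D b u)
      (t := sp D b v) ⟨fun l => by simpa using v5 l,
        fun H => by simpa [hm.2] using H (x := m) (by simpa using v4)⟩
    exact ih v1 v2 v3 (by omega) (by omega)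

end

theorem E_le_of_full (hn : 4 ≤ Fintype.card ι) (hE : X ≤ D.E) (hX : D.E ⊓ frm D b ≤ X) {k : ι}
    (H : D.Full (agr X (D.perp (F ∙ b k))) (D.perp (F ∙ b k))) : D.E ≤ X := by
  have h1 : D.Full X (D.perp (F ∙ b k)) := fun e h1 h2 z h3 d hd => mem_of_agr hb.nondeg
    (card_le b (by omega)) hE (hb.Q_b k) (H e h1 h2 z h3 d hd) (eich_mem_E _ _ _ _)
  obtain ⟨U, hU, hM⟩ := h1.exists_maxFull
  obtain ⟨l, lk, -⟩ := Fr.exists_ne3 hn k k k
  obtain ⟨i, ik, il, -⟩ := Fr.exists_ne3 hn k l l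
  obtain ⟨j, jk, jl, ji⟩ := Fr.exists_ne3 hn k l i
  have h2 : ∀ m, m ≠ k → b m ∈ U := fun m hm => hU (D.mem_perp_span_singleton.2 (hb.ne hm.symm))
  have h6 : (1 : F) * σ 1 = 1 := by simp
  obtain ⟨c, hc, h3⟩ := hb.exists_fix (by omega) (hb.sw_mem lk h6) k
  have h4 := stab_mem (hb.stab_of_fix hM ji (h2 j jk) (h2 i ik) (hX h3)
    (by rw [isom_mul_apply, D.rk1_apply_of_perp _ _ (hb.ne jk.symm), hb.sw_ne lk h6 jl jk])
    (by rw [isom_mul_apply, D.rk1_apply_of_perp _ _ (hb.ne ik.symm), hb.sw_ne lk h6 il ik]))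
    (h2 l lk)
  rw [isom_mul_apply, D.rk1_apply_of_perp _ _ (hb.ne lk.symm), hb.sw_left, one_smul] at h4
  obtain rfl : U = ⊤ := by
    rw [eq_top_iff, ← b.span_eq, Submodule.span_le]
    rintro _ ⟨m, rfl⟩
    by_cases hm : m = k
    exacts [hm ▸ h4, h2 m hm]
  exact hM.full.E_le hb.nondeg

omit [FiniteDimensional F V] in
theorem eq_smul_of_card {x : V} (H : (sp D b x).card ≤ 1)
    (l : ι) : ∃ j, ∃ c : F, x = c • b j := by
  by_cases h0 : x = 0
  · exact ⟨l, 0, by simp [h0]⟩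
  obtain ⟨i, hi⟩ := hb.exists_ne h0
  refine ⟨i, D.B (b i) x, hb.ext fun j => ?_⟩
  by_cases hj : j = i
  · simp [hj, hb.self]
  · have := Finset.card_le_one.1 H j
    simp only [mem_sp] at this
    simp only [D.B_lin, hb.ne hj, mul_zero]
    by_contra h1; exact hj (this h1 i hi)

theorem stab_mono (hq : q ≠ 2) (hn : 5 ≤ Fintype.card ι) (hE : X ≤ D.E) (hX : D.E ⊓ frm D b ≤ X)
    (hW : ¬ D.E ≤ X) {g : D.isom} (hg : g ∈ X) {k : ι} {c : F} (hk : g.1 (b k) = c • b k) :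
    g ∈ frm D b := mem_frm.2 fun j => by
  by_cases jk : j = k
  · exact ⟨k, c, jk ▸ hk⟩
  have hL := fun g hg c => hb.mem_agr (by omega) hX (g := g) hg (k := k) (c := c)
  have h1 : g ∈ agr X (D.perp (F ∙ b k)) := ⟨hb.mem_stab hk, g, hg, fun _ _ => rfl⟩
  refine hb.eq_smul_of_card (not_lt.1 fun H => hW (hb.E_le_of_full (by omega) hE hX
    (hb.win2 hL hq hn (by simp [hb.Q_b]) ?_ ((hb.rk_b hL j).conj h1) H))) j
  exact D.mem_perp_span_singleton.1 (stab_mem h1.1 (D.mem_perp_span_singleton.2 (hb.ne (Ne.symm jk))))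

end ONB

end Cfsg.Lib.Forms
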