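import Cfsg.Agent.Lib.MaxU.FrA

/-!
# Overgroups of stabilisers of orthonormal frames: zero entries, and moving vectors
-/

set_option autoImplicit false

namespace Cfsg.Lib.Forms

open Module Form Herm

variable {F : Type*} [Field F] {σ : F →+* F} {V : Type*} [AddCommGroup V] [Module F V]
  {q : ℕ} {h : IsConj σ q} {D : Form h.kind V} {X : Subgroup D.isom}
  {ι : Type*} [Fintype ι] [DecidableEq ι] {b : Basis ι F V}

theorem exists_notMem {s : Finset ι} (hs : s.card < Fintype.card ι) : ∃ i, i ∉ s :=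
  let ⟨i, _, hi⟩ := Finset.exists_mem_notMem_of_card_lt_card (t := Finset.univ) hs; ⟨i, hi⟩

theorem exists_ne4' (hn : 5 ≤ Fintype.card ι) (i j k l : ι) : ∃ m, m ≠ i ∧ m ≠ j ∧ m ≠ k ∧ m ≠ l := by
  simpa using exists_notMem (s := {i, j, k, l}) (Finset.card_le_four.trans_lt hn)

theorem exists_ne5 (hn : 6 ≤ Fintype.card ι) (i j k l m : ι) :
    ∃ r, r ≠ i ∧ r ≠ j ∧ r ≠ k ∧ r ≠ l ∧ r ≠ m := by
  simpa using exists_notMem (s := {i, j, k, l, m}) (Finset.card_le_five.trans_lt hn)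

namespace ONB

variable (hb : ONB D b)
include hb

/-- Diagonal isometries. -/
noncomputable def dg (t : ι → F) (ht : ∀ i, t i * σ (t i) = 1) : D.isom :=
  ⟨Fr.dg b fun i => Units.mk0 (t i) (left_ne_zero_of_mul_eq_one (ht i)),
    herm_isIsometry fun x y => by
      rw [hb.B_sum, hb.B_sum x y]
      refine Finset.sum_congr rfl fun i _ => ?_
      simp only [hb.co, Fr.repr_dg, Units.val_mk0, map_mul]
      linear_combination (σ (b.repr x i) * b.repr y i) * ht i⟩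

theorem co_dg (t : ι → F) (ht : ∀ i, t i * σ (t i) = 1) (i : ι) (x : V) :
    D.B (b i) ((hb.dg t ht).1 x) = t i * D.B (b i) x := by simp [hb.co, dg]

theorem dg_b (t : ι → F) (ht : ∀ i, t i * σ (t i) = 1) (i : ι) :
    (hb.dg t ht).1 (b i) = t i • b i := Fr.dg_b b _ i

theorem dg_mem (t : ι → F) (ht : ∀ i, t i * σ (t i) = 1) : hb.dg t ht ∈ frm D b :=
  mem_frm.2 fun i => ⟨i, _, hb.dg_b t ht i⟩

theorem det_dg (t : ι → F) (ht : ∀ i, t i * σ (t i) = 1) :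
    (D.det (hb.dg t ht) : F) = ∏ i, t i := by rw [coe_det]; exact Fr.det_dg b _

omit [Fintype ι] in
theorem co_sw {i j : ι} (hij : i ≠ j) (h1 : (1 : F) * σ 1 = 1) (x : V) (l : ι) :
    D.B (b l) ((hb.sw hij h1).1 x) = D.B (b (Equiv.swap i j l)) x := by
  simp only [sw_apply, D.B_lin, hb l]
  by_cases li : l = i
  · simp [li, hij]
  by_cases lj : l = j
  · simp [lj, hij.symm]
  · simp [li, lj, Equiv.swap_apply_of_ne_of_ne]

omit [Fintype ι] in
theorem eq_or_B {g : D.isom} {x y : V} {m m' : ι} {c c' : F} (hx : x = c • g.1 (b m))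
    (hy : y = c' • g.1 (b m')) (h0 : x ≠ 0) : (∃ a : F, y = a • x) ∨ D.B x y = 0 := by
  by_cases hm : m = m'
  · exact Or.inl ⟨c' / c, by
      rw [hx, hy, hm, smul_smul, div_mul_cancel₀ _ (by rintro rfl; simp [hx] at h0)]⟩
  · simp [hx, hy, hb.ne hm]

variable [FiniteDimensional F V]

theorem mem_E' (hn : 3 ≤ Fintype.card ι) {g : D.isom} (hg : (D.det g : F) = 1) : g ∈ D.E :=
  (mem_E hb.nondeg (card_le b hn)).2 (Units.ext hg)

variable (hq : q ≠ 2) (hn : 5 ≤ Fintype.card ι) (hE : X ≤ D.E) (hX : D.E ⊓ frm D b ≤ X)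
  (hW : ¬ D.E ≤ X)
include hq hn hE hX hW

theorem mem_of_map {g : D.isom} (hg : g ∈ X) {l k : ι} {c : F} (hk : g.1 (b l) = c • b k) :
    g ∈ frm D b := by
  by_cases lk : k = l
  · exact hb.stab_mono hq hn hE hX hW hg (lk ▸ hk)
  have h6 : (1 : F) * σ 1 = 1 := by simp
  obtain ⟨a, ha, h3⟩ := hb.exists_fix (by omega) (hb.sw_mem lk h6) l
  refine (Subgroup.mul_mem_cancel_left (frm D b) h3.2).1 (hb.stab_mono hq hn hE hX hW (mul_mem (hX h3) hg) (k := l)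
    (c := c) ?_)
  rw [isom_mul_apply, hk, map_smul, isom_mul_apply, D.rk1_apply_of_perp _ _ (hb.ne (Ne.symm lk)),
    hb.sw_left, one_smul]

theorem frame_map {g y : D.isom} (hg : g ∈ X) (hy : y ∈ X) {l : ι}
    (H : y.1 (g.1 (b l)) = g.1 (b l)) (m : ι) : ∃ m', ∃ c : F, y.1 (g.1 (b m)) = c • g.1 (b m') := by
  obtain ⟨m', c, hc⟩ := mem_frm.1 (hb.stab_mono hq hn hE hX hW
    (mul_mem (mul_mem (inv_mem hg) hy) hg) (k := l) (c := 1) (by simp [isom_mul_apply, H])) m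
  exact ⟨m', c, by rw [← map_smul, ← hc]; simp [isom_mul_apply]⟩

theorem dichotomy {g : D.isom} (hg : g ∈ X) {l a a' : ι} (ha : a ≠ a')
    (h1 : D.B (b a) (g.1 (b l)) = 0) (h2 : D.B (b a') (g.1 (b l)) = 0) {m : ι}
    (h3 : D.B (b a) (g.1 (b m)) ≠ 0) {c : ι} (ca : c ≠ a) (ca' : c ≠ a') :
    D.B (b c) (g.1 (b m)) = 0 := by
  by_contra h4
  set f := g.1 (b m) with hf
  have k : ∀ ε : F, ε * σ ε = 1 → ε ≠ 1 → (D.B (b a) f * σ (D.B (b a) f)) * ε ^ 2 +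
      (1 - D.B (b a) f * σ (D.B (b a) f) - D.B (b a') f * σ (D.B (b a') f)) * ε +
      D.B (b a') f * σ (D.B (b a') f) = 0 := fun ε hε e1 => by
    have k1 := isRk1_unit (hb.Q_b a) hε
    have k2 := isRk1_unit (hb.Q_b a') (ε := σ ε) (by rw [h.σσ, mul_comm, hε])
    have k3 : D.rk1 _ _ k1 * D.rk1 _ _ k2 ∈ X := hX ⟨hb.mem_E' (by omega) (by
      simp [det_rk1, hb.self, hε]), mul_mem (hb.rk_mem _ _ _) (hb.rk_mem _ _ _)⟩
    obtain ⟨m', r, hr⟩ := hb.frame_map hq hn hE hX hW hg k3 (l := l) (by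
      rw [isom_mul_apply, D.rk1_apply_of_perp _ _ h2, D.rk1_apply_of_perp _ _ h1]) m
    rcases hb.eq_or_B (one_smul F f).symm hr (by rintro h0; simp [h0] at h3) with ⟨s, hs⟩ | hs
    · have a1 := congrArg (D.B (b c)) hs
      have a2 := congrArg (D.B (b a)) hs
      simp only [isom_mul_apply, rk1_apply, D.B_lin, hb.ne ca, hb.ne ca', hb.ne ha, hb.self,
        ← hf] at a1 a2
      have : s = 1 := mul_right_cancel₀ h4 (by linear_combination -a1)
      exact (e1 (mul_right_cancel₀ h3 (by rw [this] at a2; linear_combination a2))).elim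
    · have : D.B f f = 1 := by simp [hf, hb.self]
      simp only [isom_mul_apply, rk1_apply, D.B_lin, hb.ne ha, B_symm D (b _) f, ← hf, this] at hs
      linear_combination ε * hs - (D.B (b a') f * σ (D.B (b a') f)) * hε
  obtain ⟨x, hx, x1, -⟩ := h.exists_mu3 1 1
  obtain ⟨y, hy, y1, y2⟩ := h.exists_mu3 1 x
  obtain ⟨z, hz, z1, z2, z3⟩ := h.exists_mu4 hq 1 x y
  simpa [h3] using quad3 (k x hx x1) (k y hy y1) (k z hz z1) y2.symm z2.symm z3.symm

omit hq hn hE hX hW [FiniteDimensional F V] in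
theorem exists_coord_ne (g : D.isom) (a : ι) : ∃ m, D.B (b a) (g.1 (b m)) ≠ 0 := by
  obtain ⟨m, hm⟩ := hb.exists_ne (x := (g⁻¹).1 (b a)) (by simpa using b.ne_zero a)
  exact ⟨m, by rw [B_isom_right]; exact D.ne_zero_symm hm⟩

theorem two_zero {g : D.isom} (hg : g ∈ X) (hg' : g ∉ frm D b) {l a a' : ι} (ha : a ≠ a')
    (h1 : D.B (b a) (g.1 (b l)) = 0) : D.B (b a') (g.1 (b l)) ≠ 0 := by
  intro h2
  obtain ⟨m, hm⟩ := hb.exists_coord_ne g a
  obtain ⟨a₁, p1, p2, -⟩ := exists_ne4' hn a a' a a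
  obtain ⟨a₂, q1, q2, q3, -⟩ := exists_ne4' hn a a' a₁ a
  obtain ⟨a₃, r1, r2, r3, r4⟩ := exists_ne4' hn a a' a₁ a₂
  have h3 := fun c => hb.dichotomy hq hn hE hX hW hg ha h1 h2 hm (c := c)
  obtain ⟨m', hm'⟩ := hb.exists_coord_ne g a₁
  have h4 := fun c => hb.dichotomy hq hn hE hX hW hg q3.symm (h3 _ p1 p2) (h3 _ q1 q2) hm' (c := c)
  have h6 := fun c => hb.dichotomy hq hn hE hX hW hg r3.symm (h3 _ p1 p2) (h3 _ r1 r2) hm' (c := c)
  refine hg' (hb.mem_of_map hq hn hE hX hW hg (l := m') (k := a₁)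
    (c := D.B (b a₁) (g.1 (b m'))) (hb.ext fun j => ?_))
  by_cases hj : j = a₁
  · simp [hj, hb.self]
  by_cases hj' : j = a₂
  · simp [hb.ne hj, h6 j hj (hj' ▸ r4.symm)]
  · simp [hb.ne hj, h4 j hj hj']

theorem pow_eq_one {g : D.isom} (hg : g ∈ X) (hg' : g ∉ frm D b) {l a : ι}
    (h1 : D.B (b a) (g.1 (b l)) = 0) {s : F} (hs : s * σ s = 1) : s ^ Fintype.card ι = 1 := by
  by_contra h2
  have h3 := fun a' (ha : a ≠ a') => hb.two_zero hq hn hE hX hW hg hg' ha h1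
  have h4 : σ s ^ Fintype.card ι * σ (σ s ^ Fintype.card ι) = 1 := by
    rw [map_pow, h.σσ, ← mul_pow, mul_comm, hs, one_pow]
  have k1 := isRk1_unit (hb.Q_b l) h4
  have h5 : D.scalar s hs * D.rk1 _ _ k1 ∈ X := hX ⟨hb.mem_E' (by omega) (by
    rw [map_mul, Units.val_mul, det_of_smul (scalar_apply s hs), det_rk1, finrank_eq_card_basis b,
      hb.self]; simp [← mul_pow, hs]), mul_mem (mem_frm.2 fun i => ⟨i, s, rfl⟩) (hb.rk_mem _ _ _)⟩
  have h6 : ∀ x, (g * (D.scalar s hs * D.rk1 _ _ k1) * g⁻¹).1 x = s • (x + ((σ s ^ Fintype.card ι - 1)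
      * D.B (g.1 (b l)) x) • g.1 (b l)) := fun x => by
    simp [isom_mul_apply, rk1_apply, B_isom_left]
  obtain ⟨m, ma, -⟩ := exists_ne4' hn a a a a
  obtain ⟨i, ia, im, -⟩ := exists_ne4' hn a m a a
  obtain ⟨j, ja, jm, ji, -⟩ := exists_ne4' hn a m i a
  obtain ⟨r, c, hc⟩ := mem_frm.1 (hb.stab_mono hq hn hE hX hW (mul_mem (mul_mem hg h5) (inv_mem hg))
    (k := a) (c := s) (by rw [h6, D.eq_zero_symm h1]; simp)) m
  have h7 : σ s ^ Fintype.card ι - 1 ≠ 0 := fun h8 => h2 (by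
    rw [← h.σσ s, ← map_pow, sub_eq_zero.1 h8, map_one])
  have k : ∀ i, i ≠ a → i ≠ m → i = r := fun i h8 h9 => by
    by_contra h10
    have := congrArg (D.B (b i)) ((h6 _).symm.trans hc)
    simp [hb.ne h9, hb.ne h10, h7, h3 i h8.symm, D.ne_zero_symm (h3 m ma.symm),
      left_ne_zero_of_mul_eq_one hs] at this
  exact ji ((k j ja jm).trans (k i ia im).symm)

theorem exists_norm_eq {g : D.isom} (hg : g ∈ X) (hg' : g ∉ frm D b) {l a : ι}
    (h1 : D.B (b a) (g.1 (b l)) = 0) : ∃ i j, i ≠ j ∧ i ≠ a ∧ j ≠ a ∧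
      D.B (b i) (g.1 (b l)) * σ (D.B (b i) (g.1 (b l))) =
        D.B (b j) (g.1 (b l)) * σ (D.B (b j) (g.1 (b l))) := by
  classical
  have := h.finite
  have := Fintype.ofFinite F
  obtain ⟨s, hs, hs'⟩ := h.exists_mu
  have h2 : s.card ≤ Fintype.card ι := by
    refine (Finset.card_le_card (t := (Polynomial.nthRoots (Fintype.card ι) (1 : F)).toFinset)
      fun x hx => ?_).trans ((Multiset.toFinset_card_le _).trans (Polynomial.card_nthRoots _ _))
    rw [Multiset.mem_toFinset, Polynomial.mem_nthRoots (by omega)]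
    exact hb.pow_eq_one hq hn hE hX hW hg hg' h1 ((hs' x).1 hx)
  have h3 : (Finset.univ.filter fun x : F => x ≠ 0 ∧ σ x = x).card = q - 1 := by
    rw [← h.card_fixed_ne_zero, Nat.card_eq_fintype_card, Fintype.card_subtype]
  have h4 := h.two_le
  obtain ⟨i, hi, j, hj, h5, h6⟩ := Finset.exists_ne_map_eq_of_card_lt_of_maps_to
    (s := Finset.univ.erase a) (t := Finset.univ.filter fun x : F => x ≠ 0 ∧ σ x = x)
    (by rw [h3, Finset.card_erase_of_mem (Finset.mem_univ _), Finset.card_univ]; omega)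
    (f := fun i => D.B (b i) (g.1 (b l)) * σ (D.B (b i) (g.1 (b l)))) fun i hi => by
      have := hb.two_zero hq hn hE hX hW hg hg' (Finset.ne_of_mem_erase hi).symm h1
      simp [this, h.σσ, mul_comm]
  exact ⟨i, j, h5, Finset.ne_of_mem_erase hi, Finset.ne_of_mem_erase hj, h6⟩

theorem one_zero (h2 : (2 : F) ≠ 0) (h6 : 6 ≤ Fintype.card ι) {g : D.isom} (hg : g ∈ X)
    (hg' : g ∉ frm D b) (l a : ι) : D.B (b a) (g.1 (b l)) ≠ 0 := by
  intro h1
  obtain ⟨i, j, hij, ia, ja, h3⟩ := hb.exists_norm_eq hq hn hE hX hW hg hg' h1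
  have hi := hb.two_zero hq hn hE hX hW hg hg' ia.symm h1
  have hi' := (map_ne_zero σ).2 hi
  have hζ : D.B (b j) (g.1 (b l)) / D.B (b i) (g.1 (b l)) *
      σ (D.B (b j) (g.1 (b l)) / D.B (b i) (g.1 (b l))) = 1 := by
    rw [map_div₀]; field_simp; linear_combination -h3
  have k1 := isRk1_unit (hb.Q_b a) (ε := -1) (by simp)
  have hy : hb.sw hij hζ * D.rk1 _ _ k1 ∈ X := hX ⟨hb.mem_E' (by omega) (by
    rw [map_mul, Units.val_mul, hb.det_sw, det_rk1, hb.self]; ring),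
    mul_mem (hb.sw_mem _ _) (hb.rk_mem _ _ _)⟩
  have h4 : ∀ x, ∃ α β : F, (hb.sw hij hζ * D.rk1 _ _ k1).1 x - x =
      α • (b i - (D.B (b j) (g.1 (b l)) / D.B (b i) (g.1 (b l))) • b j) + β • b a := fun x =>
    ⟨_, _, by rw [isom_mul_apply, sw_apply, rk1_apply, sub_eq_iff_eq_add, add_comm x, add_sub_assoc,
      add_comm, add_assoc, sub_eq_neg_add, ← neg_smul, add_assoc, add_comm x]⟩
  have h5 : (hb.sw hij hζ * D.rk1 _ _ k1).1 (b a) = -b a := by
    simp [isom_mul_apply, rk1_apply, hb.self, hb.sw_ne hij hζ ia.symm ja.symm]; module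
  have h7 := hb.frame_map hq hn hE hX hW hg hy (l := l) (by
    rw [isom_mul_apply, D.rk1_apply_of_perp _ _ h1, sw_apply, map_div₀, sub_eq_self,
      show _ - _ = (0 : F) by field_simp; linear_combination h3, zero_smul])
  generalize hb.sw hij hζ * D.rk1 _ _ k1 = y at *
  generalize b i - (D.B (b j) (g.1 (b l)) / D.B (b i) (g.1 (b l))) • b j = p at *
  choose π c hc using h7
  have h8 : ∀ m, m ≠ l → y.1 (g.1 (b m)) - g.1 (b m) ≠ 0 := fun m ml h9 => by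
    have h10 := B_isom y (b a) (g.1 (b m))
    rw [sub_eq_zero.1 h9, h5, D.B_neg_left] at h10
    refine hb.two_zero hq hn hE hX hW (inv_mem hg) (fun H => hg' (inv_mem_iff.1 H)) ml (l := a) ?_ ?_
    all_goals rw [← B_isom_left]; apply D.eq_zero_symm
    exacts [mul_left_cancel₀ h2 (by linear_combination -h10), h1]
  have h9 : ∀ m, m ≠ l → D.B (g.1 (b m)) (y.1 (g.1 (b m)) - g.1 (b m)) ≠ 0 := fun m ml h10 => by
    by_cases hm : m = π m
    · refine h8 m ml ?_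
      rw [hc, ← hm] at h10 ⊢
      simp only [D.B_lin, B_isom, hb.self, mul_one, sub_eq_zero] at h10
      simp [h10]
    · simp [hc, hb.self, hb.ne hm] at h10
  have h10 : ∀ m m', m' ≠ m → m' ≠ π m → D.B (g.1 (b m')) (y.1 (g.1 (b m)) - g.1 (b m)) = 0 :=
    fun m m' h11 h12 => by simp [hc, hb.ne h11, hb.ne h12]
  obtain ⟨m₁, p1, -⟩ := exists_ne4' hn l l l l
  obtain ⟨m₂, q1, q2, q3, -⟩ := exists_ne4' hn l m₁ (π m₁) l
  obtain ⟨m₃, r1, r2, r3, r4, r5⟩ := exists_ne5 h6 l m₁ (π m₁) m₂ (π m₂)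
  have a1 := h8 m₁ p1
  have a2 := h9 m₂ q1
  have a3 := h9 m₃ r1
  have a4 := h10 m₁ m₂ q2 q3
  have a5 := h10 m₁ m₃ r2 r3
  have a6 := h10 m₂ m₃ r4 r5
  obtain ⟨α₁, β₁, e1⟩ := h4 (g.1 (b m₁))
  obtain ⟨α₂, β₂, e2⟩ := h4 (g.1 (b m₂))
  obtain ⟨α₃, β₃, e3⟩ := h4 (g.1 (b m₃))
  simp only [e1, e2, e3, D.B_lin] at a1 a2 a3 a4 a5 a6
  have a7 : α₁ * β₂ - α₂ * β₁ = 0 := mul_right_cancel₀ a3 (by
    linear_combination (α₃ * β₂ - α₂ * β₃) * a5 - (α₃ * β₁ - α₁ * β₃) * a6)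
  have a8 : α₁ = 0 := mul_right_cancel₀ a2 (by
    linear_combination α₂ * a4 + D.B (g.1 (b m₂)) (b a) * a7)
  have a9 : β₁ = 0 := mul_right_cancel₀ a2 (by
    linear_combination β₂ * a4 - D.B (g.1 (b m₂)) p * a7)
  simp [a8, a9] at a1

end ONB

end Cfsg.Lib.Forms
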