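import Cfsg.Agent.Lib.MaxU.FrB

/-!
# Overgroups of stabilisers of orthonormal frames: vectors of full support
-/

set_option autoImplicit false

namespace Cfsg.Lib.Forms

open Module Form Herm

variable {F : Type*} [Field F] {σ : F →+* F} {V : Type*} [AddCommGroup V] [Module F V]
  {q : ℕ} {h : IsConj σ q} {D : Form h.kind V} {X : Subgroup D.isom}
  {ι : Type*} [Fintype ι] [DecidableEq ι] {b : Basis ι F V}

variable (σ) in
/-- Squares in the group of elements of norm one. -/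
def SqN (x : F) : Prop := ∃ κ, κ * σ κ = 1 ∧ x = κ ^ 2

theorem SqN.mul {x y : F} (hx : SqN σ x) (hy : SqN σ y) : SqN σ (x * y) := by
  obtain ⟨a, ha, rfl⟩ := hx
  obtain ⟨c, hc, rfl⟩ := hy
  exact ⟨a * c, by rw [map_mul]; linear_combination (c * σ c) * ha + hc, by ring⟩

theorem norm_mul_one {x y : F} (hx : x * σ x = 1) (hy : y * σ y = 1) : x * y * σ (x * y) = 1 := by
  rw [map_mul]; linear_combination (y * σ y) * hx + hy

theorem norm_pow_one {x : F} (hx : x * σ x = 1) (n : ℕ) : x ^ n * σ (x ^ n) = 1 := by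
  rw [map_pow, ← mul_pow, hx, one_pow]

theorem IsConj.norm_σ (h : IsConj σ q) {x : F} (hx : x * σ x = 1) : σ x * σ (σ x) = 1 := by
  rw [h.σσ, mul_comm, hx]

theorem IsConj.norm_div (h : IsConj σ q) {c : F} (hc : c ≠ 0) : σ c / c * σ (σ c / c) = 1 := by
  have := (map_ne_zero σ).2 hc
  rw [map_div₀, h.σσ]; field_simp

theorem IsConj.exists_root (h : IsConj σ q) {x : F} (hx : x * σ x = 1) :
    ∃ r, x = r ^ 2 ∧ (r * σ r = 1 ∨ r * σ r = -1) := by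
  have := h.finite
  have := Fintype.ofFinite F
  obtain ⟨r, rfl⟩ : IsSquare x := by
    by_cases h2 : ringChar F = 2
    · exact FiniteField.isSquare_of_char_two h2 x
    rw [FiniteField.isSquare_iff h2 (left_ne_zero_of_mul_eq_one hx), ← Nat.card_eq_fintype_card,
      h.card]
    obtain ⟨k, rfl⟩ : Odd q := (Nat.odd_pow_iff two_ne_zero).1
      (h.card ▸ odd_card_iff.2 (mt ringChar_eq_two_iff.2 h2))
    rw [show (2 * k + 1) ^ 2 / 2 = (2 * k + 1 + 1) * k by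
      rw [show (2 * k + 1) ^ 2 = 2 * ((2 * k + 1 + 1) * k) + 1 by ring]; omega,
      pow_mul, ← h.norm_eq, hx, one_pow]
  exact ⟨r, (sq r).symm, mul_self_eq_one_iff.1 (by rw [map_mul] at hx; linear_combination hx)⟩

theorem IsConj.sq_or (h : IsConj σ q) {x r : F} (hx : x * σ x = 1) (hr : r * σ r = -1) :
    SqN σ x ∨ SqN σ (x * r ^ 2) := by
  obtain ⟨s, rfl, hs | hs⟩ := h.exists_root hx
  · exact Or.inl ⟨s, hs, rfl⟩
  · exact Or.inr ⟨s * r, by rw [map_mul]; linear_combination (r * σ r) * hs - hr, by ring⟩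

/-- A function modified at four places. -/
def tt (t : ι → F) (i₁ i₂ i₃ i₄ : ι) (ε₁ ε₂ ε₃ ε₄ : F) : ι → F := fun j =>
  if j = i₁ then ε₁ else if j = i₂ then ε₂ else if j = i₃ then ε₃ else if j = i₄ then ε₄ else t j

section
variable {t : ι → F} {i₁ i₂ i₃ i₄ : ι} {ε₁ ε₂ ε₃ ε₄ : F}

omit [Fintype ι] in
theorem tt_norm (ht : ∀ j, t j * σ (t j) = 1) (h1 : ε₁ * σ ε₁ = 1) (h2 : ε₂ * σ ε₂ = 1)
    (h3 : ε₃ * σ ε₃ = 1) (h4 : ε₄ * σ ε₄ = 1) (j : ι) :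
    tt t i₁ i₂ i₃ i₄ ε₁ ε₂ ε₃ ε₄ j * σ (tt t i₁ i₂ i₃ i₄ ε₁ ε₂ ε₃ ε₄ j) = 1 := by
  unfold tt; split_ifs <;> first | assumption | exact ht j

omit [Fintype ι] [Field F] in
theorem tt_ne {j : ι} (hj : j ∉ ({i₁, i₂, i₃, i₄} : Finset ι)) :
    tt t i₁ i₂ i₃ i₄ ε₁ ε₂ ε₃ ε₄ j = t j := by
  simp only [Finset.mem_insert, Finset.mem_singleton, not_or] at hj
  simp [tt, hj]

variable (n1 : i₁ ≠ i₂) (n2 : i₁ ≠ i₃) (n3 : i₁ ≠ i₄) (n4 : i₂ ≠ i₃) (n5 : i₂ ≠ i₄) (n6 : i₃ ≠ i₄)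
include n1 n2 n3 n4 n5 n6

omit [Fintype ι] in
theorem sum_tt {G : Finset ι} (hG : {i₁, i₂, i₃, i₄} ⊆ G) (c : ι → F) :
    ∑ j ∈ G, tt t i₁ i₂ i₃ i₄ ε₁ ε₂ ε₃ ε₄ j * c j = ∑ j ∈ G \ {i₁, i₂, i₃, i₄}, t j * c j +
      (ε₁ * c i₁ + ε₂ * c i₂ + ε₃ * c i₃ + ε₄ * c i₄) := by
  rw [← Finset.sum_sdiff hG, Finset.sum_congr rfl fun j hj => by
    rw [tt_ne (Finset.mem_sdiff.1 hj).2]]
  simp [tt, n1, n2, n3, n4, n5, n6, n1.symm, n2.symm, n3.symm, n4.symm, n5.symm, n6.symm, add_assoc]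

theorem prod_tt : ∏ j, tt (fun _ => (1 : F)) i₁ i₂ i₃ i₄ ε₁ ε₂ ε₃ ε₄ j = ε₁ * ε₂ * ε₃ * ε₄ := by
  rw [← Finset.prod_subset (Finset.subset_univ ({i₁, i₂, i₃, i₄} : Finset ι))
    fun j _ hj => tt_ne (t := fun _ => (1 : F)) hj]
  simp [tt, n1, n2, n3, n4, n5, n6, n1.symm, n2.symm, n3.symm, n4.symm, n5.symm, n6.symm, mul_assoc]

end

variable (D b) in
/-- A monomial isometry supported on `G` moving the `G`-part of `v` to an orthogonal vector. -/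
structure Gd (v : V) (G : Finset ι) (g : D.isom) : Prop where
  mem : g ∈ frm D b
  fix : ∀ j ∉ G, g.1 (b j) = b j
  sum : ∑ j ∈ G, σ (D.B (b j) v) * D.B (b j) (g.1 v) = 0

omit [Fintype ι] [DecidableEq ι] in
theorem co_of_fix {g : D.isom} {j : ι} (H : g.1 (b j) = b j) (x : V) :
    D.B (b j) (g.1 x) = D.B (b j) x := by conv_lhs => rw [← H, B_isom]

namespace ONB

variable (hb : ONB D b)
include hb

theorem co_mul {G G' : Finset ι} (hG : Disjoint G G') {g g' : D.isom} (H : ∀ j ∉ G, g.1 (b j) = b j)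
    (H' : ∀ j ∉ G', g'.1 (b j) = b j) (v : V) {j : ι} (hj : j ∈ G) :
    D.B (b j) ((g * g').1 v) = D.B (b j) (g.1 v) := by
  have h1 : g.1 (g'.1 v - v) = g'.1 v - v := by
    rw [← hb.sum_eq (g'.1 v - v), map_sum]
    refine Finset.sum_congr rfl fun l _ => ?_
    by_cases hl : l ∈ G
    · simp [co_of_fix (H' l (Finset.disjoint_left.1 hG hl))]
    · rw [map_smul, H l hl]
  rw [map_sub, sub_eq_iff_eq_add] at h1
  simp [isom_mul_apply, h1, co_of_fix (H' j (Finset.disjoint_left.1 hG hj))]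

theorem gd_union {v : V} {G G' : Finset ι} (hG : Disjoint G G') {g g' : D.isom} (H : Gd D b v G g)
    (H' : Gd D b v G' g') : Gd D b v (G ∪ G') (g * g') := by
  refine ⟨mul_mem H.mem H'.mem, fun j hj => ?_, ?_⟩
  · rw [Finset.notMem_union] at hj
    rw [isom_mul_apply, H'.fix j hj.2, H.fix j hj.1]
  rw [Finset.sum_union hG, Finset.sum_congr rfl fun j hj => by rw [hb.co_mul hG H.fix H'.fix v hj],
    H.sum, zero_add, ← H'.sum]
  exact Finset.sum_congr rfl fun j hj => by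
    rw [isom_mul_apply, co_of_fix (H.fix j (Finset.disjoint_right.1 hG hj))]

theorem gd_scale {v : V} {G : Finset ι} {g : D.isom} (H : Gd D b v G g) {s : F} (hs : s * σ s = 1) :
    ∃ g', Gd D b v G g' ∧ (D.det g' : F) = s ^ G.card * D.det g := by
  have ht : ∀ j, (if j ∈ G then s else 1) * σ (if j ∈ G then s else 1) = 1 := fun j => by
    split_ifs <;> simp [hs]
  refine ⟨hb.dg _ ht * g, ⟨mul_mem (hb.dg_mem _ _) H.mem, fun j hj => ?_, ?_⟩, ?_⟩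
  · simp [isom_mul_apply, H.fix j hj, hb.dg_b, hj]
  · rw [← mul_zero s, ← H.sum, Finset.mul_sum]
    exact Finset.sum_congr rfl fun j hj => by simp only [isom_mul_apply, hb.co_dg, if_pos hj]; ring
  · simp [hb.det_dg, Finset.prod_ite_mem]

variable [FiniteDimensional F V] {v : V} (hv : ∀ j, D.B (b j) v ≠ 0)
include hv

theorem gd_pair {i j : ι} (hij : i ≠ j) : ∃ g, Gd D b v {i, j} g ∧ (D.det g : F) =
    σ (σ (D.B (b i) v) * D.B (b j) v) / (σ (D.B (b i) v) * D.B (b j) v) := by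
  have h0 := mul_ne_zero ((map_ne_zero σ).2 (hv i)) (hv j)
  have h1 := h.norm_div h0
  have h6 : (1 : F) * σ 1 = 1 := by simp
  set c := σ (D.B (b i) v) * D.B (b j) v with hc
  have ht : ∀ l, (if l = i then -(σ c / c) else 1) * σ (if l = i then -(σ c / c) else 1) = 1 :=
    fun l => by split_ifs <;> simp only [map_neg, neg_mul_neg, h1, h6]
  refine ⟨hb.dg _ ht * hb.sw hij h6, ⟨mul_mem (hb.dg_mem _ _) (hb.sw_mem _ _), fun l hl => ?_, ?_⟩,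
    ?_⟩
  · simp only [Finset.mem_insert, Finset.mem_singleton, not_or] at hl
    simp [isom_mul_apply, hb.sw_ne hij h6 hl.1 hl.2, hb.dg_b, hl.1]
  · rw [Finset.sum_pair hij]
    simp only [isom_mul_apply, hb.co_dg, hb.co_sw, if_pos, if_neg hij.symm, Equiv.swap_apply_left,
      Equiv.swap_apply_right]
    have : σ c = D.B (b i) v * σ (D.B (b j) v) := by rw [hc, map_mul, h.σσ]
    rw [mul_left_comm, ← hc, this]; field_simp; ring
  · simp [hb.det_dg, hb.det_sw]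

theorem gd_even (hs : ∀ i j, SqN σ (σ (σ (D.B (b i) v) * D.B (b j) v) /
    (σ (D.B (b i) v) * D.B (b j) v))) (n : ℕ) {G : Finset ι} (hG : G.card = 2 * n) :
    ∃ g, Gd D b v G g ∧ SqN σ (D.det g : F) := by
  induction n generalizing G with
  | zero =>
    obtain rfl := Finset.card_eq_zero.1 hG
    exact ⟨1, ⟨one_mem _, fun _ _ => rfl, by simp⟩, 1, by simp, by simp⟩
  | succ n ih =>
    obtain ⟨i, hi, j, hj, hij⟩ := Finset.one_lt_card.1 (show 1 < G.card by omega)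
    have h1 : {i, j} ⊆ G := by simp [Finset.insert_subset_iff, hi, hj]
    obtain ⟨g, hg, h2⟩ := hb.gd_pair hv hij
    obtain ⟨g', hg', h3⟩ := ih (G := G \ {i, j}) (by
      rw [Finset.card_sdiff_of_subset h1, Finset.card_pair hij]; omega)
    refine ⟨g * g', Finset.union_sdiff_of_subset h1 ▸ hb.gd_union Finset.disjoint_sdiff hg hg', ?_⟩
    rw [map_mul, Units.val_mul, h2]; exact (hs i j).mul h3

theorem gd_big {G : Finset ι} {i₁ i₂ i₃ i₄ : ι} (n1 : i₁ ≠ i₂) (n2 : i₁ ≠ i₃) (n3 : i₁ ≠ i₄)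
    (n4 : i₂ ≠ i₃) (n5 : i₂ ≠ i₄) (n6 : i₃ ≠ i₄) (hG : {i₁, i₂, i₃, i₄} ⊆ G) :
    ∃ g g', Gd D b v G g ∧ Gd D b v G g' ∧ ∃ κ, κ * σ κ = 1 ∧ (D.det g' : F) = D.det g * (κ ^ 2 *
      (σ (σ (D.B (b i₁) v) * D.B (b i₃) v) / (σ (D.B (b i₁) v) * D.B (b i₃) v))) := by
  have h6 : (1 : F) * σ 1 = 1 := by simp
  obtain ⟨c, hc⟩ : ∃ c : ι → F, c = fun j => σ (D.B (b j) v) * D.B (b (Equiv.swap i₁ i₃ j)) v :=
    ⟨_, rfl⟩
  have c0 : ∀ j, c j ≠ 0 := fun j => hc ▸ mul_ne_zero ((map_ne_zero σ).2 (hv _)) (hv _)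
  have k : ∀ ε₁ ε₂ ε₃ ε₄ : F, ε₁ * σ ε₁ = 1 → ε₂ * σ ε₂ = 1 → ε₃ * σ ε₃ = 1 → ε₄ * σ ε₄ = 1 →
      ε₁ * c i₁ + ε₂ * c i₂ + ε₃ * c i₃ + ε₄ * c i₄ = -∑ j ∈ G \ {i₁, i₂, i₃, i₄}, 1 * c j →
      ∃ g, Gd D b v G g ∧ (D.det g : F) = -(ε₁ * ε₂ * ε₃ * ε₄) := fun ε₁ ε₂ ε₃ ε₄ e1 e2 e3 e4 H => by
    refine ⟨hb.dg _ (tt_norm (t := fun _ => 1) (i₁ := i₁) (i₂ := i₂) (i₃ := i₃) (i₄ := i₄)
      (fun _ => h6) e1 e2 e3 e4) * hb.sw n2 h6,
      ⟨mul_mem (hb.dg_mem _ _) (hb.sw_mem _ _), fun l hl => ?_, ?_⟩, ?_⟩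
    · rw [isom_mul_apply, hb.sw_ne n2 h6 (by rintro rfl; exact hl (hG (by simp)))
        (by rintro rfl; exact hl (hG (by simp))), hb.dg_b, tt_ne fun h1 => hl (hG h1), one_smul]
    · have := sum_tt (t := fun _ => 1) (ε₁ := ε₁) (ε₂ := ε₂) (ε₃ := ε₃) (ε₄ := ε₄)
        n1 n2 n3 n4 n5 n6 hG c
      rw [H, add_neg_cancel] at this
      rw [← this]
      exact Finset.sum_congr rfl fun j _ => by
        simp only [isom_mul_apply, hb.co_dg, hb.co_sw, hc]; ring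
    · simp [hb.det_dg, hb.det_sw, prod_tt n1 n2 n3 n4 n5 n6]
  obtain ⟨ε₁, ε₂, ε₃, ε₄, e1, e2, e3, e4, e5, e6⟩ := h.circ4 (c0 i₁) (c0 i₂) (c0 i₃) (c0 i₄)
    (-∑ j ∈ G \ {i₁, i₂, i₃, i₄}, 1 * c j) 0
  obtain ⟨g, hg, h1⟩ := k _ _ _ _ e1 e2 e3 e4 e5
  obtain ⟨x, hx⟩ : ∃ x, x = ε₁ * c i₁ + ε₂ * c i₂ := ⟨_, rfl⟩
  rw [← hx] at e5 e6
  have h2 := h.norm_div ((map_ne_zero σ).2 e6)
  rw [h.σσ] at h2
  have x0 := (map_ne_zero σ).2 e6
  have a1 := c0 i₁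
  have a2 := c0 i₂
  obtain ⟨g', hg', h3⟩ := k (σ ε₁ * (σ (c i₁) / c i₁) * (x / σ x)) (σ ε₂ * (σ (c i₂) / c i₂) * (x / σ x))
    ε₃ ε₄ (norm_mul_one (norm_mul_one (h.norm_σ e1) (h.norm_div a1)) h2)
    (norm_mul_one (norm_mul_one (h.norm_σ e2) (h.norm_div a2)) h2) e3 e4 (by
      rw [← e5]; congr 2
      have : σ x = σ ε₁ * σ (c i₁) + σ ε₂ * σ (c i₂) := by rw [hx, map_add, map_mul, map_mul]
      field_simp; linear_combination -this)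
  refine ⟨g, g', hg, hg', _, norm_mul_one (norm_mul_one (h.norm_σ e1) (h.norm_σ e2)) h2, ?_⟩
  have a3 : σ (c i₂) = c i₂ := by
    simp [hc, Equiv.swap_apply_of_ne_of_ne n1.symm n4, h.σσ, mul_comm]
  have a4 : σ (D.B (b i₁) v) * D.B (b i₃) v = c i₁ := by simp [hc]
  rw [h1, h3, a3, a4, div_self a2]
  linear_combination (σ ε₂ * ε₃ * ε₄ * (x / σ x) ^ 2 * (σ (c i₁) / c i₁) * σ ε₁ * ε₂ * σ ε₂) * e1 +
    (σ ε₁ * σ ε₂ * ε₃ * ε₄ * (x / σ x) ^ 2 * (σ (c i₁) / c i₁)) * e2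

theorem gd_adjust {i j : ι} (hij : i ≠ j) {δ : F} (H : SqN σ (σ (σ (D.B (b i) v) * D.B (b j) v) /
    (σ (D.B (b i) v) * D.B (b j) v) * δ)) : ∃ g, Gd D b v {i, j} g ∧ (D.det g : F) * δ = 1 := by
  obtain ⟨g, hg, h1⟩ := hb.gd_pair hv hij
  obtain ⟨κ, hκ, h2⟩ := H
  obtain ⟨g', hg', h3⟩ := hb.gd_scale hg (h.norm_σ hκ)
  exact ⟨g', hg', by
    rw [h3, h1, mul_assoc, h2, Finset.card_pair hij]; linear_combination (κ * σ κ + 1) * hκ⟩

theorem gd_two {i j : ι} (hij : i ≠ j) {G : Finset ι} {g g' : D.isom} (hg : Gd D b v G g)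
    (hg' : Gd D b v G g') {r δ : F} (hr : r * σ r = -1) (H : (D.det g' : F) = D.det g * r ^ 2)
    (hδ : δ * σ δ = 1) : ∃ k k', Gd D b v {i, j} k ∧ Gd D b v G k' ∧
      (D.det k : F) * (δ * D.det k') = 1 := by
  rcases h.sq_or (norm_mul_one (h.norm_div (mul_ne_zero ((map_ne_zero σ).2 (hv i)) (hv j)))
    (norm_mul_one hδ (hb.nondeg.det_mul_σ_det g))) hr with h1 | h1
  · obtain ⟨k, hk, h2⟩ := hb.gd_adjust hv hij h1
    exact ⟨k, g, hk, hg, h2⟩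
  · rw [mul_assoc, mul_assoc, ← H] at h1
    obtain ⟨k, hk, h2⟩ := hb.gd_adjust hv hij h1
    exact ⟨k, g', hk, hg', h2⟩

omit hv

variable (hq : q ≠ 2) (hn : 5 ≤ Fintype.card ι) (hX : D.E ⊓ frm D b ≤ X)
  (hz : ∀ g ∈ X, g ∉ frm D b → ∀ l a, D.B (b a) (g.1 (b l)) ≠ 0)
include hn hX hz

theorem frame_of_B {g k : D.isom} (hg : g ∈ X) (hk : k ∈ frm D b) (h1 : (D.det k : F) = 1) {l : ι}
    (H : D.B (g.1 (b l)) (k.1 (g.1 (b l))) = 0) : ∃ m, ∃ c : F, k.1 (g.1 (b l)) = c • g.1 (b m) := by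
  have h2 : g⁻¹ * k * g ∈ frm D b := by
    by_contra h2
    exact hz _ (mul_mem (mul_mem (inv_mem hg) (hX ⟨hb.mem_E' (by omega) h1, hk⟩)) hg) h2 l l
      (by rwa [isom_mul_apply, isom_mul_apply, ← B_isom_left])
  obtain ⟨m, c, hc⟩ := mem_frm.1 h2 l
  exact ⟨m, c, by rw [← map_smul, ← hc]; simp [isom_mul_apply]⟩

/-- Rescaling the blocks of a partition. -/
theorem scale_or {g k : D.isom} (hg : g ∈ X) {l : ι} {G₁ G₂ : Finset ι} (hG : Disjoint G₁ G₂)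
    (hk : k ∈ frm D b) (h1 : (D.det k : F) = 1)
    (s1 : ∑ j ∈ G₁, σ (D.B (b j) (g.1 (b l))) * D.B (b j) (k.1 (g.1 (b l))) = 0)
    (s2 : ∑ j ∈ G₂, σ (D.B (b j) (g.1 (b l))) * D.B (b j) (k.1 (g.1 (b l))) = 0)
    (s3 : ∑ j ∈ (G₁ ∪ G₂)ᶜ, σ (D.B (b j) (g.1 (b l))) * D.B (b j) (k.1 (g.1 (b l))) = 0)
    {s t : F} (hs : s * σ s = 1) (ht : t * σ t = 1) (hst : s ^ G₁.card * t ^ G₂.card = 1) :
    (∃ a : F, ∀ j, D.B (b j) (k.1 (g.1 (b l))) ≠ 0 →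
      (if j ∈ G₁ then s else if j ∈ G₂ then t else 1) = a) ∨
    s * ∑ j ∈ G₁, σ (D.B (b j) (k.1 (g.1 (b l)))) * D.B (b j) (k.1 (g.1 (b l))) +
      t * ∑ j ∈ G₂, σ (D.B (b j) (k.1 (g.1 (b l)))) * D.B (b j) (k.1 (g.1 (b l))) +
      ∑ j ∈ (G₁ ∪ G₂)ᶜ, σ (D.B (b j) (k.1 (g.1 (b l)))) * D.B (b j) (k.1 (g.1 (b l))) = 0 := by
  have hu : ∀ j, (if j ∈ G₁ then s else if j ∈ G₂ then t else 1) *
      σ (if j ∈ G₁ then s else if j ∈ G₂ then t else 1) = 1 := fun j => by split_ifs <;> simp [*]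
  have k1 : ∀ x y, D.B x ((hb.dg _ hu).1 y) = s * ∑ j ∈ G₁, σ (D.B (b j) x) * D.B (b j) y +
      t * ∑ j ∈ G₂, σ (D.B (b j) x) * D.B (b j) y +
      ∑ j ∈ (G₁ ∪ G₂)ᶜ, σ (D.B (b j) x) * D.B (b j) y := fun x y => by
    rw [hb.B_sum, ← Finset.sum_add_sum_compl (G₁ ∪ G₂), Finset.sum_union hG, Finset.mul_sum,
      Finset.mul_sum]
    congr 1; congr 1
    all_goals refine Finset.sum_congr rfl fun j hj => ?_
    · simp only [hb.co_dg, if_pos hj]; ring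
    · simp only [hb.co_dg, if_pos hj, if_neg (Finset.disjoint_right.1 hG hj)]; ring
    · rw [Finset.mem_compl, Finset.notMem_union] at hj
      simp only [hb.co_dg, if_neg hj.1, if_neg hj.2, one_mul]
  obtain ⟨m, c, hc⟩ := hb.frame_of_B hn hX hz hg hk h1 (l := l) (by
    rw [hb.B_sum, ← Finset.sum_add_sum_compl (G₁ ∪ G₂), Finset.sum_union hG, s1, s2, s3]; simp)
  obtain ⟨m', c', hc'⟩ := hb.frame_of_B hn hX hz hg (mul_mem (hb.dg_mem _ hu) hk) (by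
    rw [map_mul, Units.val_mul, h1, mul_one, hb.det_dg, ← Finset.prod_mul_prod_compl G₁,
      Finset.prod_congr rfl fun j hj => if_pos hj,
      Finset.prod_congr rfl fun j hj => if_neg (Finset.mem_compl.1 hj), Finset.prod_ite_mem,
      Finset.inter_eq_right.2 (Finset.subset_compl_iff_disjoint_left.2 hG)]
    simpa using hst) (l := l) (by rw [isom_mul_apply, k1, s1, s2, s3]; simp)
  rw [isom_mul_apply] at hc'
  refine (hb.eq_or_B hc hc' (by simpa using b.ne_zero l)).imp (fun ⟨a, ha⟩ => ⟨a, fun j hj => ?_⟩)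
    fun H => by rwa [k1] at H
  have := congrArg (D.B (b j)) ha
  rw [hb.co_dg, D.B_smul_right] at this
  exact mul_right_cancel₀ hj this

include hq in
theorem three_groups {g : D.isom} (hg : g ∈ X) (hg' : g ∉ frm D b) {l : ι} {G₁ G₂ : Finset ι}
    (hG : Disjoint G₁ G₂) (hc : G₁.card = G₂.card) (n1 : G₁.Nonempty) (n3 : (G₁ ∪ G₂)ᶜ.Nonempty)
    {k₁ k₂ k₃ : D.isom} (h1 : Gd D b (g.1 (b l)) G₁ k₁) (h2 : Gd D b (g.1 (b l)) G₂ k₂)
    (h3 : Gd D b (g.1 (b l)) (G₁ ∪ G₂)ᶜ k₃) (hd : (D.det k₁ : F) * (D.det k₂ * D.det k₃) = 1) :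
    False := by
  have d1 : Disjoint G₂ (G₁ ∪ G₂)ᶜ := disjoint_compl_right.mono_left Finset.subset_union_right
  have d2 : Disjoint G₁ (G₂ ∪ (G₁ ∪ G₂)ᶜ) := Finset.disjoint_union_right.2
    ⟨hG, disjoint_compl_right.mono_left Finset.subset_union_left⟩
  have h4 := hb.gd_union d1 h2 h3
  have h5 := mul_mem h1.mem h4.mem
  have h6 : (D.det (k₁ * (k₂ * k₃)) : F) = 1 := by simpa using hd
  have h7 := hz _ (mul_mem (hX ⟨hb.mem_E' (by omega) h6, h5⟩) hg)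
    (fun H => hg' ((Subgroup.mul_mem_cancel_left _ h5).1 H)) l
  simp only [isom_mul_apply (k₁ * (k₂ * k₃))] at h7
  have k := fun κ (hκ : κ * σ κ = 1) => hb.scale_or hn hX hz hg hG h5 h6 (l := l)
    (h1.sum ▸ Finset.sum_congr rfl fun j hj => by rw [hb.co_mul d2 h1.fix h4.fix _ hj])
    (h2.sum ▸ Finset.sum_congr rfl fun j hj => by
      rw [isom_mul_apply, co_of_fix (h1.fix j (Finset.disjoint_right.1 hG hj)),
        hb.co_mul d1 h2.fix h3.fix _ hj])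
    (h3.sum ▸ Finset.sum_congr rfl fun j hj => by
      have := Finset.notMem_union.1 (Finset.mem_compl.1 hj)
      rw [isom_mul_apply, co_of_fix (h1.fix j this.1), isom_mul_apply, co_of_fix (h2.fix j this.2)])
    hκ (h.norm_σ hκ) (by rw [hc, ← mul_pow, hκ, one_pow])
  have h8 := hb.B_sum ((k₁ * (k₂ * k₃)).1 (g.1 (b l))) ((k₁ * (k₂ * k₃)).1 (g.1 (b l)))
  rw [B_isom, B_isom, hb.self, ← Finset.sum_add_sum_compl (G₁ ∪ G₂), Finset.sum_union hG] at h8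
  generalize (k₁ * (k₂ * k₃)).1 (g.1 (b l)) = w at *
  generalize ∑ j ∈ G₁, σ (D.B (b j) w) * D.B (b j) w = A₁ at *
  generalize ∑ j ∈ G₂, σ (D.B (b j) w) * D.B (b j) w = A₂ at *
  generalize ∑ j ∈ (G₁ ∪ G₂)ᶜ, σ (D.B (b j) w) * D.B (b j) w = A₃ at *
  have k' : ∀ κ, κ * σ κ = 1 → κ ≠ 1 → A₁ * κ ^ 2 + A₃ * κ + A₂ = 0 := fun κ hκ κ1 => by
    rcases k κ hκ with ⟨a, ha⟩ | H
    · obtain ⟨i, hi⟩ := n1
      obtain ⟨j, hj⟩ := n3
      have := Finset.notMem_union.1 (Finset.mem_compl.1 hj)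
      have a1 := ha i (h7 i)
      have a2 := ha j (h7 j)
      rw [if_pos hi] at a1
      rw [if_neg this.1, if_neg this.2] at a2
      exact (κ1 (a1.trans a2.symm)).elim
    · linear_combination κ * H - A₂ * hκ
  obtain ⟨x, hx, x1, -⟩ := h.exists_mu3 1 1
  obtain ⟨y, hy, y1, y2⟩ := h.exists_mu3 1 x
  obtain ⟨z, hz, z1, z2, z3⟩ := h.exists_mu4 hq 1 x y
  have a1 := quad3 (k' x hx x1) (k' y hy y1) (k' z hz z1) y2.symm z2.symm z3.symm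
  have a2 : A₃ = 0 := mul_right_cancel₀ (sub_ne_zero.2 y2)
    (by linear_combination k' y hy y1 - k' x hx x1 - (y ^ 2 - x ^ 2) * a1)
  exact one_ne_zero (by linear_combination h8 + k' x hx x1 + (1 - x ^ 2) * a1 + (1 - x) * a2 :
    (1 : F) = 0)

include hq in
theorem le_frm (h8 : (Fintype.card ι = 6 ∧ ∀ g ∈ X, g ∉ frm D b → ∀ l i j, SqN σ
    (σ (σ (D.B (b i) (g.1 (b l))) * D.B (b j) (g.1 (b l))) /
      (σ (D.B (b i) (g.1 (b l))) * D.B (b j) (g.1 (b l))))) ∨ 8 ≤ Fintype.card ι) :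
    X ≤ frm D b := fun g hg => by
  by_contra hg'
  obtain ⟨l⟩ : Nonempty ι := Fintype.card_pos_iff.1 (by omega)
  have hv := hz g hg hg' l
  obtain ⟨i, j, hij, H⟩ : ∃ i j, i ≠ j ∧ ((∀ i j, SqN σ (σ (σ (D.B (b i) (g.1 (b l))) *
      D.B (b j) (g.1 (b l))) / (σ (D.B (b i) (g.1 (b l))) * D.B (b j) (g.1 (b l))))) ∨
      ¬ SqN σ (σ (σ (D.B (b i) (g.1 (b l))) * D.B (b j) (g.1 (b l))) /
        (σ (D.B (b i) (g.1 (b l))) * D.B (b j) (g.1 (b l))))) := by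
    by_contra! H
    obtain ⟨j, jl, -⟩ := exists_ne4' hn l l l l
    obtain ⟨i, j, H'⟩ := (H j l jl).1
    by_cases hij : i = j
    · refine H' ⟨1, by simp, ?_⟩
      rw [hij, map_mul, h.σσ, mul_comm, div_self (mul_ne_zero ((map_ne_zero σ).2 (hv j)) (hv j))]; simp
    · exact H' (H i j hij).2
  obtain ⟨a₁, h1, a₂, h2, a₃, h3, a₄, h4, n1, n2, n3, n4, n5, n6⟩ :=
    Finset.three_lt_card.1 (show 3 < ({i, j}ᶜ : Finset ι).card by
      rw [Finset.card_compl, Finset.card_pair hij]; omega)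
  have d1 : Disjoint ({a₁, a₂} : Finset ι) {a₃, a₄} := by
    simp [n2.symm, n3.symm, n4.symm, n5.symm]
  have c1 : (({a₁, a₂} ∪ {a₃, a₄} : Finset ι)ᶜ).card + 4 = Fintype.card ι := by
    rw [Finset.card_compl, Finset.card_union_of_disjoint d1, Finset.card_pair n1,
      Finset.card_pair n6]; omega
  have c2 : {i, j} ⊆ ({a₁, a₂} ∪ {a₃, a₄} : Finset ι)ᶜ := by
    rw [Finset.subset_compl_comm]
    simp only [Finset.union_subset_iff, Finset.insert_subset_iff, Finset.singleton_subset_iff]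
    exact ⟨⟨h1, h2⟩, h3, h4⟩
  obtain ⟨k₂, k2, e2⟩ := hb.gd_pair hv n6
  have fin := fun k₁ k₃ => hb.three_groups hq hn hX hz hg hg' d1 (l := l) (k₁ := k₁) (k₃ := k₃)
    (by rw [Finset.card_pair n1, Finset.card_pair n6]) (by simp) ⟨i, c2 (by simp)⟩ (k₂ := k₂)
  by_cases he : Even (Fintype.card ι) ∧ ∀ i j, SqN σ (σ (σ (D.B (b i) (g.1 (b l))) *
      D.B (b j) (g.1 (b l))) / (σ (D.B (b i) (g.1 (b l))) * D.B (b j) (g.1 (b l))))
  · obtain ⟨⟨n, he⟩, H⟩ := he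
    obtain ⟨k₃, k3, e3⟩ := hb.gd_even hv H (n - 2) (G := ({a₁, a₂} ∪ {a₃, a₄})ᶜ) (by omega)
    obtain ⟨k₁, k1, e1⟩ := hb.gd_adjust hv n1 ((H _ _).mul ((e2 ▸ H _ _).mul e3))
    exact fin _ _ k1 k2 k3 e1
  replace h8 := h8.resolve_left fun h9 => he ⟨by rw [h9.1]; decide, h9.2 g hg hg' l⟩
  obtain ⟨i', p1, j', p2, p3⟩ := Finset.one_lt_card.1
    (show 1 < (({a₁, a₂} ∪ {a₃, a₄} : Finset ι)ᶜ \ {i, j}).card by
      rw [Finset.card_sdiff_of_subset c2, Finset.card_pair hij]; omega)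
  rw [Finset.mem_sdiff] at p1 p2
  have p4 := p1.2
  have p5 := p2.2
  simp only [Finset.mem_insert, Finset.mem_singleton, not_or] at p4 p5
  obtain ⟨k₃, k₃', k3, k3', κ, hκ, e3⟩ := hb.gd_big hv (Ne.symm p4.1) hij (Ne.symm p5.1) p4.2 p3
    (Ne.symm p5.2) (G := ({a₁, a₂} ∪ {a₃, a₄})ᶜ) (by
      simp only [Finset.insert_subset_iff, Finset.singleton_subset_iff]
      exact ⟨c2 (by simp), p1.1, c2 (by simp), p2.1⟩)
  have e4 := hb.nondeg.det_mul_σ_det k₂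
  rcases H with H | H
  · obtain ⟨n, hn'⟩ := Nat.not_even_iff_odd.1 fun h9 => he ⟨h9, H⟩
    obtain ⟨r, hr⟩ := h.exists_norm_eq (a := -1) (by simp)
    obtain ⟨k, hk, e5⟩ := hb.gd_scale k3 (s := r ^ 2) (by rw [map_pow, ← mul_pow, hr]; simp)
    obtain ⟨k₁, k', k1, k4, e1⟩ := hb.gd_two hv n1 k3 hk (r := r ^ (2 * (n - 2) + 1))
      (by rw [map_pow, ← mul_pow, hr, Odd.neg_one_pow ⟨_, rfl⟩])
      (by rw [e5, show (_ : Finset ι).card = 2 * (n - 2) + 1 by omega]; ring) e4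
    exact fin _ _ k1 k2 k4 e1
  · obtain ⟨r, e5, hr⟩ := h.exists_root (h.norm_div (mul_ne_zero ((map_ne_zero σ).2 (hv i)) (hv j)))
    obtain ⟨k₁, k', k1, k4, e1⟩ := hb.gd_two hv n1 k3 k3' (r := κ * r)
      (by rw [map_mul]; linear_combination (r * σ r) * hκ + hr.resolve_left fun h9 => H ⟨r, h9, e5⟩)
      (by rw [e3, e5]; ring) e4
    exact fin _ _ k1 k2 k4 e1

end ONB

end Cfsg.Lib.Forms
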