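import Cfsg.Agent.Lib.MaxU.FrC

/-!
# Stabilisers of orthonormal frames are maximal
-/

set_option autoImplicit false

namespace Cfsg.Lib.Forms

open Module Form Herm

variable {F : Type*} [Field F] {σ : F →+* F} {V : Type*} [AddCommGroup V] [Module F V]
  {q : ℕ} {h : IsConj σ q} {D : Form h.kind V} {X L : Subgroup D.isom}
  {ι : Type*} [Fintype ι] [DecidableEq ι] {b : Basis ι F V}

/-- `X` contains the rank-one isometry with data `z, c`. -/
def Tc (X : Subgroup D.isom) (z : V) (c : F) : Prop := ∃ hc, D.rk1 z c hc ∈ X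

theorem Tc.conj {z : V} {c : F} (H : Tc X z c) {g : D.isom} (hg : g ∈ X) : Tc X (g.1 z) c :=
  let ⟨hc, H⟩ := H
  ⟨hc.isom g, D.conj_rk1 g z c hc ▸ mul_mem (mul_mem hg H) (inv_mem hg)⟩

theorem Tc.add {z : V} (hz : D.Q z = 0) {c c' : F} (H : Tc X z c) (H' : Tc X z c') :
    Tc X z (c + c') := by
  obtain ⟨hc, H⟩ := H
  obtain ⟨hc', H'⟩ := H'
  have := mul_mem H H'
  rw [rk1_mul] at this
  have h1 : Tc X z (c + c' + c * c' * D.B z z) := ⟨_, this⟩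
  rwa [D.B_self_of_Q hz, mul_zero, add_zero] at h1

theorem Tc.of_smul {z : V} {c t : F} (H : Tc X (t • z) c) : Tc X z (t * σ t * c) := by
  by_cases ht : t = 0
  · exact ⟨by simpa [ht] using isRk1_zero z, by simp only [ht, zero_mul, rk1_zero]; exact one_mem _⟩
  obtain ⟨hc, H⟩ := H
  exact ⟨(isRk1_smul ht).1 hc, rk1_smul hc _ ▸ H⟩

theorem IsConj.exists_cube_ne (h : IsConj σ q) (hq : q ≠ 2) :
    ∃ ε, ε * σ ε = 1 ∧ ε ≠ 1 ∧ ε ^ 2 + ε + 1 ≠ 0 := by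
  by_contra! H
  obtain ⟨x, hx, x1, -⟩ := h.exists_mu3 1 1
  obtain ⟨y, hy, y1, y2⟩ := h.exists_mu3 1 x
  obtain ⟨z, hz, z1, z2, z3⟩ := h.exists_mu4 hq 1 x y
  exact one_ne_zero (quad3 (A := 1) (B := 1) (C := 1) (by simpa using H x hx x1)
    (by simpa using H y hy y1) (by simpa using H z hz z1) y2.symm z2.symm z3.symm)

theorem IsConj.sqN_two (h : IsConj σ q) (h2 : (2 : F) = 0) {x : F} (hx : x * σ x = 1) : SqN σ x := by
  obtain ⟨r, h1, h3⟩ := h.exists_root hx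
  exact ⟨r, h3.elim id fun h4 => by linear_combination h4 - h2, h1⟩

namespace ONB

variable (hb : ONB D b) (h2 : (2 : F) = 0)
include hb

section
variable {k : ι} (hL : ∀ g ∈ frm D b, ∀ c : F, g.1 (b k) = c • b k → g ∈ L)
include hL h2

theorem rk_of_norm {z : V} (hz : D.Q z = 0) (hT : Tc L z 1) {i : ι} (h0 : D.B (b i) z ≠ 0)
    (h1 : D.B (b i) z * σ (D.B (b i) z) ≠ 1) : Rk L z := by
  obtain ⟨A, hA⟩ : ∃ A, A = D.B (b i) z * σ (D.B (b i) z) := ⟨_, rfl⟩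
  have A0 : A ≠ 0 := hA ▸ mul_ne_zero h0 ((map_ne_zero σ).2 h0)
  have A1 : σ A = A := by rw [hA, map_mul, h.σσ, mul_comm]
  have A2 : A * (1 + A) ≠ 0 := mul_ne_zero A0 fun H => h1 (by linear_combination H - hA - h2)
  have k : ∀ ε, ε * σ ε = 1 → Tc L z (A * (1 + A) * (ε + σ ε)) := fun ε hε => by
    obtain ⟨β, hβ⟩ : ∃ β, β = (ε - 1) * A := ⟨_, rfl⟩
    have hβ' : σ β = (σ ε - 1) * A := by simp [hβ, A1]
    have k1 : Tc L ((1 + β) • z) 1 := by
      by_cases b0 : 1 + β = 0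
      · exact ⟨isRk1_iff.2 (by simp [b0]; linear_combination h2), by
          simp only [b0, zero_smul, rk1_zero_left]; exact one_mem _⟩
      have b1 : (ε + β) * σ (ε + β) = (1 + β) * σ (1 + β) := by
        rw [map_add, map_add, map_one, hβ', hβ]
        linear_combination (1 + 2 * A) * hε + (A * (2 - ε - σ ε)) * h2
      have b2 : ε + β ≠ 0 := fun H => mul_ne_zero b0 ((map_ne_zero σ).2 b0) (by rw [← b1, H, zero_mul])
      have b3 := (map_ne_zero σ).2 b2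
      have b4 : (1 + β) / (ε + β) * σ ((1 + β) / (ε + β)) = 1 := by
        rw [map_div₀]; field_simp; linear_combination -b1
      convert ((hT.conj (hb.rk_b hL i _ (isRk1_unit (hb.Q_b i) hε))).conj hT.choose_spec).conj
        (hb.rk_b hL i _ (isRk1_unit (hb.Q_b i) b4)) using 1
      simp only [rk1_apply, D.B_lin, D.B_self_of_Q hz, hb.self, B_symm D (b i) z]
      rw [show (ε - 1) * D.B (b i) z * σ (D.B (b i) z) = β by rw [hβ, hA]; ring]
      match_scalars <;> field_simp <;> ring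
    convert k1.of_smul.add hz hT using 1
    rw [map_add, map_one, hβ', hβ]
    linear_combination (-A ^ 2) * hε + (A ^ 2 * (ε + σ ε - 1) + A - 1) * h2
  intro c hc
  have h3 : σ c = c := by have := isRk1_iff.1 hc; rw [hz] at this; linear_combination this - c * h2
  obtain ⟨x, hx⟩ := h.exists_trace_eq (a := c / (A * (1 + A))) (by simp [h3, A1])
  obtain ⟨ε₁, ε₂, ε₃, ε₄, e1, e2, e3, e4, rfl, -⟩ :=
    h.circ4 one_ne_zero one_ne_zero one_ne_zero one_ne_zero x 0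
  obtain ⟨hc', H⟩ := (((k _ e1).add hz (k _ e2)).add hz (k _ e3)).add hz (k _ e4)
  refine rk1_congr hc' hc rfl ?_ ▸ H
  rw [eq_div_iff A2] at hx
  simp only [map_add, mul_one] at hx
  linear_combination hx

variable [FiniteDimensional F V]

theorem win_two {z : V} (hz : D.Q z = 0) (zk : D.B (b k) z = 0) (hT : Tc L z 1)
    (h3 : 3 ≤ (sp D b z).card) : D.Full L (D.perp (F ∙ b k)) := by
  obtain ⟨i, j, l, hi, hj, hl, ij, il, jl⟩ := Finset.two_lt_card_iff.1 h3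
  rw [mem_sp] at hi hj hl
  by_cases H : ∃ m, D.B (b m) z ≠ 0 ∧ D.B (b m) z * σ (D.B (b m) z) ≠ 1
  · obtain ⟨m, h4, h5⟩ := H
    exact hb.win hL hz zk (hb.rk_of_norm h2 hL hz hT h4 h5) ij hi hj (Or.inl ⟨l, il.symm, jl.symm, hl⟩)
  push Not at H
  by_cases hq : q = 2
  · refine hb.win hL hz zk (fun c hc => ?_) ij hi hj (Or.inl ⟨l, il.symm, jl.symm, hl⟩)
    have h4 := isRk1_iff.1 hc
    rw [hz, h.apply c, hq] at h4
    rcases mul_eq_zero.1 (show c * (c - 1) = 0 by linear_combination h4 - c * h2) with rfl | h5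
    · rw [rk1_zero]; exact one_mem _
    · obtain rfl := sub_eq_zero.1 h5
      exact hT.choose_spec
  obtain ⟨ε, hε, e1, e2⟩ := h.exists_cube_ne hq
  have e0 := left_ne_zero_of_mul_eq_one hε
  have h4 := ((hT.conj (hb.rk_b hL j _ (isRk1_unit (hb.Q_b j) (h.norm_σ hε)))).conj
    (hb.rk_b hL i _ (isRk1_unit (hb.Q_b i) hε))).conj hT.choose_spec
  have h5 := Q_isom (D.rk1 z 1 hT.choose * (D.rk1 _ _ (isRk1_unit (hb.Q_b i) hε) *
    D.rk1 _ _ (isRk1_unit (hb.Q_b j) (h.norm_σ hε)))) z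
  rw [isom_mul_apply, isom_mul_apply, hz] at h5
  have h6 : ∀ m, D.B (b m) ((D.rk1 z 1 hT.choose).1 ((D.rk1 _ _ (isRk1_unit (hb.Q_b i) hε)).1
      ((D.rk1 _ _ (isRk1_unit (hb.Q_b j) (h.norm_σ hε))).1 z))) =
      (if m = i then σ ε else if m = j then ε else 1 + ε + σ ε) * D.B (b m) z := fun m => by
    simp only [rk1_apply, D.B_lin, D.B_self_of_Q hz, hb m, hb.ne ij, B_symm D (b i) z,
      B_symm D (b j) z]
    have a1 := H i hi
    have a2 := H j hj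
    by_cases mi : m = i
    · simp only [mi, if_pos, if_neg ij]
      linear_combination ((ε - 1) * D.B (b i) z) * a1 + ((σ ε - 1) * D.B (b i) z) * a2 +
        ((ε - 1) * D.B (b i) z) * h2
    by_cases mj : m = j
    · simp only [mj, if_pos, if_neg ij.symm]
      linear_combination ((ε - 1) * D.B (b j) z) * a1 + ((σ ε - 1) * D.B (b j) z) * a2 +
        ((σ ε - 1) * D.B (b j) z) * h2
    · simp only [if_neg mi, if_neg mj]
      linear_combination ((ε - 1) * D.B (b m) z) * a1 + ((σ ε - 1) * D.B (b m) z) * a2 -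
        D.B (b m) z * h2
  generalize (D.rk1 z 1 hT.choose).1 _ = w at h4 h5 h6
  have h7 : 1 + ε + σ ε ≠ 0 := fun h8 => e2 (by linear_combination ε * h8 - hε)
  have h8 : D.B (b l) w ≠ 0 := by simp [h6, il.symm, jl.symm, h7, hl]
  refine hb.win hL h5 (by simp [h6, zk]) (hb.rk_of_norm h2 hL h5 h4 h8 fun h9 => e1 ?_) ij
    (by simp [h6, e0, hi]) (by simp [h6, e0, hj, ij.symm]) (Or.inl ⟨l, il.symm, jl.symm, h8⟩)
  simp only [h6, if_neg il.symm, if_neg jl.symm, map_mul, map_add, map_one, h.σσ] at h9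
  have h10 : ε + σ ε = 0 := pow_eq_zero_iff two_ne_zero |>.1 (by
    linear_combination h9 - (1 + ε + σ ε) ^ 2 * H l hl - (ε + σ ε) * h2)
  exact sub_eq_zero.1 (pow_eq_zero_iff two_ne_zero |>.1 (by
    linear_combination ε * h10 - hε + (-ε) * h2 : (ε - 1) ^ 2 = 0))

end

variable [FiniteDimensional F V] (hE : X ≤ D.E) (hX : D.E ⊓ frm D b ≤ X)
include hX

include h2 in
theorem exists_three (hn : 5 ≤ Fintype.card ι) (H : ¬ X ≤ frm D b) :
    ∃ z, D.Q z = 0 ∧ Tc X z 1 ∧ 3 ≤ (sp D b z).card := by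
  obtain ⟨g, hg, hg'⟩ := SetLike.not_le_iff_exists.1 H
  obtain ⟨l, hl⟩ : ∃ l, 2 ≤ (sp D b (g.1 (b l))).card := by
    by_contra! h3
    exact hg' (mem_frm.2 fun l => hb.eq_smul_of_card (Nat.lt_succ_iff.1 (h3 l)) l)
  have k : ∀ m, l ≠ m → ∀ ζ : F, ζ * σ ζ = 1 → D.Q (g.1 (b l) - ζ • g.1 (b m)) = 0 ∧
      Tc X (g.1 (b l) - ζ • g.1 (b m)) 1 := fun m lm ζ hζ => by
    rw [← map_smul, ← map_sub]
    have h3 : (-1 : F) = 1 := by linear_combination -h2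
    refine ⟨by simp [Q_eq, hb.self, hb.ne lm, hb.ne lm.symm]; linear_combination hζ + h2,
      Tc.conj (h3 ▸ ⟨hb.isRk1_sw lm hζ, hX ⟨hb.mem_E' (by omega) ?_, hb.sw_mem lm hζ⟩⟩) hg⟩
    exact (hb.det_sw lm hζ).trans h3
  by_cases h3 : ∃ c, D.B (b c) (g.1 (b l)) = 0
  · obtain ⟨c, hc⟩ := h3
    obtain ⟨m, hm⟩ := hb.exists_coord_ne g c
    obtain ⟨i, hi, j, hj, hij⟩ := Finset.one_lt_card.1 hl
    rw [mem_sp] at hi hj
    obtain ⟨ζ, hζ, z1, z2⟩ := h.exists_mu3 (D.B (b i) (g.1 (b l)) / D.B (b i) (g.1 (b m)))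
      (D.B (b j) (g.1 (b l)) / D.B (b j) (g.1 (b m)))
    have k1 : ∀ i, D.B (b i) (g.1 (b l)) ≠ 0 → ζ ≠ D.B (b i) (g.1 (b l)) / D.B (b i) (g.1 (b m)) →
        i ∈ sp D b (g.1 (b l) - ζ • g.1 (b m)) := fun i h4 h5 => mem_sp.2 fun h6 => by
      simp only [D.B_lin, sub_eq_zero] at h6
      rw [h6, mul_div_cancel_right₀ _ (by rintro h7; simp [h6, h7] at h4)] at h5
      exact h5 rfl
    obtain ⟨h4, h5⟩ := k m (by rintro rfl; exact hm hc) ζ hζ
    exact ⟨_, h4, h5, Finset.two_lt_card_iff.2 ⟨i, j, c, k1 i hi z1, k1 j hj z2,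
      by simp [hc, hm, left_ne_zero_of_mul_eq_one hζ], hij, by rintro rfl; exact hi hc,
      by rintro rfl; exact hj hc⟩⟩
  push Not at h3
  obtain ⟨m, ml, -⟩ := exists_ne4' hn l l l l
  obtain ⟨ζ, hζ, z1, -⟩ := h.exists_mu3 1 1
  obtain ⟨h4, h5⟩ := k m ml.symm ζ hζ
  obtain ⟨h6, h7⟩ := k m ml.symm 1 (by simp)
  by_contra! h8
  have h9 := Finset.card_union_le (sp D b (g.1 (b l) - ζ • g.1 (b m)))
    (sp D b (g.1 (b l) - (1 : F) • g.1 (b m)))
  rw [Finset.eq_univ_of_forall (s := _ ∪ _) fun i => by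
    by_contra h10
    simp only [Finset.mem_union, mem_sp, not_or, not_not, D.B_lin, sub_eq_zero, one_mul] at h10
    exact z1 (mul_right_cancel₀ (h3 i) (by rw [one_mul]; nth_rw 1 [h10.2]; exact h10.1.symm)),
    Finset.card_univ] at h9
  have := h8 _ h4 h5
  have := h8 _ h6 h7
  omega

include h2 in
theorem exists_zero (hn : 10 ≤ Fintype.card ι) {z : V} (hz : D.Q z = 0) (hT : Tc X z 1)
    (hv : ∀ j, D.B (b j) z ≠ 0) :
    ∃ w k, D.Q w = 0 ∧ Tc X w 1 ∧ 3 ≤ (sp D b w).card ∧ D.B (b k) w = 0 := by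
  obtain ⟨i, j, k, -, -, -, ij, ik, jk⟩ := Finset.two_lt_card_iff.1
    (show 2 < (Finset.univ : Finset ι).card by rw [Finset.card_univ]; omega)
  have c1 : ({i, j, k} : Finset ι).card = 3 := Finset.card_eq_three.2 ⟨i, j, k, ij, ik, jk, rfl⟩
  obtain ⟨a₁, h1, a₂, h3, a₃, h4, a₄, h5, n1, n2, n3, n4, n5, n6⟩ :=
    Finset.three_lt_card.1 (show 3 < ({i, j, k}ᶜ : Finset ι).card by
      rw [Finset.card_compl, c1]; omega)
  have c2 : {a₁, a₂, a₃, a₄} ⊆ ({i, j, k}ᶜ : Finset ι) := by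
    simp only [Finset.insert_subset_iff, Finset.singleton_subset_iff]; exact ⟨h1, h3, h4, h5⟩
  have c3 : {a₁, a₂, a₃, a₄} ⊆ ({i, j}ᶜ : Finset ι) :=
    c2.trans (Finset.compl_subset_compl.2 (by simp [Finset.insert_subset_iff]))
  obtain ⟨η, hη, η1, -⟩ := h.exists_mu3 1 1
  have N : ∀ j, σ (D.B (b j) z) * D.B (b j) z ≠ 0 := fun j =>
    mul_ne_zero ((map_ne_zero σ).2 (hv j)) (hv j)
  obtain ⟨t, ht⟩ : ∃ t : ι → F, t = fun m => if m ∈ ({i, j, k} : Finset ι) then 1 else η := ⟨_, rfl⟩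
  obtain ⟨ε₁, ε₂, ε₃, ε₄, e1, e2, e3, e4, e5, -⟩ := h.circ4 (N a₁) (N a₂) (N a₃) (N a₄)
    (1 - ∑ m ∈ {i, j}ᶜ \ {a₁, a₂, a₃, a₄}, t m * (σ (D.B (b m) z) * D.B (b m) z)) 0
  have hs := tt_norm (t := t) (i₁ := a₁) (i₂ := a₂) (i₃ := a₃) (i₄ := a₄)
    (fun m => by rw [ht]; dsimp only; split_ifs <;> simp [hη]) e1 e2 e3 e4
  have h6 := sum_tt (t := t) (ε₁ := ε₁) (ε₂ := ε₂) (ε₃ := ε₃) (ε₄ := ε₄) n1 n2 n3 n4 n5 n6 c3
    fun m => σ (D.B (b m) z) * D.B (b m) z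
  rw [e5, add_sub_cancel] at h6
  have h7 : ∀ m ∈ ({i, j, k} : Finset ι), tt t a₁ a₂ a₃ a₄ ε₁ ε₂ ε₃ ε₄ m = 1 := fun m hm => by
    rw [tt_ne fun h8 => Finset.mem_compl.1 (c2 h8) hm, ht]; exact if_pos hm
  obtain ⟨g, hg, h8⟩ := hb.gd_adjust hv ij (δ := D.det (hb.dg _ hs)) (h.sqN_two h2 (norm_mul_one
    (h.norm_div (mul_ne_zero ((map_ne_zero σ).2 (hv i)) (hv j))) (hb.nondeg.det_mul_σ_det _)))
  have h9 : g * hb.dg _ hs ∈ X := hX ⟨hb.mem_E' (by omega) (by simpa using h8),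
    mul_mem hg.mem (hb.dg_mem _ _)⟩
  have h10 : ∀ m ∈ ({i, j}ᶜ : Finset ι), D.B (b m) ((g * hb.dg _ hs).1 z) =
      tt t a₁ a₂ a₃ a₄ ε₁ ε₂ ε₃ ε₄ m * D.B (b m) z := fun m hm => by
    rw [isom_mul_apply, co_of_fix (hg.fix m (Finset.mem_compl.1 hm)), hb.co_dg]
  have h11 : D.B z ((g * hb.dg _ hs).1 z) = 1 := by
    rw [hb.B_sum, ← Finset.sum_add_sum_compl {i, j}, Finset.sum_congr rfl fun m hm => by
      rw [hb.co_mul disjoint_compl_right hg.fix (fun m hm => by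
        rw [hb.dg_b, h7 m (by revert hm; simp; tauto), one_smul]) z hm], hg.sum, zero_add, ← h6]
    exact Finset.sum_congr rfl fun m hm => by rw [h10 m hm]; ring
  refine ⟨_, k, by simpa using hz, (hT.conj h9).conj hT.choose_spec, ?_, ?_⟩
  · refine le_trans ?_ (Finset.card_le_card (s := {i, j, k}ᶜ \ {a₁, a₂, a₃, a₄}) fun m hm => ?_)
    · have := Finset.card_le_four (a := a₁) (b := a₂) (c := a₃) (d := a₄)
      rw [Finset.card_sdiff_of_subset c2, Finset.card_compl, c1]; omega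
    rw [Finset.mem_sdiff, Finset.mem_compl] at hm
    rw [mem_sp, rk1_apply, h11, D.B_add_right, h10 m (by revert hm; simp; tauto), tt_ne hm.2, ht]
    simp only [if_neg hm.1, D.B_smul_right]
    exact fun h12 => η1 (mul_right_cancel₀ (hv m) (by linear_combination h12 - D.B (b m) z * h2))
  · rw [rk1_apply, h11, D.B_add_right, h10 k (by simp [ik.symm, jk.symm]), h7 k (by simp),
      D.B_smul_right]
    linear_combination D.B (b k) z * h2

include hE h2 in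
theorem E_le_two (hn : 10 ≤ Fintype.card ι) (H : ¬ X ≤ frm D b) : D.E ≤ X := by
  obtain ⟨z, k, h1, h3, h4, h5⟩ : ∃ w k, D.Q w = 0 ∧ Tc X w 1 ∧ 3 ≤ (sp D b w).card ∧
      D.B (b k) w = 0 := by
    obtain ⟨z, h1, h3, h4⟩ := hb.exists_three h2 hX (by omega) H
    by_cases h5 : ∃ k, D.B (b k) z = 0
    · exact ⟨z, h5.choose, h1, h3, h4, h5.choose_spec⟩
    · exact hb.exists_zero h2 hX hn h1 h3 (not_exists.1 h5)
  refine hb.E_le_of_full (by omega) hE hX (hb.win_two h2 (fun g hg c => hb.mem_agr (by omega) hX hg)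
    h1 h5 ⟨h3.choose, hb.mem_stab (c := 1) ?_, _, h3.choose_spec, fun _ _ => rfl⟩ h4)
  rw [D.rk1_apply_of_perp _ _ (D.eq_zero_symm h5), one_smul]

theorem six_pair (hn : Fintype.card ι = 6)
    (hz : ∀ g ∈ X, g ∉ frm D b → ∀ l a, D.B (b a) (g.1 (b l)) ≠ 0) {g : D.isom} (hg : g ∈ X)
    (hg' : g ∉ frm D b) {l i j : ι} (hij : i ≠ j) {r : F} (hr : r * σ r = -1)
    (H : σ (σ (D.B (b i) (g.1 (b l))) * D.B (b j) (g.1 (b l))) /
      (σ (D.B (b i) (g.1 (b l))) * D.B (b j) (g.1 (b l))) = r ^ 2) {a a' : ι} (ha : a ≠ a')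
    (h1 : {i, j} ⊆ ({a, a'}ᶜ : Finset ι)) {κ : F} (hκ : κ * σ κ = 1) (h3 : κ ^ 3 ≠ 1) :
    (κ ^ 3 - 1) * (σ (D.B (b a) (g.1 (b l))) * D.B (b a) (g.1 (b l)) +
      σ (D.B (b a') (g.1 (b l))) * D.B (b a') (g.1 (b l))) = -1 := by
  have hv := hz g hg hg' l
  have c1 : ({a, a'}ᶜ : Finset ι).card = 4 := by rw [Finset.card_compl, Finset.card_pair ha, hn]
  obtain ⟨i', p1, j', p2, p3⟩ := Finset.one_lt_card.1 (show 1 < (({a, a'} : Finset ι)ᶜ \ {i, j}).card by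
    rw [Finset.card_sdiff_of_subset h1, Finset.card_pair hij]; omega)
  rw [Finset.mem_sdiff] at p1 p2
  have p4 := p1.2
  have p5 := p2.2
  simp only [Finset.mem_insert, Finset.mem_singleton, not_or] at p4 p5
  obtain ⟨k₃, k₃', k3, k3', s, hs, e3⟩ := hb.gd_big hv (Ne.symm p4.1) hij (Ne.symm p5.1) p4.2 p3
    (Ne.symm p5.2) (G := {a, a'}ᶜ) (by
      simp only [Finset.insert_subset_iff, Finset.singleton_subset_iff]
      exact ⟨h1 (by simp), p1.1, h1 (by simp), p2.1⟩)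
  obtain ⟨k₁, k₂, k1, k2, e1⟩ := hb.gd_two hv ha k3 k3' (r := s * r) (δ := 1)
    (by rw [map_mul]; linear_combination (r * σ r) * hs + hr) (by rw [e3, H]; ring) (by simp)
  have h5 := mul_mem k1.mem k2.mem
  have h6 : (D.det (k₁ * k₂) : F) = 1 := by simpa using e1
  have h7 := hz _ (mul_mem (hX ⟨hb.mem_E' (by omega) h6, h5⟩) hg)
    (fun H => hg' ((Subgroup.mul_mem_cancel_left _ h5).1 H)) l
  simp only [isom_mul_apply (k₁ * k₂)] at h7
  have h8 := fun j => hb.co_mul disjoint_compl_right k1.fix k2.fix (g.1 (b l)) (j := j)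
  have h9 := hb.B_sum ((k₁ * k₂).1 (g.1 (b l))) ((k₁ * k₂).1 (g.1 (b l)))
  rw [B_isom, B_isom, hb.self, ← Finset.sum_add_sum_compl {a, a'}] at h9
  have h10 : σ (D.B (b a) (g.1 (b l))) * D.B (b a) (g.1 (b l)) +
      σ (D.B (b a') (g.1 (b l))) * D.B (b a') (g.1 (b l)) = ∑ j ∈ {a, a'},
      σ (D.B (b j) ((k₁ * k₂).1 (g.1 (b l)))) * D.B (b j) ((k₁ * k₂).1 (g.1 (b l))) := by
    have h10 := hb.B_sum (k₁.1 (g.1 (b l))) (k₁.1 (g.1 (b l)))
    rw [B_isom, hb.B_sum, ← Finset.sum_add_sum_compl {a, a'}, ← Finset.sum_add_sum_compl {a, a'},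
      Finset.sum_pair ha] at h10
    have h11 : ∑ j ∈ {a, a'}ᶜ, σ (D.B (b j) (k₁.1 (g.1 (b l)))) * D.B (b j) (k₁.1 (g.1 (b l))) =
        ∑ j ∈ {a, a'}ᶜ, σ (D.B (b j) (g.1 (b l))) * D.B (b j) (g.1 (b l)) :=
      Finset.sum_congr rfl fun j hj => by rw [co_of_fix (k1.fix j (Finset.mem_compl.1 hj))]
    rw [h11, add_left_inj] at h10
    rw [h10]
    exact Finset.sum_congr rfl fun j hj => by rw [h8 j hj]
  rcases hb.scale_or (by omega) hX hz hg (G₁ := {a, a'}) (G₂ := {a, a'}ᶜ) disjoint_compl_right h5 h6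
    (l := l)
    (k1.sum ▸ Finset.sum_congr rfl fun j hj => by rw [h8 j hj])
    (k2.sum ▸ Finset.sum_congr rfl fun j hj => by
      rw [isom_mul_apply, co_of_fix (k1.fix j (Finset.mem_compl.1 hj))])
    (by rw [Finset.union_compl, Finset.compl_univ, Finset.sum_empty])
    (norm_pow_one hκ 2) (h.norm_σ hκ) (by
      rw [c1, Finset.card_pair ha, ← pow_mul, ← mul_pow, hκ, one_pow]) with ⟨c, hc⟩ | H'
  · have a1 := hc a (h7 a)
    have a2 := hc i (h7 i)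
    have := h1 (Finset.mem_insert_self i {j})
    rw [if_pos (by simp)] at a1
    rw [if_neg (Finset.mem_compl.1 this), if_pos this] at a2
    exact (h3 (by linear_combination κ * (a1 - a2) + hκ)).elim
  · simp only [Finset.union_compl, Finset.compl_univ, Finset.sum_empty] at H'
    rw [h10]
    linear_combination κ * H' - (∑ j ∈ {a, a'}ᶜ, σ (D.B (b j) ((k₁ * k₂).1 (g.1 (b l)))) *
      D.B (b j) ((k₁ * k₂).1 (g.1 (b l)))) * hκ + h9

omit h2 in
theorem six_sq (h2 : (2 : F) ≠ 0) (hq : q ≠ 2) (hn : Fintype.card ι = 6)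
    (hz : ∀ g ∈ X, g ∉ frm D b → ∀ l a, D.B (b a) (g.1 (b l)) ≠ 0) (g : D.isom) (hg : g ∈ X)
    (hg' : g ∉ frm D b) (l i j : ι) : SqN σ (σ (σ (D.B (b i) (g.1 (b l))) * D.B (b j) (g.1 (b l))) /
      (σ (D.B (b i) (g.1 (b l))) * D.B (b j) (g.1 (b l)))) := by
  have hv := hz g hg hg' l
  by_cases hij : i = j
  · refine ⟨1, by simp, ?_⟩
    rw [hij, map_mul, h.σσ, mul_comm, div_self (mul_ne_zero ((map_ne_zero σ).2 (hv j)) (hv j))]; simp
  obtain ⟨r, e5, hr | hr⟩ :=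
    h.exists_root (h.norm_div (mul_ne_zero ((map_ne_zero σ).2 (hv i)) (hv j)))
  · exact ⟨r, hr, e5⟩
  obtain ⟨N, hN⟩ : ∃ N : ι → F, N = fun a => σ (D.B (b a) (g.1 (b l))) * D.B (b a) (g.1 (b l)) :=
    ⟨_, rfl⟩
  have k : ∀ a ∈ ({i, j}ᶜ : Finset ι), ∀ a' ∈ ({i, j}ᶜ : Finset ι), a ≠ a' → ∀ κ, κ * σ κ = 1 →
      κ ^ 3 ≠ 1 → κ ^ 3 = -1 ∧ 2 * (N a + N a') = 1 := fun a h1 a' h3 h4 κ hκ h5 => by
    have h6 := fun κ => hb.six_pair hX hn hz hg hg' hij hr e5 h4 (κ := κ) (by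
      rw [Finset.subset_compl_comm]; simp only [Finset.insert_subset_iff,
        Finset.singleton_subset_iff]; exact ⟨h1, h3⟩)
    have h7 := h6 κ hκ h5
    have h8 := h6 _ (h.norm_σ hκ) fun h8 => h5 (by rw [← h.σσ κ, ← map_pow, h8, map_one])
    have h9 : κ ^ 3 = σ κ ^ 3 := mul_right_cancel₀ (right_ne_zero_of_mul (h7.trans_ne (by simp)))
      (by linear_combination h7 - h8)
    have h10 : κ ^ 3 = -1 := (mul_self_eq_one_iff.1 (by
      nth_rw 2 [h9]; rw [← mul_pow, hκ, one_pow])).resolve_left h5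
    exact ⟨h10, by rw [h10] at h7; simp only [hN]; linear_combination -h7⟩
  have c1 : ({i, j}ᶜ : Finset ι).card = 4 := by rw [Finset.card_compl, Finset.card_pair hij, hn]
  obtain ⟨a₁, a₂, a₃, a₄, n1, n2, n3, n4, n5, n6, c2⟩ := Finset.card_eq_four.1 c1
  obtain ⟨κ, hκ, κ1, κ2⟩ := h.exists_cube_ne hq
  have κ3 : κ ^ 3 ≠ 1 := fun h1 => mul_ne_zero (sub_ne_zero.2 κ1) κ2 (by linear_combination h1)
  have h1 := hb.B_sum (g.1 (b l)) (g.1 (b l))
  rw [B_isom, hb.self, ← Finset.sum_add_sum_compl {i, j}, c2, Finset.sum_pair hij] at h1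
  simp only [Finset.mem_insert, Finset.mem_singleton, n1, n2, n3, n4, n5, n6, or_self,
    not_false_eq_true, Finset.sum_insert, Finset.sum_singleton] at h1
  have h3 := (k a₁ (by simp [c2]) a₂ (by simp [c2]) n1 κ hκ κ3).2
  have h4 := (k a₃ (by simp [c2]) a₄ (by simp [c2]) n6 κ hκ κ3).2
  simp only [hN] at h3 h4
  have h5 : σ (D.B (b i) (g.1 (b l))) * D.B (b i) (g.1 (b l)) +
      σ (D.B (b j) (g.1 (b l))) * D.B (b j) (g.1 (b l)) = 0 :=
    mul_left_cancel₀ h2 (by linear_combination -2 * h1 - h3 - h4)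
  obtain ⟨s, e1, hs | hs⟩ := h.exists_root (x := -1) (by simp)
  · have h6 : s ^ 6 = 1 := by
      by_cases h7 : s ^ 3 = 1
      · linear_combination (s ^ 3 + 1) * h7
      · linear_combination (s ^ 3 - 1) * (k a₁ (by simp [c2]) a₂ (by simp [c2]) n1 s hs h7).1
    exact (h2 (by linear_combination -h6 - (s ^ 4 - s ^ 2 + 1) * e1)).elim
  have a1 := hv i
  have a2 := hv j
  have a3 := (map_ne_zero σ).2 a1
  have a4 := (map_ne_zero σ).2 a2
  refine ⟨s * (D.B (b i) (g.1 (b l)) / D.B (b j) (g.1 (b l))), ?_, ?_⟩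
  · rw [map_mul, map_div₀]; field_simp; linear_combination
      (D.B (b i) (g.1 (b l)) * σ (D.B (b i) (g.1 (b l)))) * hs - h5
  · rw [map_mul, h.σσ, mul_pow, ← e1]; field_simp; linear_combination h5

omit h2 hX in
theorem E_le_frame (hn : 10 ≤ Fintype.card ι ∨ Fintype.card ι = 6 ∧ q ≠ 2) (X : Subgroup D.isom)
    (hE : X ≤ D.E) (hX : D.E ⊓ frm D b ≤ X) (H : ¬ X ≤ frm D b) : D.E ≤ X := by
  by_contra hW
  by_cases h2 : (2 : F) = 0
  · rcases hn with hn | ⟨hn, hq⟩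
    · exact hW (hb.E_le_two h2 hE hX hn H)
    have hz : ∀ g ∈ X, g ∉ frm D b → ∀ l a, D.B (b a) (g.1 (b l)) ≠ 0 := fun g hg hg' l a h1 => by
      obtain ⟨κ, hκ, κ1, κ2⟩ := h.exists_cube_ne hq
      have := hb.pow_eq_one hq (by omega) hE hX hW hg hg' h1 hκ
      rw [hn] at this
      exact pow_ne_zero 2 (mul_ne_zero (sub_ne_zero.2 κ1) κ2) (by
        linear_combination this + (1 - κ ^ 3) * h2)
    exact H (hb.le_frm hq (by omega) hX hz (Or.inl ⟨hn, fun g hg hg' l i j => h.sqN_two h2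
      (h.norm_div (mul_ne_zero ((map_ne_zero σ).2 (hz g hg hg' l i)) (hz g hg hg' l j)))⟩))
  have hq : q ≠ 2 := by
    rintro rfl
    have := h.finite
    have := odd_card_iff.2 h2
    rw [h.card] at this; revert this; decide
  have hz := fun g => hb.one_zero hq (by omega) hE hX hW h2 (by omega) (g := g)
  exact H (hb.le_frm hq (by omega) hX hz (hn.symm.imp
    (fun h1 => ⟨h1.1, hb.six_sq hX h2 hq h1.1 hz⟩) (by omega)))

end ONB

end Cfsg.Lib.Forms
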