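import Cfsg.Agent.Lib.MaxU.C5U

/-! Subfield subgroups in dimension at least six: generalities. -/

set_option autoImplicit false

namespace Cfsg.Lib.Forms

open Module

variable {F V ι : Type*} [Field F] [AddCommGroup V] [Module F V] {σ : F →+* F} {K : Kind σ}

theorem not_mem_symm {x t : V} (hx : x ≠ 0) (ht : t ∉ F ∙ x) : x ∉ F ∙ t := by
  simpa using exchange_span (W := ⊥) (by simpa using hx) (by simpa using ht)

namespace Form

variable {D : Form K V} {X : Subgroup D.isom} [Fintype ι]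

variable (D) in
structure RatU (k : Subfield F) (b : Basis ι F V) (ζ : F) : Prop where
  nd : D.Nondeg
  ne : ζ ≠ 0
  B_mem : ∀ x ∈ rat k b, ∀ y ∈ rat k b, ζ * D.B x y ∈ k
  σ_mem : ∀ a ∈ k, σ a ∈ k
  η_mem : σ ζ / ζ ∈ k
  Q_mem : ∀ x ∈ rat k b, ∃ a, ζ * a ∈ k ∧ K.tr a = D.Q x
  sing : ∀ U, RatSub k b U → 3 ≤ finrank F U → ∃ e ∈ U, e ∈ rat k b ∧ e ≠ 0 ∧ D.Q e = 0
  prime : (finrank k F).Prime
  six : 6 ≤ finrank F V

variable [Finite F] [FiniteDimensional F V] {k : Subfield F} {b : Basis ι F V} {ζ : F}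

namespace RatU

variable (h : D.RatU k b ζ)
include h

theorem σB_mem {x y : V} (hx : x ∈ rat k b) (hy : y ∈ rat k b) : σ ζ * D.B x y ∈ k := by
  have := mul_mem h.η_mem (h.B_mem x hx y hy)
  rwa [← mul_assoc, div_mul_cancel₀ _ h.ne] at this

theorem σ_ne : σ ζ ≠ 0 := (map_ne_zero σ).2 h.ne

theorem B_pr {x : V} (hx : x ∈ rat k b) {T : F →+ F} (hT : KLin k T) (v : V) :
    ζ * D.B x (pr b T v) = T (ζ * D.B x v) :=
  RatFun.pr (φ := ζ • D.B x) (fun y hy => h.B_mem x hx y hy) hT v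

theorem perp {U : Submodule F V} (hU : RatSub k b U) : RatSub k b (D.perp U) := fun T hT v hv => by
  have : U ≤ D.perp (F ∙ pr b T v) := hU.le fun x hx hr => by
    have := h.B_pr hr hT v
    rw [hv x hx, mul_zero, map_zero, mul_eq_zero] at this
    exact D.mem_perp_span_singleton.2 (D.eq_zero_symm (this.resolve_left h.ne))
  exact D.le_perp_comm.1 this (self_mem_span _)

theorem exists_sing' {U : Submodule F V} (hU : RatSub k b U) (W : Submodule F V)
    (hn : 3 + finrank F ↥(U ⊓ W) ≤ finrank F U) : ∃ e ∈ U, e ∈ rat k b ∧ e ∉ W ∧ D.Q e = 0 := by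
  obtain ⟨U', h1, h2, h3, h4⟩ := hU.exists_compl W
  obtain ⟨e, he, h5, h6, h7⟩ := h.sing U' h2 (by omega)
  exact ⟨e, h1 he, h5, fun H => h6 (Submodule.disjoint_def.1 h3 e he H), h7⟩

theorem exists_sing {H : Submodule F V} (hH : RatSub k b H) (W : Submodule F V)
    (hn : finrank F H + finrank F W + 3 ≤ finrank F V) :
    ∃ e ∈ D.perp H, e ∈ rat k b ∧ e ∉ W ∧ D.Q e = 0 := by
  have := h.nd.finrank_perp H
  have := Submodule.finrank_mono (inf_le_right : D.perp H ⊓ W ≤ W)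
  exact h.exists_sing' (h.perp hH) W (by omega)

theorem exists_perp {H : Submodule F V} (hH : RatSub k b H) (W : Submodule F V)
    (hn : finrank F H + finrank F W < finrank F V) : ∃ y ∈ D.perp H, y ∈ rat k b ∧ y ∉ W :=
  (h.perp hH).exists_not_mem fun H' => by
    have := h.nd.finrank_perp H
    have := Submodule.finrank_mono H'
    omega

theorem exists_B {H : Submodule F V} (hH : RatSub k b H) {x : V} (hx : x ∉ H) :
    ∃ y ∈ D.perp H, y ∈ rat k b ∧ D.B y x ≠ 0 := by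
  obtain ⟨y, h1, h2, h3⟩ := (h.perp hH).exists_not_mem (W := D.perp (F ∙ x)) fun H =>
    hx (h.nd.perp_le_perp.1 H (self_mem_span x))
  exact ⟨y, h1, h2, fun H => h3 (D.mem_perp_span_singleton.2 (D.eq_zero_symm H))⟩

theorem exists_scale {x y : V} (hx : x ∈ rat k b) (hy : y ∈ rat k b) (H : D.B y x ≠ 0) {c : F}
    (hc : c ∈ k) : ∃ a ∈ k, ζ * D.B (a • y) x = c :=
  ⟨σ (c / (ζ * D.B y x)), h.σ_mem _ (div_mem hc (h.B_mem y hy x hx)), by
    have := h.ne
    rw [D.B_smul_left, K.σσ]; field_simp⟩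

theorem exists_B_eq {H : Submodule F V} (hH : RatSub k b H) {x : V} (hx : x ∉ H)
    (hr : x ∈ rat k b) {c : F} (hc : c ∈ k) : ∃ y ∈ D.perp H, y ∈ rat k b ∧ ζ * D.B y x = c := by
  obtain ⟨y, h1, h2, h3⟩ := h.exists_B hH hx
  obtain ⟨a, ha, h4⟩ := h.exists_scale hr h2 h3 hc
  exact ⟨_, Submodule.smul_mem _ _ h1, rat_smul ha h2, h4⟩

theorem exists_smul_sing {e w : V} (he : e ∈ rat k b) (hQ : D.Q e = 0) (hw : w ∈ rat k b)
    (H : D.B w e ≠ 0) : ∃ c ∈ k, D.Q (w + c • e) = 0 := by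
  obtain ⟨a, ha, h1⟩ := h.Q_mem w hw
  refine ⟨-(ζ * a) / (ζ * D.B w e), div_mem (neg_mem ha) (h.B_mem w hw e he), ?_⟩
  have := h.ne
  rw [D.Q_add_smul hQ, show -(ζ * a) / (ζ * D.B w e) * D.B w e = -a by field_simp, map_neg, h1,
    add_neg_cancel]

theorem exists_sing_B {H : Submodule F V} (hH : RatSub k b H) {x : V} (hx : x ∉ H)
    (hr : x ∈ rat k b) (hn : 2 * finrank F H + 4 ≤ finrank F V) :
    ∃ y ∈ D.perp H, y ∈ rat k b ∧ D.Q y = 0 ∧ ζ * D.B y x = 1 := by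
  have := finrank_sup_span_le H x
  obtain ⟨t, h1, h2, h3, h4⟩ := h.exists_sing (hH.sup (ratSub_span hr)) H (by omega)
  rw [mem_perp_sup_span] at h1
  obtain ⟨y, h5, h6, h7, h8⟩ : ∃ y ∈ D.perp H, y ∈ rat k b ∧ D.B y t ≠ 0 ∧ D.B y x ≠ 0 := by
    obtain ⟨y, a1, a2, a3⟩ := h.exists_B hH h3
    obtain ⟨y', b1, b2, b3⟩ := h.exists_B hH hx
    by_cases c1 : D.B y x = 0
    · by_cases c2 : D.B y' t = 0
      · exact ⟨y + y', add_mem a1 b1, add_mem a2 b2, by simpa [c2] using a3, by simpa [c1] using b3⟩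
      · exact ⟨y', b1, b2, c2, b3⟩
    · exact ⟨y, a1, a2, a3, c1⟩
  obtain ⟨c, hc, h9⟩ := h.exists_smul_sing h2 h4 h6 h7
  have h10 := add_mem h6 (rat_smul hc h2)
  obtain ⟨a, ha, h11⟩ := h.exists_scale hr h10
    (by simpa [D.eq_zero_symm h1.2] using h8) (one_mem k)
  exact ⟨_, Submodule.smul_mem _ _ (add_mem h5 (Submodule.smul_mem _ _ h1.1)), rat_smul ha h10,
    D.Q_smul_of_Q h9 a, h11⟩

theorem induct {e : V} (he : e ∈ rat k b) (hQ : D.Q e = 0) {P : V → Prop}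
    (H : ∀ x ∈ rat k b, D.B e x = 0 → D.Q x = 0 → P x) (hs : ∀ x y, P x → P y → P (x - y))
    {x : V} (hx : x ∈ rat k b) (hex : D.B e x = 0) : P x := by
  by_cases h1 : x ∈ F ∙ e
  · obtain ⟨c, rfl⟩ := Submodule.mem_span_singleton.1 h1
    exact H _ hx hex (D.Q_smul_of_Q hQ c)
  have := finrank_span_singleton_le (F := F) e
  have := h.six
  obtain ⟨t, h2, h3, h4, h5⟩ := h.exists_sing_B (ratSub_span he) h1 hx (by omega)
  rw [mem_perp_span_singleton] at h2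
  obtain ⟨c, hc, h6⟩ := h.exists_smul_sing h3 h4 hx
    (D.ne_zero_symm fun H => by simp [H] at h5)
  have := hs _ _ (H _ (add_mem hx (rat_smul hc h3)) (by simp [hex, h2]) h6)
    (H _ (rat_smul hc h3) (by simp [h2]) (D.Q_smul_of_Q h4 c))
  simpa using this

theorem ratMap_eich {e z : V} {d : F} (he : e ∈ rat k b) (hz : z ∈ rat k b) (hd : d / ζ ∈ k)
    (hE : D.IsEich e (ζ • z) d) : RatMap k b (D.eich e _ d hE).1 := fun x hx => by
  have h1 := mul_mem (K.ε_mem k) (h.B_mem e he x hx)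
  have := h.ne
  have h2 := sub_mem (add_mem hx (rat_smul (h.σB_mem hz hx) he))
    (rat_smul h1 (add_mem hz (rat_smul hd he)))
  convert h2 using 1
  rw [eich_apply, D.B_smul_left]
  match_scalars <;> field_simp

theorem exists_eich {e z : V} (he : e ∈ rat k b) (hQ : D.Q e = 0) (hz : z ∈ rat k b)
    (H : D.B e z = 0) : ∃ d hE, RatMap k b (D.eich e (ζ • z) d hE).1 := by
  obtain ⟨a, ha, h1⟩ := h.Q_mem z hz
  refine ⟨_, IsEich.smul ζ ⟨hQ, H, h1⟩, h.ratMap_eich he hz ?_ _⟩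
  convert mul_mem h.η_mem ha using 1
  have := h.ne
  field_simp

theorem isEich {e z : V} (hQ : D.Q e = 0) (hz : D.Q z = 0) (H : D.B e z = 0) :
    D.IsEich e (ζ • z) 0 := ⟨hQ, by simp [H], by simp [D.Q_smul, hz]⟩

theorem exists_shift {e t : V} (he : e ∈ rat k b) (ht : t ∈ rat k b) (hQ : D.Q t = 0)
    (H : D.B t e = 0) (h1 : e ∉ F ∙ t) {c : F} (hc : c ∈ k) :
    ∃ g ∈ D.E, RatMap k b g.1 ∧ g.1 e = e + c • t ∧ g.1 t = t := by
  obtain ⟨y, h2, h3, h4⟩ := h.exists_B_eq (ratSub_span ht) h1 he (div_mem hc h.η_mem)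
  obtain ⟨d, hE, h5⟩ := h.exists_eich ht hQ h3 (D.mem_perp_span_singleton.1 h2)
  refine ⟨_, eich_mem_E _ _ _ hE, h5, ?_, D.eich_apply_self _⟩
  rw [D.eich_apply_of_perp _ H, D.B_smul_left]
  have := h.ne
  have := h.σ_ne
  congr 2
  field_simp at h4 ⊢
  exact h4

theorem exists_link {e e' : V} (he : e ∈ rat k b) (he' : e' ∈ rat k b) (hQ : D.Q e = 0)
    (hQ' : D.Q e' = 0) (h0 : e ≠ 0) (h0' : e' ≠ 0) : ∃ t ∈ rat k b, D.Q t = 0 ∧ D.B e t = 0 ∧
      D.B e' t = 0 ∧ t ∉ F ∙ e ∧ t ∉ F ∙ e' := by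
  have := finrank_two_le (F := F) e e'
  have := finrank_span_singleton_le (F := F) e
  have := h.six
  by_cases h1 : D.B e e' = 0
  · by_cases h2 : e' ∈ F ∙ e
    · obtain ⟨t, a1, a2, a3, a4⟩ := h.exists_sing (ratSub_span he) (F ∙ e) (by omega)
      obtain ⟨c, rfl⟩ := Submodule.mem_span_singleton.1 h2
      rw [mem_perp_span_singleton] at a1
      exact ⟨t, a2, a4, a1, by simp [a1], a3, fun H => a3
        ((Submodule.span_singleton_le_iff_mem _ _).2 h2 H)⟩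
    · refine ⟨e + e', add_mem he he', by rw [D.Q_add, hQ, hQ', h1]; simp, by
        simp [h1, D.B_self_of_Q hQ], by simp [D.eq_zero_symm h1, D.B_self_of_Q hQ'],
        fun H => h2 (by simpa using sub_mem H (self_mem_span e)), fun H => not_mem_symm h0 h2
          (by simpa using sub_mem H (self_mem_span e'))⟩
  obtain ⟨t, a1, a2, a3, a4⟩ := h.exists_sing ((ratSub_span he).sup (ratSub_span he')) ⊥
    (by simp; omega)
  rw [mem_perp_sup_span, mem_perp_span_singleton] at a1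
  refine ⟨t, a2, a4, a1.1, a1.2, fun H => ?_, fun H => ?_⟩ <;>
    obtain ⟨c, rfl⟩ := Submodule.mem_span_singleton.1 H
  · exact a3 (by rw [show c = 0 by simpa [D.ne_zero_symm h1] using a1.2]; simp)
  · exact a3 (by rw [show c = 0 by simpa [h1] using a1.1]; simp)

theorem exists_map {e e' : V} (he : e ∈ rat k b) (he' : e' ∈ rat k b) (hQ : D.Q e = 0)
    (hQ' : D.Q e' = 0) (h0 : e ≠ 0) (h0' : e' ≠ 0) : ∃ g ∈ D.E, RatMap k b g.1 ∧ g.1 e = e' := by
  have key : ∀ {e t : V}, e ∈ rat k b → t ∈ rat k b → D.Q e = 0 → D.Q t = 0 → D.B t e = 0 →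
      e ∉ F ∙ t → t ∉ F ∙ e → ∃ g ∈ D.E, RatMap k b g.1 ∧ g.1 e = t := by
    intro e t he ht h1 h2 h3 h4 h5
    obtain ⟨g, a1, a2, a3, -⟩ := h.exists_shift he ht h2 h3 h4 (one_mem k)
    obtain ⟨g', b1, b2, b3, b4⟩ := h.exists_shift ht he h1 (D.eq_zero_symm h3) h5
      (neg_mem (one_mem k))
    exact ⟨g' * g, mul_mem b1 a1, fun x hx => b2 _ (a2 x hx), by
      simp [isom_mul_apply, a3, b3, b4]⟩
  obtain ⟨t, h2, h4, h1, h3, h5, h6⟩ := h.exists_link he he' hQ hQ' h0 h0'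
  obtain ⟨g, a1, a2, a3⟩ := key he h2 hQ h4 (D.eq_zero_symm h1) (not_mem_symm h0 h5) h5
  obtain ⟨g', b1, b2, b3⟩ := key h2 he' h4 hQ' h3 h6 (not_mem_symm h0' h6)
  exact ⟨g' * g, mul_mem b1 a1, fun x hx => b2 _ (a2 x hx), by simp [isom_mul_apply, a3, b3]⟩

/-- Two independent orthogonal singular rational vectors. -/
theorem exists_pair : ∃ e ∈ rat k b, ∃ t ∈ rat k b, D.Q e = 0 ∧ D.Q t = 0 ∧ D.B e t = 0 ∧
    e ∉ F ∙ t ∧ t ∉ F ∙ e := by
  have := h.six
  obtain ⟨e, -, h1, h2, h3⟩ := h.exists_sing ratSub_bot ⊥ (by simp; omega)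
  have := finrank_span_singleton_le (F := F) e
  obtain ⟨t, h4, h5, h6, h7⟩ := h.exists_sing (ratSub_span h1) (F ∙ e) (by omega)
  exact ⟨e, h1, t, h5, h3, h7, D.mem_perp_span_singleton.1 h4, by
    simpa using exchange_span h2 (by simpa using h6), h6⟩

theorem not_E_le : ¬ D.E ≤ D.ratS k b := fun H => by
  obtain ⟨e, he, t, ht, h1, h2, h3, h4, h5⟩ := h.exists_pair
  obtain ⟨a, ha⟩ := exists_not_mem_of_prime h.prime
  obtain ⟨z, hz, h6⟩ := h.nd.exists_perp_B_eq h4 a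
  obtain ⟨d, hE⟩ := exists_isEich h2 (D.mem_perp_span_singleton.1 hz)
  obtain ⟨c, hc, h7⟩ := H (eich_mem_E _ _ _ hE)
  have ht0 : t ≠ 0 := by rintro rfl; simp at h5
  have h8 : c ∈ k := mem_of_smul_rat ht ht0 (by simpa [D.eich_apply_self] using h7 t ht)
  have h9 := sub_mem (h7 e he) (rat_smul h8 he)
  simp only [Subgroup.subtype_apply, D.eich_apply_of_perp _ (D.eq_zero_symm h3), h6, smul_add,
    add_sub_cancel_left, smul_smul] at h9
  exact ha (by simpa [hc] using mul_mem (inv_mem h8) (mem_of_smul_rat ht ht0 h9))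

variable (hX : D.E ⊓ D.ratS k b ≤ X)
include hX

open RatF (mem par)

theorem mem_zSet {e z : V} (he : e ∈ rat k b) (hQ : D.Q e = 0) (hz : z ∈ rat k b)
    (H : D.B e z = 0) : ζ • z ∈ zSet X e hQ := by
  obtain ⟨d, hE, h1⟩ := h.exists_eich he hQ hz H
  exact ⟨d, hE, mem hX (eich_mem_E _ _ _ hE) h1⟩

variable (hS : ∀ {e z y t : V}, e ∈ rat k b → e ≠ 0 → ∀ {hQ : D.Q e = 0}, z ∈ zSet X e hQ → y ∈ rat k b →
  t ∈ rat k b → D.Q y = 0 → D.Q t = 0 → D.B e y = 0 → D.B e t = 0 → (D.B y z * ζ) • t ∈ zSet X e hQ)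

omit hX in
include hS in
theorem step3 {e z y t : V} (he : e ∈ rat k b) (h0 : e ≠ 0) {hQ : D.Q e = 0} (hz : z ∈ zSet X e hQ)
    (hy : y ∈ rat k b) (ht : t ∈ rat k b) (h3 : D.B e y = 0) (h4 : D.B e t = 0) :
    (D.B y z * ζ) • t ∈ zSet X e hQ :=
  h.induct he hQ (P := fun y => (D.B y z * ζ) • t ∈ zSet X e hQ)
    (fun y hy h3 h1 => h.induct he hQ (P := fun t => (D.B y z * ζ) • t ∈ zSet X e hQ)
      (fun t ht h4 h2 => hS he h0 hz hy ht h1 h2 h3 h4)
      (fun _ _ a c => by simpa [smul_sub] using sub_mem a c) ht h4)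
    (fun _ _ a c => by simpa [sub_mul, sub_smul] using sub_mem a c) hy h3

include hS in
theorem B_mem_par {e z y : V} (he : e ∈ rat k b) (h0 : e ≠ 0) {hQ : D.Q e = 0}
    (hz : z ∈ zSet X e hQ) (hy : y ∈ rat k b) (h3 : D.B e y = 0) : D.B y z ∈ par X k b ζ := by
  intro e' he' h0' hQ' t ht H
  obtain ⟨g, h1, h2, rfl⟩ := h.exists_map he he' hQ hQ' h0 h0'
  have h4 : (g⁻¹).1 t ∈ rat k b := by
    simpa using RatMap.inv (g := g.1) one_ne_zero (by simpa using h2) t ht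
  have := conj_mem_zSet (h.step3 hS he h0 hz hy h4 h3 (by rwa [← B_isom_left])) (mem hX h1 h2)
  simpa using this

theorem mem_par {a : F} (ha : a ∈ k) : a ∈ par X k b ζ := fun e he _ hQ t ht H => by
  have := h.mem_zSet hX he hQ (rat_smul ha ht) (by simp [H])
  rwa [smul_smul, mul_comm] at this

include hS in
theorem mul_mem_par {a a' : F} (ha : a ∈ par X k b ζ) (ha' : a' ∈ par X k b ζ) :
    a * σ a' ∈ par X k b ζ := by
  obtain ⟨e, he, t, ht, h1, h2, h3, h4, h5⟩ := h.exists_pair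
  have := finrank_two_le (F := F) e t
  have := h.six
  have hH := (ratSub_span he).sup (ratSub_span ht)
  obtain ⟨x, a1, a2, a3⟩ := h.exists_perp hH ((F ∙ e) ⊔ F ∙ t) (by omega)
  obtain ⟨y, b1, b2, b3⟩ := h.exists_B_eq hH a3 a2 (inv_mem h.η_mem)
  obtain ⟨y', c1, c2, c3⟩ := h.exists_B_eq (ratSub_span he) h5 ht (one_mem k)
  simp only [mem_perp_sup_span, mem_perp_span_singleton] at a1 b1 c1
  have he0 : e ≠ 0 := by rintro rfl; simp at h4
  obtain ⟨d, hE, hm⟩ := ha' t ht (by rintro rfl; simp at h5) h2 y b2 b1.2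
  have d1 := sub_mem_zSet (ha e he he0 h1 x a2 a1.1) hm
    (D.eich_apply_of_perp_perp _ (D.eq_zero_symm h3) (by simp [D.eq_zero_symm b1.1]))
  rw [D.eich_apply_of_perp _ (by simp [a1.2]), add_sub_cancel_left] at d1
  convert h.B_mem_par hX hS he he0 d1 c2 c1 using 1
  have := h.ne
  have := h.σ_ne
  simp only [D.B_smul_left, D.B_smul_right, map_mul]
  field_simp at b3
  linear_combination (-a * σ a' * ζ * D.B y' t) * b3 - a * σ a' * c3

include hS in
/-- Either all Eichler transformations with a rational centre are rational, or `X ≥ E`. -/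
theorem dichotomy (hC : K.Comm) :
    (∀ e ∈ rat k b, e ≠ 0 → ∀ hQ : D.Q e = 0, ∀ z ∈ zSet X e hQ,
      ∃ x ∈ rat k b, ∃ c : F, z = ζ • x + c • e) ∨ D.E ≤ X := by
  let A : Subring F :=
    { par X k b ζ with
      one_mem' := h.mem_par hX (one_mem k)
      mul_mem' := fun {a a'} ha ha' => by
        have := h.mul_mem_par hX hS ha (h.mul_mem_par hX hS (h.mem_par hX (one_mem k)) ha')
        rwa [one_mul, K.σσ] at this }
  have hζ := h.ne
  have := h.six
  rcases subring_prime h.prime A fun a => h.mem_par hX with hA | hA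
  · refine Or.inl fun e he h0 hQ z hz => ?_
    obtain ⟨T, h1, h2, h3⟩ := exists_proj k
    have : D.perp (F ∙ e) ≤ D.perp (F ∙ (z - ζ • pr b T (ζ⁻¹ • z))) :=
      (h.perp (ratSub_span he)).le fun y hy hr => by
        have h4 := h.B_pr hr h1 (ζ⁻¹ • z)
        rw [D.B_smul_right, mul_inv_cancel_left₀ hζ,
          h3 _ (hA _ (h.B_mem_par hX hS he h0 hz hr (D.mem_perp_span_singleton.1 hy)))] at h4
        exact D.mem_perp_span_singleton.2 (D.eq_zero_symm (by simp [h4]))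
    obtain ⟨c, hc⟩ := Submodule.mem_span_singleton.1 (h.nd.perp_le_perp.1 this (self_mem_span _))
    exact ⟨_, pr_mem h2 _, c, by rw [hc]; abel⟩
  right
  have hZ : ∀ e ∈ rat k b, e ≠ 0 → ∀ hQ : D.Q e = 0, ∀ z, D.B e z = 0 → z ∈ zSet X e hQ := by
    intro e he h0 hQ z hz
    let W : Submodule F V :=
      { carrier := {z | ∀ c : F, c • z ∈ zSet X e hQ}
        add_mem' := fun hx hy c => by rw [smul_add]; exact add_mem (hx c) (hy c)
        zero_mem' := by simp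
        smul_mem' := fun a x hx c => by rw [smul_smul]; exact hx _ }
    have : D.perp (F ∙ e) ≤ W := (h.perp (ratSub_span he)).le fun t ht hr c => by
      simpa [hζ] using hA (c / ζ) e he h0 hQ t hr (D.mem_perp_span_singleton.1 ht)
    simpa using this (D.mem_perp_span_singleton.2 hz) 1
  have hAt : ∀ e ∈ rat k b, e ≠ 0 → ∀ hQ : D.Q e = 0, D.At X ⊤ e := by
    intro e he h0 hQ
    have := finrank_span_singleton_le (F := F) e
    obtain ⟨t, a1, a2, a3, a4⟩ := h.exists_sing (ratSub_span he) (F ∙ e) (by omega)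
    refine at_of_zSet (he := hQ) ?_ fun z _ => hZ e he h0 hQ z
    refine at_bot_of_zSet hC (he := hQ) fun a => ?_
    obtain ⟨z, h1, h2⟩ := h.nd.exists_perp_B_eq a3 a
    exact ⟨z, hZ e he h0 hQ z (D.mem_perp_span_singleton.1 h1), t,
      hZ e he h0 hQ t (D.mem_perp_span_singleton.1 a1), h2⟩
  obtain ⟨e, -, h1, h2, h3⟩ := h.exists_sing ratSub_bot ⊥ (by simp; omega)
  obtain ⟨f, -, h4, h5, h6⟩ := h.exists_sing_B ratSub_bot h2 h1 (by simp; omega)
  have h7 : D.B f e ≠ 0 := fun H => by simp [H] at h6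
  exact At.E_le h.nd (hAt f h4 (by rintro rfl; simp at h7) h5) (hAt e h1 (by simpa using h2) h3)
    h5 h3 h7

omit hX in
/-- An isometry mapping rational singular points to rational points is rational. -/
theorem mem_of_points {g : D.isom}
    (H : ∀ y ∈ rat k b, D.Q y = 0 → y ≠ 0 → ∃ c : F, c ≠ 0 ∧ ∃ y' ∈ rat k b, g.1 y = c • y') :
    g ∈ D.ratS k b := by
  have key : ∀ {e t : V} {c : F}, e ∈ rat k b → t ∈ rat k b → D.Q e = 0 → D.Q t = 0 → D.B e t = 0 →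
      e ∉ F ∙ t → t ≠ 0 → c ≠ 0 → c • g.1 e ∈ rat k b → c • g.1 t ∈ rat k b := by
    intro e t c he ht h1 h2 h3 h4 t0 c0 h5
    obtain ⟨c₂, a1, t', a2, a3⟩ := H t ht h2 t0
    obtain ⟨c₃, -, s, b2, b3⟩ := H (e + t) (add_mem he ht) (by rw [D.Q_add, h1, h2, h3]; simp)
      fun H => h4 (by rw [eq_neg_of_add_eq_zero_left H]; exact neg_mem (self_mem_span t))
    obtain ⟨y, d1, d2, d3⟩ := h.exists_B_eq (ratSub_span a2) (x := c • g.1 e) (fun H => by
      obtain ⟨a, ha⟩ := Submodule.mem_span_singleton.1 H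
      exact h4 (Submodule.mem_span_singleton.2 ⟨c⁻¹ * a / c₂, g.1.injective (by
        rw [map_smul, a3, smul_smul, div_mul_cancel₀ _ a1, mul_smul, ha, inv_smul_smul₀ c0])⟩))
      h5 (one_mem k)
    rw [mem_perp_span_singleton] at d1
    have d4 := congrArg (fun v => ζ * D.B y (c • v)) b3
    simp only [map_add, smul_add, a3, map_smul, smul_eq_mul, D.eq_zero_symm d1] at d4 d3
    have d5 : c * c₃ = (ζ * D.B y s)⁻¹ :=
      eq_inv_of_mul_eq_one_left (by linear_combination d3 - d4)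
    have := sub_mem (rat_smul (d5 ▸ inv_mem (h.B_mem y d2 s b2)) b2) h5
    rwa [mul_smul, ← b3, map_add, smul_add, add_sub_cancel_left] at this
  have := h.six
  obtain ⟨e, -, h1, h2, h3⟩ := h.exists_sing ratSub_bot ⊥ (by simp; omega)
  replace h2 : e ≠ 0 := by simpa using h2
  obtain ⟨c, c0, e', h4, h5⟩ := H e h1 h3 h2
  have h6 : ∀ y ∈ rat k b, D.Q y = 0 → c⁻¹ • g.1 y ∈ rat k b := fun y hy y1 => by
    rcases eq_or_ne y 0 with rfl | y0
    · simp
    obtain ⟨t, a1, a2, a3, a4, a5, a6⟩ := h.exists_link h1 hy h3 y1 h2 y0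
    exact key a1 hy a2 y1 (D.eq_zero_symm a4) a6 y0 (inv_ne_zero c0) (key h1 a1 h3 a2 a3
      (not_mem_symm h2 a5) (by rintro rfl; simp at a5) (inv_ne_zero c0) (by simpa [h5, c0] using h4))
  refine ⟨c⁻¹, inv_ne_zero c0, fun x hx => ?_⟩
  by_cases h7 : D.B x e = 0
  · exact h.induct h1 h3 (P := fun x => c⁻¹ • g.1 x ∈ rat k b) (fun y hy _ => h6 y hy)
      (fun _ _ a a' => by simpa [smul_sub] using sub_mem a a') hx (D.eq_zero_symm h7)
  obtain ⟨a, ha, h8⟩ := h.exists_smul_sing h1 h3 hx h7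
  simpa using sub_mem (h6 _ (add_mem hx (rat_smul ha h1)) h8)
    (h6 _ (rat_smul ha h1) (D.Q_smul_of_Q h3 a))

end RatU

end Form

end Cfsg.Lib.Forms
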