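import Cfsg.Agent.Lib.MaxU.R6T

/-! Orthogonal subfield subgroups of unitary groups (dimension at least six). -/

set_option autoImplicit false

namespace Cfsg.Lib.Forms

open Module Form Herm

variable {F V ι : Type*} [Field F] [AddCommGroup V] [Module F V] [Fintype ι] [Finite F]
  [FiniteDimensional F V] {k : Subfield F} {b : Basis ι F V} {ω : F} {σ : F →+* F} {q : ℕ}
  {hc : IsConj σ q} {D : Form hc.kind V} {X : Subgroup D.isom}

variable (D) in
/-- A rational structure of orthogonal type. -/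
structure RatO (k : Subfield F) (b : Basis ι F V) (ω : F) : Prop extends D.RatU k b 1 where
  fix : ∀ a, a ∈ k ↔ σ a = a
  two : (2 : F) ≠ 0
  ω_ne : ω ≠ 0
  tr : σ ω = -ω

namespace RatO

variable (h : RatO D k b ω)
include h

omit [Finite F] [FiniteDimensional F V] in
theorem decomp {U : Submodule F V} (hU : RatSub k b U) {v : V} (hv : v ∈ U) :
    ∃ v₀ ∈ U, ∃ v₁ ∈ U, v₀ ∈ rat k b ∧ v₁ ∈ rat k b ∧ v = v₀ + ω • v₁ := by
  have := h.two
  have := h.ω_ne
  let T₀ : F →+ F := AddMonoidHom.mk' (fun a => (a + σ a) / 2) fun x y => by simp; ring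
  let T₁ : F →+ F := AddMonoidHom.mk' (fun a => (a - σ a) / (2 * ω)) fun x y => by simp; ring
  refine ⟨_, hU T₀ (fun a ha x => by simp [T₀, (h.fix a).1 ha]; ring) v hv,
    _, hU T₁ (fun a ha x => by simp [T₁, (h.fix a).1 ha]; ring) v hv,
    pr_mem (fun a => (h.fix _).2 ?_) v, pr_mem (fun a => (h.fix _).2 ?_) v, b.repr.injective ?_⟩
  · simp [T₀, hc.σσ, add_comm, map_ofNat]
  · simp only [T₁, AddMonoidHom.mk'_apply, map_div₀, map_sub, map_mul, hc.σσ, h.tr, map_ofNat]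
    field_simp; ring
  · ext i
    simp [T₀, T₁]
    field_simp; ring

omit [Finite F] [FiniteDimensional F V] in
theorem hB {x y : V} (hx : x ∈ rat k b) (hy : y ∈ rat k b) : D.B x y ∈ k := by
  simpa using h.B_mem x hx y hy

variable (hX : D.E ⊓ D.ratS k b ≤ X)
include hX

theorem exists_eich' {e z : V} (he : e ∈ rat k b) (hQ : D.Q e = 0) (hz : z ∈ rat k b)
    (H : D.B e z = 0) : ∃ d ∈ k, ∃ hE : D.IsEich e z d, D.eich e z d hE ∈ X := by
  have h1 : D.Q z / 2 ∈ k := div_mem (herm_Q D z ▸ h.hB hz hz) (ofNat_mem k 2)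
  have := h.two
  refine ⟨_, h1, ⟨hQ, H, by rw [hermKind_tr, (h.fix _).1 h1]; field_simp; ring⟩,
    RatF.mem hX (eich_mem_E _ _ _ _) fun x hx => ?_⟩
  rw [eich_apply, hermKind_ε, one_mul]
  exact sub_mem (add_mem hx (rat_smul (h.hB hz hx) he))
    (rat_smul (h.hB he hx) (add_mem hz (rat_smul h1 he)))

theorem step {e z y t : V} (he : e ∈ rat k b) {hQ : D.Q e = 0} (hz : z ∈ zSet X e hQ)
    (hy : y ∈ rat k b) (ht : t ∈ rat k b) (h2 : D.Q t = 0) (h3 : D.B e y = 0)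
    (h4 : D.B e t = 0) : (D.B y z * 1) • t ∈ zSet X e hQ := by
  have hn := h.six
  have R : ∀ {v}, v ∈ rat k b → D.B e v = 0 → v ∈ zSet X e hQ := fun hv H => by
    simpa using h.mem_zSet hX he hQ hv H
  obtain ⟨z₀, a1, z₁, a2, a3, a4, rfl⟩ := h.decomp (h.perp (ratSub_span he))
    (D.mem_perp_span_singleton.2 (perp_of_mem_zSet hz))
  rw [mem_perp_span_singleton] at a1 a2
  have a5 : ω • z₁ ∈ zSet X e hQ := by simpa using sub_mem hz (R a3 a1)
  rw [mul_one, D.B_add_right, add_smul, D.B_smul_right, mul_smul]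
  refine add_mem (R (rat_smul (h.hB hy a3) ht) (by simp [h4])) ?_
  by_cases a6 : z₁ ∈ F ∙ e
  · obtain ⟨c, rfl⟩ := Submodule.mem_span_singleton.1 a6
    simp [D.eq_zero_symm h3]
  have E : ∀ {w s v}, w ∈ rat k b → D.Q w = 0 → D.B e w = 0 → s ∈ rat k b → D.B e s = 0 →
      D.B w s = 0 → ∃ d ∈ k, (ω • v ∈ zSet X e hQ →
        ω • (D.B s v • w - D.B w v • (s + d • w)) ∈ zSet X e hQ) := fun {w s v} hw w1 w2 hs s1 s2 => by
    obtain ⟨d, hd, hE, hm⟩ := h.exists_eich' hX hw w1 hs s2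
    refine ⟨d, hd, fun H => ?_⟩
    convert sub_mem_zSet H hm (eich_apply_of_perp_perp _ _ (D.eq_zero_symm w2)
      (D.eq_zero_symm s1)) using 1
    simp only [eich_apply, hermKind_ε, D.B_smul_right]
    module
  have A : ∀ {v t}, v ∈ rat k b → ω • v ∈ zSet X e hQ → t ∈ rat k b → D.Q t = 0 → D.B e t = 0 →
      D.B t v = 0 → v ∉ (F ∙ e) ⊔ F ∙ t → ω • t ∈ zSet X e hQ := fun {v t} hv H ht t1 t2 t3 t4 => by
    obtain ⟨s, b1, b2, b3⟩ := h.exists_B_eq ((ratSub_span he).sup (ratSub_span ht)) t4 hv (one_mem k)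
    rw [mem_perp_sup_span, mem_perp_span_singleton] at b1
    rw [one_mul] at b3
    obtain ⟨d, -, H'⟩ := E (v := v) ht t1 t2 b2 b1.1 b1.2
    simpa [b3, t3] using H' H
  have B : ∀ {v t}, v ∈ rat k b → ω • v ∈ zSet X e hQ → t ∈ rat k b → D.Q t = 0 → D.B e t = 0 →
      D.B t v ≠ 0 → ω • t ∈ zSet X e hQ := fun {v t} hv H ht t1 t2 t3 => by
    have := finrank_two_le (F := F) e t
    obtain ⟨s, b1, b2, b3⟩ := h.exists_perp ((ratSub_span he).sup (ratSub_span ht))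
      ((F ∙ e) ⊔ F ∙ t) (by omega)
    rw [mem_perp_sup_span, mem_perp_span_singleton] at b1
    obtain ⟨d, hd, H'⟩ := E (v := v) ht t1 t2 b2 b1.1 b1.2
    refine A (sub_mem (rat_smul (h.hB b2 hv) ht) (rat_smul (h.hB ht hv) (add_mem b2 (rat_smul hd ht))))
      (H' H) ht t1 t2 (by simp [b1.2, D.B_self_of_Q t1]) fun H1 => b3 ?_
    have H2 : ∀ c : F, c • t ∈ (F ∙ e) ⊔ F ∙ t := fun c =>
      Submodule.mem_sup_right (Submodule.smul_mem _ _ (self_mem_span t))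
    have H3 := sub_mem (H2 (D.B s v)) H1
    rw [sub_sub_cancel, Submodule.smul_mem_iff _ t3] at H3
    simpa using sub_mem H3 (H2 d)
  have C : ∀ {t}, t ∈ rat k b → D.Q t = 0 → D.B e t = 0 → ω • t ∈ zSet X e hQ := fun {t} ht t1 t2 => by
    by_cases c1 : t ∈ F ∙ e
    · obtain ⟨c, rfl⟩ := Submodule.mem_span_singleton.1 c1
      rw [smul_smul]; exact smul_mem_zSet hQ _
    by_cases c2 : D.B t z₁ = 0
    swap
    · exact B a4 a5 ht t1 t2 c2
    by_cases c3 : z₁ ∈ (F ∙ e) ⊔ F ∙ t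
    swap
    · exact A a4 a5 ht t1 t2 c2 c3
    have := finrank_span_singleton_le (F := F) e
    obtain ⟨s, b1, b2, b3, b4⟩ := h.exists_sing_B (ratSub_span he) c1 ht (by omega)
    rw [mem_perp_span_singleton] at b1
    rw [one_mul] at b4
    refine B b2 (B a4 a5 b2 b3 b1 fun H => a6 ?_) ht t1 t2 (D.ne_zero_symm (by simp [b4]))
    obtain ⟨_, d1, _, d2, rfl⟩ := Submodule.mem_sup.1 c3
    obtain ⟨r, rfl⟩ := Submodule.mem_span_singleton.1 d1
    obtain ⟨r', rfl⟩ := Submodule.mem_span_singleton.1 d2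
    simpa [show r' = 0 by simpa [D.eq_zero_symm b1, b4] using H] using d1
  exact C (rat_smul (h.hB hy a4) ht) (D.Q_smul_of_Q h2 _) (by simp [h4])

variable (hZ : ∀ e ∈ rat k b, e ≠ 0 → ∀ hQ : D.Q e = 0, ∀ z ∈ zSet X e hQ,
  ∃ x ∈ rat k b, ∃ c : F, z = (1 : F) • x + c • e)
include hZ

theorem star {g : D.isom} (hg : g ∈ X) {e z u : V} (he : e ∈ rat k b) (hQ : D.Q e = 0)
    (hz : z ∈ rat k b) (h1 : D.B e z = 0) (hu : u ∈ rat k b) (u1 : D.Q u = 0) (u0 : u ≠ 0)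
    (h2 : D.B u (g.1 e) = 0) (h3 : D.B u (g.1 z) = 0) : ∃ d, σ d = d ∧ ∀ v ∈ rat k b, D.B u v = 0 →
      ∀ w ∈ rat k b, D.B u w = 0 →
        σ (D.B v (g.1 z)) * D.B w (g.1 e) - σ (D.B v (g.1 e)) * (D.B w (g.1 z) + d * D.B w (g.1 e)) =
        D.B v (g.1 z) * σ (D.B w (g.1 e)) -
          D.B v (g.1 e) * (σ (D.B w (g.1 z)) + d * σ (D.B w (g.1 e))) := by
  obtain ⟨d, hd, hE, hm⟩ := h.exists_eich' hX he hQ hz h1
  refine ⟨d, (h.fix d).1 hd, fun v hv v1 w hw w1 => ?_⟩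
  have h4 := mul_mem (mul_mem hg hm) (inv_mem hg)
  rw [conj_eich] at h4
  obtain ⟨r, hr, c, h5⟩ := hZ u hu u0 u1 _ (sub_mem_zSet (h.mem_zSet hX hu u1 hv v1) h4
    (eich_apply_of_perp_perp _ _ (D.eq_zero_symm h2) (D.eq_zero_symm h3)))
  have h6 := congrArg (D.B w) h5
  simp only [one_smul, eich_apply, hermKind_ε, map_sub, map_add, map_smul, smul_eq_mul, one_mul,
    D.eq_zero_symm w1, mul_zero, add_zero, B_symm D v (g.1 z), B_symm D v (g.1 e)] at h6
  have h7 := (h.fix _).1 (h.hB hw hr)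
  rw [← h6] at h7
  simp only [map_sub, map_add, map_mul, hc.σσ, (h.fix d).1 hd, (h.fix _).1 (h.hB hw hv)] at h7
  linear_combination -h7

theorem point {g : D.isom} (hg : g ∈ X) {e : V} (he : e ∈ rat k b) (hQ : D.Q e = 0) (h0 : e ≠ 0) :
    ∃ c : F, c ≠ 0 ∧ ∃ x' ∈ rat k b, g.1 e = c • x' := by
  have hn := h.six
  have h2 := h.two
  have ω0 := h.ω_ne
  have x0 := g.1.map_ne_zero_iff.2 h0
  obtain ⟨a, -, a', -, a1, a2, a3⟩ := h.decomp ratSub_top (Submodule.mem_top (x := g.1 e))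
  by_cases a4 : a ∈ F ∙ a'
  · obtain ⟨c, rfl⟩ := Submodule.mem_span_singleton.1 a4
    rw [← add_smul] at a3
    exact ⟨_, left_ne_zero_of_smul (a3 ▸ x0), a', a2, a3⟩
  by_cases a5 : a' ∈ F ∙ a
  · obtain ⟨c, rfl⟩ := Submodule.mem_span_singleton.1 a5
    have a3' : g.1 e = (1 + ω * c) • a := by rw [a3]; module
    exact ⟨_, left_ne_zero_of_smul (a3' ▸ x0), a, a1, a3'⟩
  exfalso
  have ex : ∀ (u : V) (W : Submodule F V), finrank F W ≤ 2 →
      ∃ z ∈ rat k b, D.B e z = 0 ∧ D.B u (g.1 z) = 0 ∧ g.1 z ∉ W := fun u W hW => by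
    obtain ⟨p, -, p', -, p1, p2, p3⟩ := h.decomp ratSub_top (Submodule.mem_top (x := (g⁻¹).1 u))
    have := finrank_three_le (F := F) e p p'
    obtain ⟨z, z1, z2, z3⟩ := h.exists_perp (((ratSub_span he).sup (ratSub_span p1)).sup (ratSub_span p2))
      (W.map ((g⁻¹).1 : V →ₗ[F] V)) (by rw [finrank_map_isom]; omega)
    rw [mem_perp_sup_span, mem_perp_sup_span, mem_perp_span_singleton] at z1
    exact ⟨z, z2, z1.1.1, by rw [B_isom_right, p3]; simp [z1.1.2, z1.2],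
      fun H => z3 ⟨_, H, by simp⟩⟩
  have hU := (ratSub_span a1).sup (ratSub_span a2)
  have hd := finrank_two_le (F := F) a a'
  have hp := h.nd.finrank_perp ((F ∙ a) ⊔ F ∙ a')
  by_cases H : 3 + finrank F ↥(D.perp ((F ∙ a) ⊔ F ∙ a') ⊓ ((F ∙ a) ⊔ F ∙ a')) ≤
      finrank F (D.perp ((F ∙ a) ⊔ F ∙ a'))
  · obtain ⟨u, u1, u2, u3, u4⟩ := h.exists_sing' (h.perp hU) _ H
    rw [mem_perp_sup_span, mem_perp_span_singleton] at u1
    obtain ⟨z, z1, z2, z3, z4⟩ := ex u _ (finrank_two_le (g.1 e) u)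
    obtain ⟨d, d1, S⟩ := h.star hX hZ hg he hQ z1 z2 u2 u4 (by rintro rfl; simp at u3)
      (by simp [a3, D.eq_zero_symm u1.1, D.eq_zero_symm u1.2]) z3
    obtain ⟨v₁, b1, b2, b3⟩ := h.exists_B_eq ((ratSub_span a2).sup (ratSub_span u2))
      (exchange_span a4 (by rwa [sup_comm])) a1 (one_mem k)
    obtain ⟨v₂, c1, c2, c3⟩ := h.exists_B_eq ((ratSub_span a1).sup (ratSub_span u2))
      (exchange_span a5 u3) a2 (one_mem k)
    rw [mem_perp_sup_span, mem_perp_span_singleton] at b1 c1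
    rw [one_mul] at b3 c3
    have b4 : D.B v₁ (g.1 e) = 1 := by simp [a3, b3, D.eq_zero_symm b1.1]
    have c4 : D.B v₂ (g.1 e) = ω := by simp [a3, c3, D.eq_zero_symm c1.1]
    have e11 := S v₁ b2 b1.2 v₁ b2 b1.2
    have e12 := S v₁ b2 b1.2 v₂ c2 c1.2
    have e21 := S v₂ c2 c1.2 v₁ b2 b1.2
    have e22 := S v₂ c2 c1.2 v₂ c2 c1.2
    simp only [b4, c4, map_one, h.tr] at e11 e12 e21 e22
    have f1 : σ (D.B v₁ (g.1 z)) = D.B v₁ (g.1 z) := mul_left_cancel₀ h2 (by linear_combination e11)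
    rw [f1] at e12 e21
    have f2 : d = 0 := mul_left_cancel₀ (mul_ne_zero (mul_ne_zero h2 h2) ω0) (by
      linear_combination e21 - e12)
    have f3 : σ (D.B v₂ (g.1 z)) = -D.B v₂ (g.1 z) := mul_left_cancel₀ (mul_ne_zero h2 ω0) (by
      linear_combination e22)
    rw [f2, f3] at e12
    have f4 : D.B v₂ (g.1 z) = ω * D.B v₁ (g.1 z) := mul_left_cancel₀ h2 (by linear_combination -e12)
    have : D.perp (F ∙ u) ≤ D.perp (F ∙ (g.1 z - D.B v₁ (g.1 z) • g.1 e)) :=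
      (h.perp (ratSub_span u2)).le fun v v1 v2 => by
        rw [mem_perp_span_singleton] at v1 ⊢
        have g1 := S v₁ b2 b1.2 v v2 v1
        have g2 := S v v2 v1 v₂ c2 c1.2
        rw [f3, f4] at g2
        simp only [b4, c4, map_one, h.tr, f1, f2] at g1 g2
        refine D.eq_zero_symm (mul_left_cancel₀ (mul_ne_zero h2 ω0) ?_)
        rw [B_sub_right, D.B_smul_right]
        linear_combination g2 - ω * g1
    exact z4 (by simpa using Submodule.add_mem_sup (Submodule.smul_mem _ (D.B v₁ (g.1 z))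
      (self_mem_span (g.1 e))) (h.nd.perp_le_perp.1 this (self_mem_span _)))
  have H1 : (F ∙ a) ⊔ (F ∙ a') ≤ D.perp ((F ∙ a) ⊔ F ∙ a') :=
    inf_eq_right.1 (Submodule.eq_of_le_of_finrank_le inf_le_right (by omega))
  have b1 := H1 (Submodule.mem_sup_left (self_mem_span a))
  have b2 := H1 (Submodule.mem_sup_right (self_mem_span a'))
  rw [mem_perp_sup_span, mem_perp_span_singleton] at b1 b2
  obtain ⟨z, z1, z2, z3, z4⟩ := ex a' _ hd
  have z5 : D.B a (g.1 z) = 0 := by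
    have := B_isom g e z
    rw [a3, z2] at this
    simpa [z3] using this
  obtain ⟨d, -, S⟩ := h.star hX hZ hg he hQ z1 z2 a2 ((herm_Q ..).trans b2.2) (by rintro rfl; simp at a5)
    (by simp [a3, b1.2, b2.2]) z3
  obtain ⟨d', -, S'⟩ := h.star hX hZ hg he hQ z1 z2 a1 ((herm_Q ..).trans b1.1) (by rintro rfl; simp at a4)
    (by simp [a3, b1.1, b2.1]) z5
  obtain ⟨v₁, c1, c2, c3⟩ := h.exists_B_eq (ratSub_span a2) a4 a1 (one_mem k)
  obtain ⟨v₂, d1, d2, d3⟩ := h.exists_B_eq (ratSub_span a1) a5 a2 (one_mem k)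
  rw [mem_perp_span_singleton] at c1 d1
  rw [one_mul] at c3 d3
  have b4 : D.B v₁ (g.1 e) = 1 := by simp [a3, c3, D.eq_zero_symm c1]
  have c4 : D.B v₂ (g.1 e) = ω := by simp [a3, d3, D.eq_zero_symm d1]
  have : D.perp ((F ∙ a) ⊔ F ∙ a') ≤ D.perp (F ∙ g.1 z) := (h.perp hU).le fun v v1 v2 => by
    rw [mem_perp_sup_span, mem_perp_span_singleton] at v1
    have g1 := S v₁ c2 c1 v v2 v1.2
    have g2 := S' v₂ d2 d1 v v2 v1.1
    have g3 : D.B v (g.1 e) = 0 := by simp [a3, D.eq_zero_symm v1.1, D.eq_zero_symm v1.2]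
    simp only [b4, c4, g3, map_one, map_zero, h.tr] at g1 g2
    exact D.mem_perp_span_singleton.2 (D.eq_zero_symm (mul_left_cancel₀ (mul_ne_zero h2 ω0) (by
      linear_combination g2 - ω * g1)))
  exact z4 (h.nd.perp_le_perp.1 this (self_mem_span _))

omit hZ in
theorem E_le (hX' : ¬ X ≤ D.ratS k b) : D.E ≤ X :=
  (h.dichotomy hX (fun he _ _ hz hy ht _ => h.step hX he hz hy ht) Herm.comm).resolve_left
    fun hZ => hX' fun _ hg => h.mem_of_points fun _ hy y1 y0 => h.point hX hZ hg hy y1 y0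

end RatO

theorem Herm.ratU (hD : D.Nondeg) (hB : ∀ x ∈ rat k b, ∀ y ∈ rat k b, 1 * D.B x y ∈ k)
    (hr : (finrank k F).Prime) (hn : 6 ≤ finrank F V) (ht : (2 : F) ≠ 0 ∨ ∃ a ∈ k, σ a ≠ a) :
    D.RatU k b 1 := by
  have hσ : ∀ a ∈ k, σ a ∈ k := fun a ha => hc.apply a ▸ pow_mem ha q
  refine ⟨hD, one_ne_zero, hB, hσ, by simp, fun x hx => ?_,
    sing_of_quad (k' := k ⊓ RingHom.eqLocusField σ (RingHom.id F)) (fun a ha => ⟨ha.1, ha.2,
      fun c => by simp [show σ a = a from ha.2, mul_add]⟩) one_ne_zero fun x hx =>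
      ⟨herm_Q D x ▸ hB x hx x hx, by simpa using herm_σ_Q D x⟩, hr, hn⟩
  have h1 : D.Q x ∈ k := by simpa [herm_Q] using hB x hx x hx
  have h3 := herm_σ_Q D x
  obtain ⟨c, h4, h5, h6⟩ : ∃ c ∈ k, c + σ c ≠ 0 ∧ c + σ c ∈ k := by
    by_cases h2 : (2 : F) = 0
    · obtain ⟨a, ha, h⟩ := ht.resolve_left (not_not.2 h2)
      exact ⟨a, ha, fun H => h (by linear_combination H - a * h2), add_mem ha (hσ a ha)⟩
    · exact ⟨1, one_mem k, by simpa [one_add_one_eq_two] using h2, by simp [add_mem]⟩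
  refine ⟨D.Q x * c / (c + σ c), by simpa using div_mem (mul_mem h1 h4) h6, ?_⟩
  simp only [hermKind_tr, map_div₀, map_mul, map_add, h3, hc.σσ, add_comm (σ c)]
  field_simp

theorem Herm.rat_sing2 (hB : ∀ x ∈ rat k b, ∀ y ∈ rat k b, D.B x y ∈ k) {a : F} (ha : a ∈ k)
    (h1 : σ a ≠ a) (U : Submodule F V) (hU : RatSub k b U) (hn : 2 ≤ finrank F U) :
    ∃ e ∈ U, e ∈ rat k b ∧ e ≠ 0 ∧ D.Q e = 0 := by
  have hσ : ∀ a ∈ k, σ a ∈ k := fun a ha => hc.apply a ▸ pow_mem ha q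
  have ex : ∀ W : Submodule F V, finrank F W ≤ 1 → ∃ x ∈ U, x ∈ rat k b ∧ x ∉ W := fun W hW =>
    hU.exists_not_mem fun H => by have := Submodule.finrank_mono H; omega
  obtain ⟨x, a1, a2, a3⟩ := ex ⊥ (by simp)
  obtain ⟨y, b1, b2, b3⟩ := ex (F ∙ x) (finrank_span_singleton_le x)
  let k' := k ⊓ RingHom.eqLocusField σ (RingHom.id F)
  have T : ∀ x ∈ rat k b, ∀ y ∈ rat k b, D.B x y + σ (D.B x y) ∈ k' := fun x hx y hy =>
    ⟨add_mem (hB x hx y hy) (hσ _ (hB x hx y hy)), by simp [hc.σσ, add_comm]⟩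
  have Q : ∀ x ∈ rat k b, D.B x x ∈ k' := fun x hx => ⟨hB x hx x hx, herm_symm D x x⟩
  have c2 := rat_smul ha a2
  obtain ⟨r, s, t, h0, H⟩ := exists_ternary (k := k') ⟨_, Q x a2⟩ ⟨_, Q y b2⟩ ⟨_, Q _ c2⟩
    ⟨_, T x a2 y b2⟩ ⟨_, T x a2 _ c2⟩ ⟨_, T y b2 _ c2⟩
  have r2 : σ r = r := r.2.2
  have s2 : σ s = s := s.2.2
  have t2 : σ t = t := t.2.2
  refine ⟨r.1 • x + s.1 • y + t.1 • a • x, add_mem (add_mem (U.smul_mem _ a1) (U.smul_mem _ b1))
    (U.smul_mem _ (U.smul_mem _ a1)), add_mem (add_mem (rat_smul r.2.1 a2) (rat_smul s.2.1 b2))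
      (rat_smul t.2.1 c2), fun H0 => h0 ?_, ?_⟩
  · have H1 : s.1 • y = -((r.1 + t.1 * a) • x) := by linear_combination (norm := module) H0
    have hs : s.1 = 0 := by
      by_contra hs
      exact b3 ((Submodule.smul_mem_iff _ hs).1 (H1 ▸ neg_mem
        (Submodule.smul_mem _ _ (self_mem_span x))))
    rw [hs, zero_smul, eq_comm, neg_eq_zero, smul_eq_zero] at H1
    have H2 := H1.resolve_right (by simpa using a3)
    have H3 := congrArg σ H2
    rw [map_add, map_mul, r2, t2, map_zero] at H3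
    have ht : t.1 = 0 := (mul_eq_zero.1 (show t.1 * (σ a - a) = 0 by
      linear_combination H3 - H2)).resolve_right (sub_ne_zero.2 h1)
    exact ⟨Subtype.ext (by simpa [ht] using H2), Subtype.ext hs, Subtype.ext ht⟩
  · have := congrArg Subtype.val H
    push_cast at this
    generalize a • x = z at this ⊢
    rw [herm_Q]
    simp only [D.B_lin, r2, s2, t2, herm_symm] at this ⊢
    linear_combination this

omit [Fintype ι] [FiniteDimensional F V] in
theorem IsConj.mem_iff_fixed (hc : IsConj σ q) (h : Nat.card F = Nat.card k ^ 2) (a : F) :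
    a ∈ k ↔ σ a = a := by
  have h1 : Nat.card k = q := Nat.pow_left_injective two_ne_zero (h.symm.trans hc.card)
  have h2 : ∀ a ∈ k, σ a = a := fun a ha => by
    have := Fintype.ofFinite k
    rw [hc.apply, ← h1, Nat.card_eq_fintype_card]
    exact congrArg Subtype.val (FiniteField.pow_card (⟨a, ha⟩ : k))
  refine ⟨h2 a, fun H => ?_⟩
  obtain ⟨⟨c, h3⟩, h4⟩ := (Function.Injective.bijective_of_nat_card_le
    (f := fun x : k => (⟨x.1, h2 _ x.2⟩ : {x : F // σ x = x}))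
    (fun x y H => Subtype.ext (by simpa using H)) (by rw [hc.card_fixed, h1])).2 ⟨a, H⟩
  obtain rfl : c = a := by simpa using h4
  exact h3

end Cfsg.Lib.Forms

namespace Cfsg.Lib.Forms

open Module Form Herm Cfsg.Geo Matrix
variable {F : Type*} [Field F] [Fintype F] {n q : ℕ} (hF : Fintype.card F = q ^ 2) (hn : 6 ≤ n)
include hF hn

theorem su_max_rat6 (F₀ : Subfield F) (r : ℕ) (P : GL (Fin n) F) (hr : r.Prime) (hro : Odd r)
    (hcard : Fintype.card F = Nat.card F₀ ^ r) (hP : IsFormRationalStructure (hermForm n F q) F₀ 1 P) :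
    IsMaximalIn (GU n F q ⊓ specialLinear (Fin n) F)
      (subfieldSubgroup F₀ P ⊓ (GU n F q ⊓ specialLinear (Fin n) F)) := by
  obtain ⟨σ, hc⟩ := isConj_of_card hF
  have hn' : finrank F (Fin n → F) = n := by simp
  have hr' : (finrank F₀ F).Prime := (finrank_of_card hcard).symm ▸ hr
  have hk : ∃ a ∈ F₀, σ a ≠ a := by
    by_contra! H
    rcases subring_prime hr' (RingHom.eqLocus σ (RingHom.id F)) H with h | h
    · have : Nat.card F₀ = q := hc.card_fixed ▸ Nat.card_congr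
        (Equiv.subtypeEquivRight fun x => ⟨H x, h x⟩)
      rw [this, hF] at hcard
      have := Nat.pow_right_injective hc.two_le hcard
      exact absurd hro (by rw [← (this : 2 = r)]; decide)
    · exact hc.ne_id (RingHom.ext h)
  have h := Herm.ratU (b := colBasis P) (stdHerm_nondeg hc (Fin n)) (fun x hx y hy => by
    obtain ⟨u, hu, rfl⟩ := (mem_rat_colBasis _ _).1 hx
    obtain ⟨v, hv, rfl⟩ := (mem_rat_colBasis _ _).1 hy
    exact hermForm_eq hc n _ _ ▸ hP v u hv hu) hr' (by omega) (Or.inr hk)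
  obtain ⟨a, h1, h2⟩ := hk
  have h' : RatT _ F₀ (colBasis P) 1 (a - σ a) := ⟨h, by simpa using sub_mem h1 (h.σ_mem a h1),
    sub_ne_zero.2 h2.symm, by simp [hc.σσ], Herm.rat_sing2 (by simpa using h.B_mem) h1 h2⟩
  exact isMaximalIn_map (su_eq hc (by omega)) (comap_subfieldSubgroup' _ _ _) h.not_E_le
    fun X hX => RatT.E_le_odd hX h' (by
      rw [finrank_of_card hcard]; rintro rfl; exact absurd hro (by decide))

theorem su_max_rat_orth6 (hodd : Odd q) (F₀ : Subfield F) (P : GL (Fin n) F)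
    (hcard : Fintype.card F = Nat.card F₀ ^ 2) (hP : IsFormRationalStructure (hermForm n F q) F₀ 1 P) :
    IsMaximalIn (GU n F q ⊓ specialLinear (Fin n) F)
      (subfieldSubgroup F₀ P ⊓ (GU n F q ⊓ specialLinear (Fin n) F)) := by
  obtain ⟨σ, hc⟩ := isConj_of_card hF
  have hn' : finrank F (Fin n → F) = n := by simp
  have h2 := two_ne_zero_of_odd_card hF hodd.pow
  have h := Herm.ratU (b := colBasis P) (stdHerm_nondeg hc (Fin n)) (fun x hx y hy => by
    obtain ⟨u, hu, rfl⟩ := (mem_rat_colBasis _ _).1 hx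
    obtain ⟨v, hv, rfl⟩ := (mem_rat_colBasis _ _).1 hy
    exact hermForm_eq hc n _ _ ▸ hP v u hv hu) ((finrank_of_card hcard).symm ▸ Nat.prime_two)
    (by omega) (Or.inl h2)
  obtain ⟨ω, h3, h4⟩ := hc.exists_trace_zero
  have h' : RatO _ F₀ (colBasis P) ω := ⟨h, hc.mem_iff_fixed (Nat.card_eq_fintype_card.trans hcard),
    h2, h3, eq_neg_of_add_eq_zero_right h4⟩
  exact isMaximalIn_map (su_eq hc (by omega)) (comap_subfieldSubgroup' _ _ _) h.not_E_le
    fun X => h'.E_le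

theorem su_max_rat_symp6 (F₀ : Subfield F) (P : GL (Fin n) F) (ζ : F)
    (hcard : Fintype.card F = Nat.card F₀ ^ 2) (hζ0 : ζ ≠ 0) (hζ : ζ + ζ ^ q = 0)
    (hP : IsFormRationalStructure (hermForm n F q) F₀ ζ P) (halt : ∀ u : Fin n → F, (∀ i, u i ∈ F₀) →
      hermForm n F q ((P : Matrix (Fin n) (Fin n) F) *ᵥ u) ((P : Matrix (Fin n) (Fin n) F) *ᵥ u) = 0) :
    IsMaximalIn (GU n F q ⊓ specialLinear (Fin n) F)
      (subfieldSubgroup F₀ P ⊓ (GU n F q ⊓ specialLinear (Fin n) F)) := by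
  obtain ⟨σ, hc⟩ := isConj_of_card hF
  have hn' : finrank F (Fin n → F) = n := by simp
  have hQ : ∀ x ∈ rat F₀ (colBasis P), (stdHerm hc (Fin n)).Q x = 0 := fun x hx => by
    obtain ⟨u, hu, rfl⟩ := (mem_rat_colBasis _ _).1 hx
    exact hermForm_self hc n _ ▸ halt u hu
  have h0 : ∀ U, RatSub F₀ (colBasis P) U → 2 ≤ finrank F U →
      ∃ e ∈ U, e ∈ rat F₀ (colBasis P) ∧ e ≠ 0 ∧ (stdHerm hc (Fin n)).Q e = 0 := fun U hU h3 => by
    obtain ⟨e, h1, h2, h4⟩ := hU.exists_not_mem (W := ⊥) fun H => by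
      rw [le_bot_iff.1 H] at h3; simp at h3
    exact ⟨e, h1, h2, by simpa using h4, hQ e h2⟩
  have h : RatT (stdHerm hc (Fin n)) F₀ (colBasis P) ζ ζ := ⟨⟨stdHerm_nondeg hc (Fin n), hζ0,
    fun x hx y hy => by
      obtain ⟨u, hu, rfl⟩ := (mem_rat_colBasis _ _).1 hx
      obtain ⟨v, hv, rfl⟩ := (mem_rat_colBasis _ _).1 hy
      exact hermForm_eq hc n _ _ ▸ hP v u hv hu,
    fun a ha => hc.apply a ▸ pow_mem ha q,
    by rw [hc.apply, eq_neg_of_add_eq_zero_right hζ, neg_div, div_self hζ0]; simp,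
    fun x hx => ⟨0, by simp, by simp [hQ x hx]⟩, fun U hU h3 => h0 U hU (by omega),
    (finrank_of_card hcard).symm ▸ Nat.prime_two, by omega⟩,
    by simp [hζ0], hζ0, by rwa [hc.apply], h0⟩
  exact isMaximalIn_map (su_eq hc (by omega)) (comap_subfieldSubgroup' _ _ _) h.not_E_le
    fun X hX => h.E_le_two hX (finrank_of_card hcard)

end Cfsg.Lib.Forms
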