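import Cfsg.Agent.Lib.MaxU.R6

/-! Subfield subgroups of unitary groups containing transvections (dimension at least six). -/

set_option autoImplicit false

namespace Cfsg.Lib.Forms

open Module Form Herm

variable {F V ι : Type*} [Field F] [AddCommGroup V] [Module F V] [Fintype ι] [Finite F]
  [FiniteDimensional F V] {k : Subfield F} {b : Basis ι F V} {ζ θ : F} {σ : F →+* F} {q : ℕ}
  {hc : IsConj σ q} {D : Form hc.kind V} {X : Subgroup D.isom}

variable (D) in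
/-- A rational structure with rational transvections. -/
structure RatT (k : Subfield F) (b : Basis ι F V) (ζ θ : F) : Prop extends D.RatU k b ζ where
  θ_mem : θ / ζ ∈ k
  θ_ne : θ ≠ 0
  tr : θ + σ θ = 0
  sing2 : ∀ U, RatSub k b U → 2 ≤ finrank F U → ∃ e ∈ U, e ∈ rat k b ∧ e ≠ 0 ∧ D.Q e = 0

namespace RatT

variable (h : RatT D k b ζ θ)
include h

theorem exists_sing2 {H : Submodule F V} (hH : RatSub k b H) (W : Submodule F V)
    (hn : finrank F H + finrank F W + 2 ≤ finrank F V) :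
    ∃ e ∈ D.perp H, e ∈ rat k b ∧ e ∉ W ∧ D.Q e = 0 := by
  have := h.nd.finrank_perp H
  have := Submodule.finrank_mono (inf_le_right : D.perp H ⊓ W ≤ W)
  obtain ⟨U', h1, h2, h3, h4⟩ := (h.perp hH).exists_compl W
  obtain ⟨e, he, h5, h6, h7⟩ := h.sing2 U' h2 (by omega)
  exact ⟨e, h1 he, h5, fun H => h6 (Submodule.disjoint_def.1 h3 e he H), h7⟩

omit [Finite F] [FiniteDimensional F V] in
theorem θB {x y : V} (hx : x ∈ rat k b) (hy : y ∈ rat k b) : θ * D.B x y ∈ k := by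
  have := mul_mem h.θ_mem (h.B_mem x hx y hy)
  rwa [← mul_assoc, div_mul_cancel₀ _ h.ne] at this

omit [Finite F] [FiniteDimensional F V] in
theorem r1 {u : V} (hu : D.Q u = 0) : D.IsRk1 u θ := (isRk1_iff_of_Q_eq_zero hu).2 h.tr

variable (hX : D.E ⊓ D.ratS k b ≤ X)
include hX

theorem tv_mem {u : V} (h1 : u ∈ rat k b) (hu : D.Q u = 0) : D.rk1 u θ (h.r1 hu) ∈ X :=
  RatF.mem hX (rk1_mem_E _ hu) fun x hx => add_mem hx (rat_smul (h.θB h1 hx) h1)

theorem tv_conj {u : V} (h1 : u ∈ rat k b) (hu : D.Q u = 0) {g : D.isom} (hg : g ∈ X)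
    (h2 : D.Q (g.1 u) = 0) : D.rk1 (g.1 u) θ (h.r1 h2) ∈ X := by
  rw [← D.conj_rk1 g u θ (h.r1 hu)]
  exact mul_mem (mul_mem hg (h.tv_mem hX h1 hu)) (inv_mem hg)

omit hX [Finite F] [FiniteDimensional F V] in
theorem tv_sub {e w z : V} {hQ : D.Q e = 0} (hw : D.Q w = 0) (hm : D.rk1 w θ (h.r1 hw) ∈ X)
    (h1 : D.B w e = 0) (hz : z ∈ zSet X e hQ) : (θ * D.B w z) • w ∈ zSet X e hQ := by
  simpa [rk1_apply] using sub_mem_zSet hz hm (by simp [rk1_apply, h1])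

theorem step {e z y t : V} (he : e ∈ rat k b) {hQ : D.Q e = 0} (hz : z ∈ zSet X e hQ)
    (hy : y ∈ rat k b) (ht : t ∈ rat k b) (h1 : D.Q y = 0) (h2 : D.Q t = 0) (h3 : D.B e y = 0)
    (h4 : D.B e t = 0) : (D.B y z * ζ) • t ∈ zSet X e hQ := by
  have hn := h.six
  have hζ := h.ne
  have hσ := h.σ_ne
  have t0 := h.θ_ne
  by_cases h5 : D.B y z = 0
  · simp [h5]
  have T : ∀ {w z : V}, w ∈ rat k b → D.Q w = 0 → D.B e w = 0 → z ∈ zSet X e hQ →
      (θ * D.B w z) • w ∈ zSet X e hQ := fun hw w1 w2 hz =>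
    h.tv_sub w1 (h.tv_mem hX hw w1) (D.eq_zero_symm w2) hz
  have R : ∀ {w s : V}, w ∈ rat k b → D.Q w = 0 → D.B e w = 0 → s ∈ rat k b → D.B w s ≠ 0 →
      (∀ κ ∈ k, (κ * D.B y z * ζ) • s ∈ zSet X e hQ) → ∀ κ ∈ k, (κ * D.B y z * ζ) • w ∈ zSet X e hQ :=
    fun {w s} hw w1 w2 hs h0 H κ hκ => by
      convert T hw w1 w2 (H _ (div_mem hκ (h.θB hw hs))) using 2
      rw [D.B_smul_right]; field_simp
  have y0 : y ∉ F ∙ e := fun H => by
    obtain ⟨c, rfl⟩ := Submodule.mem_span_singleton.1 H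
    simp [perp_of_mem_zSet hz] at h5
  have := finrank_two_le (F := F) e y
  obtain ⟨s, a1, a2, a3, a4⟩ := h.exists_sing2 ((ratSub_span he).sup (ratSub_span hy))
    ((F ∙ e) ⊔ F ∙ y) (by omega)
  rw [mem_perp_sup_span, mem_perp_span_singleton] at a1
  have S : ∀ κ ∈ k, (κ * D.B y z * ζ) • s ∈ zSet X e hQ := fun κ hκ => by
    obtain ⟨w₀, b1, b2, b3⟩ := h.exists_B_eq ((ratSub_span he).sup (ratSub_span a2))
      (exchange_span y0 a3) hy (one_mem k)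
    obtain ⟨w₁, c1, c2, c3⟩ := h.exists_B_eq ((ratSub_span he).sup (ratSub_span hy)) a3 a2
      (h.σ_mem _ (div_mem (mul_mem hκ h.η_mem) (pow_mem h.θ_mem 3)))
    rw [mem_perp_sup_span, mem_perp_span_singleton] at b1 c1
    have d1 : D.B (w₀ + w₁) y = ζ⁻¹ := by
      rw [D.B_add_left, D.eq_zero_symm c1.2, add_zero]; exact eq_inv_of_mul_eq_one_right b3
    obtain ⟨c, d2, d3⟩ := h.exists_smul_sing hy h1 (add_mem b2 c2) (by rw [d1]; simpa)
    have d4 := add_mem (add_mem b2 c2) (rat_smul d2 hy)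
    have d5 := T a2 a4 a1.1 (T d4 d3 (by simp [b1.1, c1.1, h3]) (T hy h1 h3 hz))
    convert d5 using 2
    have d6 := congrArg σ c3
    rw [map_mul, herm_symm, hc.σσ] at d6
    have d7 : D.B s w₁ = κ * (σ ζ / ζ) / (θ / ζ) ^ 3 / σ ζ := by rw [← d6]; field_simp
    rw [D.B_smul_right, D.B_smul_right, D.B_add_left, d1]
    simp only [D.B_lin, D.B_self_of_Q h1, b1.2, d7, D.eq_zero_symm a1.2]
    field_simp; ring
  by_cases h6 : t ∈ F ∙ e
  · obtain ⟨c, rfl⟩ := Submodule.mem_span_singleton.1 h6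
    rw [smul_smul]; exact smul_mem_zSet hQ _
  suffices ∀ κ ∈ k, (κ * D.B y z * ζ) • t ∈ zSet X e hQ by simpa using this 1 (one_mem k)
  by_cases h7 : D.B t s = 0
  swap
  · exact R ht h2 h4 a2 h7 S
  obtain ⟨w, b1, b2, b3, b4⟩ : ∃ w ∈ D.perp (F ∙ e), w ∈ rat k b ∧ D.B w s ≠ 0 ∧ D.B w t ≠ 0 := by
    obtain ⟨y, a1, a2, a3⟩ := h.exists_B (ratSub_span he) (x := s) fun H => a3 (Submodule.mem_sup_left H)
    obtain ⟨y', b1, b2, b3⟩ := h.exists_B (ratSub_span he) h6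
    by_cases c1 : D.B y t = 0
    · by_cases c2 : D.B y' s = 0
      · exact ⟨y + y', add_mem a1 b1, add_mem a2 b2, by simpa [c2] using a3, by simpa [c1] using b3⟩
      · exact ⟨y', b1, b2, c2, b3⟩
    · exact ⟨y, a1, a2, a3, c1⟩
  rw [mem_perp_span_singleton] at b1
  obtain ⟨c, c1, c2⟩ := h.exists_smul_sing a2 a4 b2 b3
  have c3 := add_mem b2 (rat_smul c1 a2)
  exact R ht h2 h4 c3 (D.ne_zero_symm (by simpa [D.eq_zero_symm h7] using b4))
    (R c3 c2 (by simp [b1, a1.1]) a2 (by simpa [D.B_self_of_Q a4] using b3) S)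

variable (hZ : ∀ e ∈ rat k b, e ≠ 0 → ∀ hQ : D.Q e = 0, ∀ z ∈ zSet X e hQ,
  ∃ x ∈ rat k b, ∃ c : F, z = ζ • x + c • e)
include hZ

theorem point {x y : V} (hx : D.Q x = 0) (x0 : x ≠ 0) (hm : D.rk1 x θ (h.r1 hx) ∈ X)
    (hy : y ∈ rat k b) (y1 : D.Q y = 0) (y0 : y ≠ 0) (H : D.B y x = 0) :
    ∃ c : F, c ≠ 0 ∧ ∃ x' ∈ rat k b, x = c • x' := by
  have hn := h.six
  have A : ∀ y ∈ rat k b, D.Q y = 0 → y ≠ 0 → D.B y x = 0 → x ∉ F ∙ y →
      ∃ x' ∈ rat k b, x ∈ (F ∙ x') ⊔ F ∙ y := fun y hy y1 y0 H h1 => by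
    obtain ⟨z, a1, a2, a3⟩ := h.exists_B (ratSub_span hy) h1
    obtain ⟨x', b1, c, b2⟩ := hZ y hy y0 y1 _ (h.tv_sub hx hm (D.eq_zero_symm H)
      (h.mem_zSet hX hy y1 a2 (D.mem_perp_span_singleton.1 a1)))
    refine ⟨x', b1, (Submodule.smul_mem_iff _ (?_ : θ * D.B x (ζ • z) ≠ 0)).1 (b2 ▸
      Submodule.add_mem_sup (Submodule.smul_mem _ _ (self_mem_span _))
        (Submodule.smul_mem _ _ (self_mem_span _)))⟩
    simp [h.θ_ne, h.ne, D.ne_zero_symm a3]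
  by_cases h1 : x ∈ F ∙ y
  · obtain ⟨c, rfl⟩ := Submodule.mem_span_singleton.1 h1
    exact ⟨c, left_ne_zero_of_smul x0, y, hy, rfl⟩
  obtain ⟨x', a1, a2⟩ := A y hy y1 y0 H h1
  have hU := (ratSub_span a1).sup (ratSub_span hy)
  have := finrank_two_le (F := F) x' y
  obtain ⟨y', b1, b2, b3, b4⟩ := h.exists_sing2 hU ((F ∙ x') ⊔ F ∙ y) (by omega)
  have b5 : y' ∉ F ∙ x := fun H => b3 ((Submodule.span_singleton_le_iff_mem _ _).2 a2 H)
  obtain ⟨x'', c1, c2⟩ := A y' b2 b4 (by rintro rfl; simp at b3) (D.eq_zero_symm (b1 x a2))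
    (not_mem_symm x0 b5)
  have := finrank_two_le (F := F) x'' y'
  have h2 := Submodule.finrank_lt_finrank_of_lt (inf_lt_right.2 fun H : (F ∙ x'') ⊔ (F ∙ y') ≤
    (F ∙ x') ⊔ F ∙ y => b3 (H (Submodule.mem_sup_right (self_mem_span _))))
  refine RatSub.exists_smul ?_ x0
  rw [Submodule.eq_of_le_of_finrank_le ((Submodule.span_singleton_le_iff_mem _ _).2
    (Submodule.mem_inf.2 ⟨a2, c2⟩)) (by rw [finrank_span_singleton x0]; omega)]
  exact hU.inf ((ratSub_span c1).sup (ratSub_span b2))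

theorem mem_of_perp {g : D.isom} (hg : g ∈ X) {u y : V} (hu : u ∈ rat k b) (u1 : D.Q u = 0) (u0 : u ≠ 0)
    (hy : y ∈ rat k b) (y1 : D.Q y = 0) (y0 : y ≠ 0) (H : D.B y (g.1 u) = 0) : g ∈ D.ratS k b := by
  have A : ∀ {u y : V}, u ∈ rat k b → D.Q u = 0 → u ≠ 0 → y ∈ rat k b → D.Q y = 0 → y ≠ 0 →
      D.B y (g.1 u) = 0 → ∃ c : F, c ≠ 0 ∧ ∃ x' ∈ rat k b, g.1 u = c • x' :=
    fun {u y} hu u1 u0 hy y1 y0 H => h.point hX hZ (by simpa using u1) (g.1.map_ne_zero_iff.2 u0)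
      (h.tv_conj hX hu u1 hg (by simpa using u1)) hy y1 y0 H
  have B : ∀ {u t : V}, D.Q u = 0 → u ≠ 0 → t ∈ rat k b → D.Q t = 0 → t ≠ 0 → D.B u t = 0 →
      (∃ c : F, c ≠ 0 ∧ ∃ x' ∈ rat k b, g.1 u = c • x') →
      ∃ c : F, c ≠ 0 ∧ ∃ x' ∈ rat k b, g.1 t = c • x' := by
    rintro u t u1 u0 ht t1 t0 H ⟨c, c0, x, hx, h1⟩
    have h2 : x = c⁻¹ • g.1 u := by rw [h1, inv_smul_smul₀ c0]
    exact A ht t1 t0 hx (h2 ▸ D.Q_smul_of_Q (by simpa using u1) _) (by simp [h2, c0, u0])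
      (by simp [h2, H])
  refine h.mem_of_points fun w hw w1 w0 => ?_
  obtain ⟨t, a1, a2, a3, a4, a5, -⟩ := h.exists_link hu hw u1 w1 u0 w0
  have t0 : t ≠ 0 := by rintro rfl; simp at a5
  exact B a2 t0 hw w1 w0 (D.eq_zero_symm a4) (B u1 u0 a1 a2 t0 a3 (A hu u1 u0 hy y1 y0 H))

theorem mem_of_mem {g : D.isom} (hg : g ∈ X) {u : V} (hu : u ∈ rat k b) (u1 : D.Q u = 0) (u0 : u ≠ 0)
    {U : Submodule F V} (hU : RatSub k b U) (h2 : finrank F U ≤ 2) (H : g.1 u ∈ U) :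
    g ∈ D.ratS k b := by
  have := h.six
  obtain ⟨y, a1, a2, a3, a4⟩ := h.exists_sing hU ⊥ (by simp; omega)
  exact h.mem_of_perp hX hZ hg hu u1 u0 a2 a4 (by simpa using a3) (D.eq_zero_symm (a1 _ H))

omit hZ in
theorem E_le_two (hr : finrank k F = 2) (hX' : ¬ X ≤ D.ratS k b) : D.E ≤ X := by
  refine (h.dichotomy hX (fun he _ _ => h.step hX he) Herm.comm).resolve_left
    fun hZ => hX' fun g hg => ?_
  obtain ⟨u, u1, v, -, u2, -, -, u3, -⟩ := h.exists_pair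
  obtain ⟨U, h1, h3, h4⟩ := exists_hull (k := k) (b := b) (g.1 u)
  exact h.mem_of_mem hX hZ hg u1 u2 (by rintro rfl; simp at u3) h1 (by omega) h3

omit h hZ in
theorem E_le_odd (h : RatT D k b 1 θ) (hr : finrank k F ≠ 2) (hX' : ¬ X ≤ D.ratS k b) : D.E ≤ X := by
  have hn := h.six
  have : Finite V := Module.finite_of_finite F
  have : Nontrivial V := Module.nontrivial_of_finrank_pos (R := F) (by omega)
  refine (h.dichotomy hX (fun he _ _ => h.step hX he) Herm.comm).resolve_left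
    fun hZ => hX' fun g hg => ?_
  have θk : θ ∈ k := by simpa using h.θ_mem
  have θ0 := h.θ_ne
  have θ1 := eq_neg_of_add_eq_zero_right h.tr
  have hB : ∀ x ∈ rat k b, ∀ y ∈ rat k b, D.B x y ∈ k := by simpa using h.B_mem
  have r1 : ∀ {u : V}, D.Q u = 0 → D.IsRk1 u θ := h.r1
  have r2 : ∀ u ∈ rat k b, ∀ hu : D.Q u = 0, D.rk1 u θ (r1 hu) ∈ X := fun u => h.tv_mem hX
  obtain ⟨v, v1, u, u1, v4, u2, v2, v3, u3⟩ := h.exists_pair
  have u0 : u ≠ 0 := by rintro rfl; simp at u3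
  have fin : ∀ U, RatSub k b U → finrank F U ≤ 2 → g.1 u ∈ U → g ∈ D.ratS k b := fun U =>
    h.mem_of_mem hX hZ hg u1 u2 u0
  by_cases h2 : (2 : F) = 0
  · have s1 : ∀ u (hu : D.Q u = 0), u ≠ 0 → supp (D.rk1 u θ (r1 hu)).1 = F ∙ u := fun u hu u0 => by
      obtain ⟨y, hy⟩ := h.nd.exists_ne_zero u0
      exact le_antisymm (supp_le.2 fun x => by
        simp [rk1_apply, Submodule.smul_mem _ _ (self_mem_span _)])
        ((Submodule.span_singleton_le_iff_mem _ _).2 (mem_supp.2 ⟨(θ * D.B u y)⁻¹ • y, by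
          simp only [rk1_apply, D.B_lin]; match_scalars <;> field_simp <;> ring⟩))
    have s2 : ∀ u (hu : D.Q u = 0), D.rk1 u θ (r1 hu) * D.rk1 u θ (r1 hu) = 1 := fun u hu =>
      isom_ext fun x => by
        simp only [isom_mul_apply, rk1_apply, D.B_lin, D.B_self_of_Q hu, isom_one_apply]
        linear_combination (norm := module) (h2 * θ * D.B u x) • u
    have v0 : v ≠ 0 := by rintro rfl; simp at v3
    obtain ⟨s3, s4⟩ := h.nd.supp_mul (a := D.rk1 u θ (r1 u2)) (a' := D.rk1 v θ (r1 v4))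
      (by rw [s1 u u2 u0, s1 v v4 v0, Submodule.span_singleton_le_iff_mem, mem_perp_span_singleton,
        D.eq_zero_symm v2])
      (by rw [s1 u u2 u0, s1 v v4 v0]; exact ((Submodule.disjoint_span_singleton' v0).2 v3).symm)
    obtain ⟨a, ha⟩ : ∃ a, a = D.rk1 u θ (r1 u2) := ⟨_, rfl⟩
    obtain ⟨c, hc⟩ : ∃ c, c = g * (a * D.rk1 v θ (r1 v4)) * g⁻¹ := ⟨_, rfl⟩
    have a1 : a ∈ X := ha ▸ r2 u u1 u2
    have c1 : c ∈ X := hc ▸ mul_mem (mul_mem hg (mul_mem a1 (r2 v v1 v4))) (inv_mem hg)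
    have c2 : c * c = 1 := by
      rw [hc, conj_mul, ha, mul_assoc (D.rk1 u _ _), ← mul_assoc (D.rk1 v _ _), ← s3,
        mul_assoc (D.rk1 u _ _) (D.rk1 v _ _), s2 v v4, mul_one, s2 u u2]; simp
    have c3 : supp c.1 = ((F ∙ u) ⊔ F ∙ v).map (g.1 : V →ₗ[F] V) := by
      rw [← s1 u u2 u0, ← s1 v v4 v0, ← s4, hc, ha]; exact supp_conj g.1 _
    have c4 : finrank F (supp c.1) = 2 := by rw [c3, finrank_map_isom, finrank_two u0 v3]
    have a2 : supp a.1 = F ∙ u := ha ▸ s1 u u2 u0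
    have a3 := finrank_span_singleton (K := F) u0
    obtain ⟨j, d1, d2, d3, d4, d5⟩ := exists_central_invol (a := a.1) (b := c.1)
      (congrArg Subtype.val (ha ▸ s2 u u2)) (congrArg Subtype.val c2) (by rw [a2]; omega)
    rw [a2] at d3
    have d7 : ((a * c) ^ j).1 u ∈ F ∙ u := d3.le (Submodule.mem_map_of_mem (self_mem_span u))
    have e1 := (ratMap_of_invol (w := ((a * c) ^ j).1) h.prime (h.mem_of_mem hX hZ
      (pow_mem (mul_mem a1 c1) j) u1 u2 u0 (ratSub_span u1)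
      ((finrank_span_singleton_le u).trans (by omega)) d7) d2 (Or.inl h2)).supp
    obtain ⟨w, w1, w2, w3⟩ := exists_rat_supp d1 e1
    have w4 := h.nd.supp_le_perp h2 (w := (a * c) ^ j) (Subtype.ext d2)
    have w5 := (herm_Q D w).trans (w4 w1 w w1)
    have e2 := (ratMap_of_invol (w := c.1) h.prime (h.mem_of_perp hX hZ c1 w2 w5 w3 w2 w5 w3
      (w4 (d4.le (Submodule.mem_map_of_mem w1)) w w1)) (congrArg Subtype.val c2) (Or.inl h2)).supp
    exact fin _ e2 c4.le (c3 ▸ Submodule.mem_map_of_mem (Submodule.mem_sup_left (self_mem_span u)))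
  obtain ⟨x, hx⟩ : ∃ x, x = g.1 u := ⟨_, rfl⟩
  have x1 : D.Q x = 0 := by simp [hx, u2]
  have x2 : D.rk1 x θ (r1 x1) ∈ X := by
    subst hx
    rw [← D.conj_rk1 g u θ (r1 u2)]
    exact mul_mem (mul_mem hg (r2 u u1 u2)) (inv_mem hg)
  have a1 : ∀ y ∈ rat k b, D.Q y = 0 → D.B y x * σ (D.B y x) ∈ k := fun y hy y1 => by
    by_contra h3
    have h4 : θ ^ 2 * (D.B y x * σ (D.B y x)) ∉ k := fun H =>
      h3 (by simpa [θ0] using mul_mem (inv_mem (pow_mem θk 2)) H)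
    obtain ⟨_, ⟨m, h5, rfl⟩, h6⟩ := dickson_nil h2 (X := X.map D.isom.subtype)
      (N := (θ • D.B y).smulRight y) (M := (θ • D.B x).smulRight x)
      (l := θ ^ 2 * (D.B y x * σ (D.B y x))) (fun H => h4 (H ▸ zero_mem k))
      (fun H => h4 (mem_of_sq_mem h.prime hr (H ▸ neg_mem (one_mem k))))
      (by simp [D.B_self_of_Q y1]) (by simp [D.B_self_of_Q x1])
      (fun v => by simp [B_symm D y x]; module) (fun v => by simp [B_symm D y x]; module)
      ⟨_, ⟨_, r2 y hy y1, rfl⟩, fun v => by simp [rk1_apply]⟩ ⟨_, ⟨_, x2, rfl⟩, fun v => by simp [rk1_apply]⟩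
    have y0 : y ≠ 0 := by rintro rfl; simp at h3
    have := finrank_span_singleton_le (F := F) y
    obtain ⟨w, w2, w1, w3, w4⟩ := h.exists_sing (ratSub_span hy) (F ∙ y) (by omega)
    rw [mem_perp_span_singleton] at w2
    obtain ⟨z, z2, z1, z3⟩ := h.exists_B_eq (ratSub_span w1) (x := y) (by
      simpa using exchange_span (W := ⊥) (by simpa using y0) (by simpa using w3)) hy (one_mem k)
    rw [mem_perp_span_singleton] at z2
    obtain ⟨x', a1, c, a2⟩ := hZ w w1 (by rintro rfl; simp at w3) w4 _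
      (sub_mem_zSet (h.mem_zSet hX w1 w4 z1 z2) h5 ((h6 w).trans (by simp [w2])))
    have := congrArg (D.B z) a2
    rw [one_mul] at z3
    rw [show m.1 _ = _ from h6 _] at this
    simp [D.eq_zero_symm z2, B_symm D z y, z3] at this
    have h7 := mul_mem (hB z z1 x' a1) (inv_mem θk)
    rw [← this, mul_inv_cancel_right₀ θ0] at h7
    exact h4 h7
  obtain ⟨e, e1, e2, β, β0, H⟩ : ∃ e ∈ rat k b, D.Q e = 0 ∧ ∃ β : F, β ≠ 0 ∧
      ∀ y ∈ rat k b, D.B e y = 0 → D.Q y = 0 → D.B y (β • x) ∈ k := by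
    by_cases H : ∀ y ∈ rat k b, D.Q y = 0 → D.B y x = 0
    · exact ⟨u, u1, u2, 1, one_ne_zero, fun y h1 _ h3 => by simp [H y h1 h3]⟩
    push Not at H
    obtain ⟨e, e1, e2, e3⟩ := H
    refine ⟨e, e1, e2, σ (D.B e x), by simpa, fun y y1 y2 y3 => ?_⟩
    have k1 := fun c h3 => sub_mem (sub_mem
      (a1 _ (add_mem e1 (rat_smul (a := c) h3 y1)) (by rw [D.Q_add_smul y3, e2, y2]; simp)) (a1 e e1 e2))
      (a1 _ (rat_smul h3 y1) (D.Q_smul_of_Q y3 c))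
    convert div_mem (sub_mem (k1 1 (one_mem k)) (div_mem (k1 θ θk) θk)) (ofNat_mem k 2) using 1
    simp only [D.B_lin]
    simp only [map_add, map_mul, θ1, map_neg, map_one, hc.σσ]
    field_simp; ring
  obtain ⟨T, t1, t2, t3⟩ := exists_proj k
  have : D.perp (F ∙ e) ≤ D.perp (F ∙ (β • x - pr b T (β • x))) :=
    (h.perp (ratSub_span e1)).le fun y hy hr => by
      have h4 := h.B_pr hr t1 (β • x)
      rw [one_mul, one_mul, t3 _ (h.induct e1 e2 (P := fun y => D.B y (β • x) ∈ k) H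
        (fun _ _ h1 h2 => by rw [B_sub_left]; exact sub_mem h1 h2) hr
        (D.mem_perp_span_singleton.1 hy))] at h4
      exact D.mem_perp_span_singleton.2 (D.eq_zero_symm (by rw [B_sub_right, h4, sub_self]))
  exact fin _ ((ratSub_span (pr_mem t2 (β • x))).sup (ratSub_span e1)) (finrank_two_le _ _)
    ((Submodule.smul_mem_iff _ β0).1 (by
      simpa [hx] using Submodule.add_mem_sup (self_mem_span (pr b T (β • x)))
        (h.nd.perp_le_perp.1 this (self_mem_span _))))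

end RatT

end Cfsg.Lib.Forms
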