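import Cfsg.Agent.Lib.MaxU.TU4

/-!
# `GU₂ ⊗ GU₃` is maximal in `SU₆`
-/

namespace Cfsg.Lib.Forms.TF.U3

open Module Form TensorProduct Ten Qd

variable {F U W : Type*} [Field F] [AddCommGroup U] [Module F U] [AddCommGroup W] [Module F W]
  {σ : F →+* F} {q : ℕ} {hc : IsConj σ q}

variable {X G : Subgroup (U ⊗[F] W ≃ₗ[F] U ⊗[F] W)} {β : Form hc.kind U} {ω : Form hc.kind W}
  {D : Form hc.kind (U ⊗[F] W)} (h : St β ω D X G)
include h

variable [FiniteDimensional F U] [FiniteDimensional F W] (hU : finrank F U = 2) (hW : 3 ≤ finrank F W)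
include hU hW

variable (hA : ∀ a ∈ β.E, ∀ b ∈ ω.E, congr a.1 b.1 ∈ X)
include hA

theorem win3 {u z : U} {e : W} (he : ω.Q e = 0) (h0 : e ≠ 0) (hu : β.Q u = 0) (u0 : u ≠ 0) {d : F}
    (hd : D.IsEich (u ⊗ₜ e) 0 d) (h1 : D.eich _ _ d hd ∈ X.subgroupOf D.isom) (d0 : d ≠ 0)
    (h2 : z ⊗ₜ e ∈ zSet (X.subgroupOf D.isom) _ (Qr h u he)) (h3 : β.B u z ≠ 0) :
    D.E ≤ X.subgroupOf D.isom := by
  have d1 : d + σ d = 0 := by simpa using hd.tr_d
  have M : ∀ v g, β.Q v = 0 → v ≠ 0 → ω.Q g = 0 → g ≠ 0 → ∀ κ : F, κ ≠ 0 →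
      ∃ k ∈ X.subgroupOf D.isom, k.1 (u ⊗ₜ e) = κ • v ⊗ₜ g ∧ ∃ z', β.B v z' ≠ 0 ∧
        k.1 (z ⊗ₜ e) = z' ⊗ₜ g := fun v g hv v0 hg g0 κ κ0 => by
    obtain ⟨a, ha, c, c0, a1⟩ := h.nβ.exists_mem_map_smul eich_mem_E (Herm.rich _ _) hu u0 hv v0
    obtain ⟨b, hb, b1⟩ := Herm.exists_mem_E_map h.nω hW h0 (smul_ne_zero (div_ne_zero κ0 c0) g0)
      (he.trans (ω.Q_smul_of_Q hg _).symm)
    refine ⟨⟨_, h.congr_isom a b⟩, hA a ha b hb, by simp [a1, b1, smul_tmul', smul_smul, c0],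
      (κ / c) • a.1 z, fun H => h3 ?_, by simp [b1, smul_tmul']⟩
    rw [← B_isom a, a1]
    simpa [κ0, c0] using H
  have R : ∀ v g, β.Q v = 0 → v ≠ 0 → ω.Q g = 0 → g ≠ 0 → Rk (X.subgroupOf D.isom) (v ⊗ₜ g) :=
    fun v g hv v0 hg g0 c c1 => by
      rcases eq_or_ne c 0 with rfl | c0
      · rw [show D.rk1 _ 0 c1 = 1 from isom_ext fun x => by simp [rk1_apply]]
        exact one_mem _
      have c2 := (Herm.isRk1_iff_of_Q_eq_zero (Qr h v hg)).1 c1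
      obtain ⟨κ, hκ⟩ := hc.exists_norm_eq (a := -c / d) (by
        rw [map_div₀, map_neg, eq_neg_of_add_eq_zero_right c2, eq_neg_of_add_eq_zero_right d1]
        field_simp)
      obtain ⟨k, k1, k2, -⟩ := M v g hv v0 hg g0 κ (by rintro rfl; simp [c0, d0, eq_comm] at hκ)
      convert mul_mem (mul_mem k1 h1) (inv_mem k1) using 1
      rw [conj_eich]
      refine isom_ext fun x => ?_
      have : c = -(κ * σ κ * d) := by rw [hκ]; field_simp
      simp only [rk1_apply, eich_apply, k2, map_zero, D.B_smul_left, hermKind_ε, this,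
        LinearMap.zero_apply]
      module
  obtain ⟨θ, t0, t1⟩ := hc.exists_trace_zero
  have T : ∀ {v g p y} {hp : D.Q p = 0}, β.Q v = 0 → v ≠ 0 → ω.Q g = 0 → g ≠ 0 → D.B (v ⊗ₜ g) p = 0 →
      y ∈ zSet (X.subgroupOf D.isom) p hp →
      (θ * D.B (v ⊗ₜ g) y) • v ⊗ₜ g ∈ zSet (X.subgroupOf D.isom) p hp :=
    fun {v g p y hp} hv v0 hg g0 H hy => (R v g hv v0 hg g0).mem_zSet (Qr h v hg) H hy t1
  have A : ∀ v g (hg : ω.Q g = 0), β.Q v = 0 → v ≠ 0 → g ≠ 0 → ∃ κ : F, κ ≠ 0 ∧ ∀ g', ω.Q g' = 0 →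
      ω.B g' g = 1 → κ • v ⊗ₜ g' ∈ zSet (X.subgroupOf D.isom) _ (Qr h v hg) := fun v g hg hv v0 g0 => by
    obtain ⟨k, k1, k2, z', k3, k4⟩ := M v g hv v0 hg g0 1 one_ne_zero
    refine ⟨θ * β.B v z', mul_ne_zero t0 k3, fun g' g1 g2 => ?_⟩
    simpa [h.B, g2] using T hv v0 g1 (by rintro rfl; simp at g2) (by simp [h.B, β.B_self_of_Q hv])
      (conj_mem' (hp' := Qr h v hg) h2 k1 (k2.trans (one_smul _ _)) k4)
  have A' : ∀ v g (hg : ω.Q g = 0), β.Q v = 0 → v ≠ 0 → g ≠ 0 → ∀ w, ω.B g w = 0 →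
      v ⊗ₜ w ∈ zSet (X.subgroupOf D.isom) _ (Qr h v hg) := fun v g hg hv v0 g0 w hw => by
    obtain ⟨κ, κ0, H⟩ := A v g hg hv v0 g0
    obtain ⟨f, hf⟩ := h.nω.exists_isHyp hg g0
    obtain ⟨c, c1⟩ := ω.exists_Q_add_smul_eq_zero hg (w := f + κ⁻¹ • w) (by simp [hw, hf.B_ef])
    simpa [tmul_add, smul_smul, κ0] using sub_mem (H _ c1 (by
      simp [hf.B_fe, hf.B_ee, ω.eq_zero_symm hw])) (add_mem (H f hf.Q_f hf.B_fe)
      (smul_mem_zSet (Qr h v hg) (κ * c)))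
  have E : ∀ {u u' e f}, β.IsHyp u u' → ω.IsHyp e f → D.At (X.subgroupOf D.isom) ⊤ (u ⊗ₜ e) :=
    fun {u u' e f} hu hf => by
      have := hf.finrank_hp
      have : Nontrivial (ω.hp e f) := Module.nontrivial_of_finrank_pos (R := F) (by omega)
      obtain ⟨⟨w, w1⟩, w2⟩ := Herm.exists_Q_eq (hf.nondeg_hp h.nω) (map_one σ)
      obtain ⟨w3, w4⟩ := ω.mem_hp.1 w1
      have w5 : ω.B w w = 1 := (herm_Q ω w).symm.trans w2
      have a1 := A' u e hf.Q_e hu.Q_e hu.e_ne_zero hf.e_ne_zero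
      have a2 := A' u' e hf.Q_e hu.Q_f hu.f_ne_zero hf.e_ne_zero
      have B₁ : ∀ c : F, c • u' ⊗ₜ e ∈ zSet (X.subgroupOf D.isom) _ (Qr h u hf.Q_e) := fun c => by
        obtain ⟨d, hd, hX⟩ := a2 (σ c • w) (by simp [w3])
        simpa [eich_apply, h.B, w3, w5, hu.B_fe, hc.σσ] using sub_mem_zSet (a1 w w3) hX
          (eich_apply_of_perp_perp _ hd (by simp [h.B, hf.B_ee]) (by simp [h.B, ω.eq_zero_symm w3]))
      have B₂ : ∀ c : F, c • u ⊗ₜ f ∈ zSet (X.subgroupOf D.isom) _ (Qr h u hf.Q_e) := fun c => by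
        simpa [h.B, hu.B_ef, hf.B_fe, t0] using T hu.Q_e hu.e_ne_zero hf.Q_f hf.f_ne_zero
          (by simp [h.B, hu.B_ee]) (B₁ (θ⁻¹ * c))
      have B₃ : ∀ y, ω.B e y = 0 → u' ⊗ₜ y ∈ zSet (X.subgroupOf D.isom) _ (Qr h u hf.Q_e) := fun y hy => by
        obtain ⟨d, hd, hX⟩ := a2 y hy
        convert sub_mem (B₁ (ω.B y f - d))
          (sub_mem_zSet (B₂ 1) hX (eich_apply_of_perp_perp _ hd (by simp [h.B, hf.B_ee])
            (by simp [h.B, ω.eq_zero_symm hy]))) using 1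
        simp only [eich_apply, h.B, hu.B_fe, hf.B_ef, one_smul, hermKind_ε]
        module
      refine at_of_zSet (he := Qr h u hf.Q_e) (R u e hu.Q_e hu.e_ne_zero hf.Q_e hf.e_ne_zero).at_bot
        fun z _ hz => ?_
      have e1 : ∀ x, x = β.B u' x • u + β.B u x • u' := fun x => by
        obtain ⟨y, y1, y2⟩ := hu.exists_comb x
        have := hu.finrank_hp
        rw [Submodule.finrank_eq_zero.1 (show finrank F (β.hp u u') = 0 by omega)] at y1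
        simpa [(Submodule.mem_bot F).1 y1] using y2
      have e2 : ∀ z, z = u ⊗ₜ ctl W (β.B u') z + u' ⊗ₜ ctl W (β.B u) z := fun z => by
        induction z with
        | zero => simp
        | tmul x y => conv_lhs => rw [e1 x]
                      simp [add_tmul, smul_tmul]
        | add a b ha hb => simp only [map_add, tmul_add]; linear_combination (norm := abel) ha + hb
      rw [e2 z]
      refine add_mem ?_ (B₃ _ (by rw [ctl_ctr, ← h.B_left, hz]))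
      generalize ctl W (β.B u') z = y
      simpa [tmul_sub] using add_mem (a1 (y - ω.B e y • f) (by simp [hf.B_ef])) (B₂ (ω.B e y))
  obtain ⟨e, f, hf⟩ := Herm.exists_isHyp h.nω (by omega)
  obtain ⟨u, u', hu⟩ := Herm.exists_isHyp h.nβ hU.ge
  exact (E hu hf).E_le h.nD (E hu.symm hf.symm) (Qr h _ hf.Q_e) (Qr h _ hf.Q_f)
    (by simp [h.B, hf.B_ef, hu.B_ef])

variable (hq : q ≠ 2) (hno : ¬ D.E ≤ X.subgroupOf D.isom)
include hq hno

theorem z_uu {e : W} (he : ω.Q e = 0) (h0 : e ≠ 0) {k} (hk : k ∈ X) (h1 : ∀ x, ∃ u, k x = x + u ⊗ₜ e) :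
    ∃ c : F, c + σ c = 0 ∧ ∀ x, k x = x + c • nT U ω e x := by
  obtain ⟨f, hf⟩ := h.nω.exists_isHyp he h0
  obtain ⟨α, h3, h4, h5⟩ := h.exists_zp hf hk h1
  simp only [hermKind_ε, one_mul] at h5
  by_cases H : ∀ u, β.Q u = 0 → α u ∈ F ∙ u
  · obtain ⟨c, c1⟩ := scalar_of_sing_eig h.nβ hU.ge H
    obtain ⟨u, u', hu⟩ := Herm.exists_isHyp h.nβ hU.ge
    exact ⟨c, by simpa [c1, hu.B_ef, eq_neg_iff_add_eq_zero, add_comm] using h5 u u',
      fun x => by rw [h3, c1, nT_apply, smul_tmul']⟩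
  push Not at H
  obtain ⟨u, hu, h6⟩ := H
  have u0 : u ≠ 0 := by rintro rfl; simp at h6
  have h7 : σ (β.B u (α u)) = -β.B u (α u) := by rw [herm_symm, h5]
  have k1 : ∀ c, c + σ c = 0 → Zp ω X e (β.eichMap u (c • α u) (c ^ 2 * β.B u (α u)) - 1) := fun c c1 => by
    have t2 := (Herm.isRk1_iff_of_Q_eq_zero hu).2 c1
    convert (h4.conj (hA _ (rk1_mem_E t2 hu) 1 (one_mem _)) (t := 1) (by simp)).sub he h4 using 1
    ext x
    rw [← Subgroup.coe_inv, rk1_inv]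
    simp only [eichMap_apply, LinearMap.sub_apply, LinearMap.smul_apply, LinearMap.comp_apply,
      LinearEquiv.coe_coe, rk1_apply, β.B_lin, map_add, map_smul, h5, eq_neg_of_add_eq_zero_right c1,
      hermKind_ε, map_one, Module.End.one_apply]
    module
  have k2 : ∀ {z d}, d + σ d = 0 → Zp ω X e (β.eichMap u z d - 1) →
      ∃ hd, D.eich (u ⊗ₜ e) (z ⊗ₜ e) d hd ∈ X.subgroupOf D.isom := fun {z d} hd H =>
    ⟨⟨Qr h u he, by simp [h.B, hf.B_ee], hd.trans (Qr h z he).symm⟩, HasU.mem H fun x => by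
      simp [eich_apply, eichMap_apply, h.B_left, sub_tmul, add_tmul, smul_tmul', add_sub_assoc]⟩
  obtain ⟨θ, t0, t1⟩ := hc.exists_trace_zero
  have t2 := eq_neg_of_add_eq_zero_right t1
  have k3 : (θ • α u) ⊗ₜ e ∈ zSet (X.subgroupOf D.isom) _ (Qr h u he) :=
    ⟨_, k2 (by simp [t2, h7]) (k1 θ t1)⟩
  have k4 : θ • α u ∉ F ∙ u := by rwa [Submodule.smul_mem_iff _ t0]
  refine absurd ?_ hno
  by_cases h8 : β.B u (α u) = 0
  · have := h.nβ.finrank_perp (F ∙ u)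
    rw [finrank_span_singleton u0] at this
    exact absurd ((Submodule.eq_of_le_of_finrank_le ((Submodule.span_singleton_le_iff_mem _ _).2
      (β.mem_perp_span_singleton.2 (β.B_self_of_Q hu))) (by rw [finrank_span_singleton u0]; omega)).ge
      (β.mem_perp_span_singleton.2 h8)) h6
  obtain ⟨s, s1, s0, s2⟩ := hc.exists_fixed_ne hq
  obtain ⟨t, rfl⟩ := hc.exists_norm_eq s1
  obtain ⟨b, hb, b1⟩ := Herm.exists_mem_E_map h.nω (by omega) h0
    (smul_ne_zero (left_ne_zero_of_mul s0) h0) (he.trans (ω.Q_smul_of_Q he _).symm)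
  have k5 := (k1 (t * σ t * θ) (by rw [map_mul, s1, t2]; ring)).sub he
    ((k1 θ t1).conj (hA 1 (one_mem _) b hb) b1)
  generalize t * σ t = s at *
  obtain ⟨hd, k6⟩ := k2 (z := 0) (d := s * (s - 1) * θ ^ 2 * β.B u (α u)) (by simp [s1, t2, h7]) (by
    convert k5 using 1
    ext x
    simp [eichMap_apply, s1]
    module)
  exact win3 h hU hW hA he h0 hu u0 (by simpa using hd) (by simpa using k6)
    (by simp [t0, h8, s0, sub_eq_zero, s2]) k3 (by simp [t0, h8])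

theorem m_uu {e : W} (he : ω.Q e = 0) (h0 : e ≠ 0) {k} (hk : k ∈ X) (h1 : IsQ U ω e k) (w : W)
    (hw : ω.B e w = 0) : ∃ c : F, ∀ u, k (u ⊗ₜ w) = u ⊗ₜ w + c • u ⊗ₜ e := by
  obtain ⟨f, hf⟩ := h.nω.exists_isHyp he h0
  obtain ⟨α, h4, h5⟩ := h.exists_comp hf hk h1 hw
  have k1 : ∀ t : F, ∃ c : F, ∀ u u', c * β.B u' u = σ t * β.B (α u') u - t * β.B u' (α u) := fun t => by
    obtain ⟨d, hd⟩ := exists_isEich (z := t • w) he (by simp [hw])
    obtain ⟨z, hz, z1, z2⟩ := h.cp_comm he (Cp.of f hk h1) (Γ' := -cu U (t • w))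
      ⟨_, h.eich_mem hd, (h.eich_isQ hd).1, fun u => ⟨(ω.B (t • w) f - d) • u, by
        simp [eich_apply, hf.B_ef, tmul_add, tmul_sub, sub_tmul, sub_smul, smul_tmul]; abel⟩⟩
    obtain ⟨c, -, c1⟩ := z_uu h hU hW hA hq hno he h0 hz z1
    refine ⟨c, fun u u' => ?_⟩
    have k2 : ∀ u u', D.B (-u ⊗ₜ (t • w)) (k (u' ⊗ₜ f) - u' ⊗ₜ f) = σ t * β.B (α u) u' := fun u u' => by
      simp [h5, h.B_left]; ring
    have := z2 u u'
    rw [← herm_symm D ((-cu U (t • w)) u)] at this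
    erw [k2, k2] at this
    simpa [c1, nT_apply, hf.B_ef, hf.B_fe, h.B, hc.σσ, herm_symm] using this
  obtain ⟨t, ht⟩ := hc.exists_not_fixed
  obtain ⟨c, c1⟩ := k1 1
  obtain ⟨d, d1⟩ := k1 t
  have := sub_ne_zero.2 ht
  refine ⟨(d - σ t * c) / (σ t - t), fun u => (h4 u).trans ?_⟩
  refine congrArg (u ⊗ₜ[F] w + · ⊗ₜ[F] e) (h.nβ.ext' (y := _ • u) fun u' => ?_)
  have c2 := c1 u u'
  rw [map_one] at c2
  rw [β.B_smul_right]
  field_simp
  linear_combination σ t * c2 - d1 u u'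

theorem stab_uu {e t : W} (he : ω.Q e = 0) (h0 : e ≠ 0) (ht : ω.Q t = 0) (t0 : t ≠ 0) {g} (hg : g ∈ X)
    (H : ∀ u, ∃ u', g (u ⊗ₜ t) = u' ⊗ₜ e) : g ∈ tens F U W := by
  have := Module.nontrivial_of_finrank_pos (R := F) (M := U) (by omega)
  refine h.mem_of_map (Herm.rich _ _) (fun g hg => h.mem_of_stab he h0 (fun k hk h1 => ?_)
    (fun k => m_uu h hU hW hA hq hno he h0) (by omega) hg) he h0 ht t0 hg H
  obtain ⟨c, c0, c1⟩ := z_uu h hU hW hA hq hno he h0 hk h1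
  exact ⟨1, (ω.rk1 e c ((Herm.isRk1_iff_of_Q_eq_zero he).2 c0)).1, LinearEquiv.ext fun x => by
    rw [c1, congr_rk1]⟩

variable (hUW : finrank F U < finrank F W)
include hUW

omit hA hq hno in
theorem exists_range {N} (hN : N ∈ rt U ω) {g} (hg : g ∈ X) {r} (hr : r ∈ tens F U W)
    (H : ∀ x, r x = x + cj g N x) : ∃ t ≠ 0, ω.Q t = 0 ∧ LinearMap.range (cu U t) = LinearMap.range (cj g N) := by
  have := Module.nontrivial_of_finrank_pos (R := F) (M := U) (by omega)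
  have h3 := (rk_cj g _).trans (rk_rt h hN)
  have R := (root_rt h hN).conj (h.le.trans h.le') hg
  obtain ⟨t, t0, h4, -⟩ := range_eq_of_mem hUW hr H (fun h5 => by
    rw [h5, rk, LinearMap.range_zero, finrank_bot] at h3
    omega) h3.le
  refine ⟨t, t0, (herm_Q ..).trans (h.B_eq_zero fun u u' => ?_), h4⟩
  obtain ⟨x, hx⟩ := h4.le ⟨u, rfl⟩
  obtain ⟨y, hy⟩ := h4.le ⟨u', rfl⟩
  rw [← cu_apply, ← cu_apply, ← hx, ← hy, R.skew, R.sq, map_zero, neg_zero]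

theorem uniq_uu : Uniq D X (tens F U W) (rt U ω) := by
  refine ⟨h.nD, h.le.trans h.le', fun N => root_rt h, ?_, fun N hN g hg r hr H => ?_⟩
  · rintro _ ⟨e, h0, he, c, c0, -, rfl⟩ g hg H
    obtain ⟨f, hf⟩ := h.nω.exists_isHyp he h0
    exact stab_uu h hU hW hA hq hno he h0 he h0 hg fun u => by
      obtain ⟨y, hy⟩ := H (u ⊗ₜ f)
      exact ⟨ctr U (ω.B e) y, smul_right_injective _ c0 (by simpa [nT_apply, hf.B_ef] using hy.symm)⟩
  obtain ⟨t, t0, t1, h4⟩ := exists_range h hU hW hUW hN hg hr H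
  obtain ⟨e, h0, he, c, -, -, rfl⟩ := hN
  refine (tens F U W).inv_mem_iff.1 (stab_uu h hU hW hA hq hno he h0 t1 t0 (X.inv_mem hg) fun u => ?_)
  obtain ⟨y, hy⟩ := h4.le ⟨u, rfl⟩
  exact ⟨_, by rw [← cu_apply, ← hy, cj_apply, lin_inv_apply, LinearMap.smul_apply, nT_apply, smul_tmul']⟩

theorem le_odd (h2 : (2 : F) ≠ 0 ∨ ∃ c, σ c = c ∧ c ≠ 0 ∧ c ≠ 1) : X ≤ tens F U W := by
  have := Module.nontrivial_of_finrank_pos (R := F) (M := U) (by omega)
  have := hc.finite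
  have : Finite (U ⊗[F] W) := Module.finite_of_finite F
  have uq := uniq_uu h hU hW hA hq hno hUW
  obtain ⟨v, hv⟩ := exists_ne (0 : U)
  obtain ⟨θ, t0, t1⟩ := hc.exists_trace_zero
  have A : ∀ {e : W}, e ≠ 0 → ∃ y, ω.B e y = 0 ∧ ∀ g ∈ tens F U W, ∀ c : F,
      (∀ u, ∃ x, g (u ⊗ₜ y) - u ⊗ₜ y = c • nT U ω e x) →
      y ∉ (F ∙ e) ∧ ∃ b : W →ₗ[F] W, ∀ u w, g (u ⊗ₜ w) = u ⊗ₜ b w := fun {e} h0 => by
    obtain ⟨y, -, y0, y1⟩ := exists_not_mem_kers ⊤ (F ∙ e) [ω.B e] (by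
      have := finrank_span_singleton_le (F := F) e; simp; omega)
    obtain ⟨φ, h3, h4⟩ := exists_dual_pair y0
    exact ⟨y, y1 _ (by simp), fun g hg c H => ⟨y0, exists_right_of hg h3 fun u => by
      obtain ⟨x, hx⟩ := H u
      simpa [nT_apply, h3, h4, sub_eq_zero] using congrArg (ctr U φ) hx⟩⟩
  obtain ⟨e, f, hf⟩ := Herm.exists_isHyp h.nω (by omega)
  have h0 := hf.e_ne_zero
  have hN : θ • nT U ω e ∈ rt U ω := ⟨e, h0, hf.Q_e, θ, t0, t1, rfl⟩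
  refine uq.le_of_quad h2 ⟨_, hN⟩ (fun N hN M hM => (rk_rt h hN).trans (rk_rt h hM).symm) ?_
    fun N' n1 n2 H => ?_
  · rintro _ ⟨e, h0, he, c, c0, -, rfl⟩ M M' - - m1 - m2 g - hg g1 g2 g3 x
    simp only [LinearMap.smul_apply] at m1 m2 g2 ⊢
    obtain ⟨y, y1, y2⟩ := A h0
    obtain ⟨-, b, hb⟩ := y2 g hg c fun u => (m2 _ (g3 _) (by
      rw [map_sub, smul_sub, ← g2]; simp [nT_apply, y1])).imp fun _ => Eq.symm
    obtain ⟨w, hw⟩ : ∃ w, b w - w ≠ 0 := by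
      by_contra! H
      exact g1 (LinearEquiv.toLinearMap_injective (TensorProduct.ext' fun u w => by
        simp [hb, sub_eq_zero.1 (H w)]))
    have m3 : ∀ u, u ⊗ₜ (b w - w) ∈ M := fun u => by rw [tmul_sub, ← hb]; exact g3 _
    by_cases h3 : ω.B e (b w - w) = 0
    · obtain ⟨z, hz⟩ := m2 _ (m3 v) (by rw [nT_apply, ctr_tmul, h3]; simp)
      obtain ⟨d, hd⟩ := mem_span_of_tmul hv (hz.symm.trans (smul_tmul' ..))
      have := m3 (c • ctr U (ω.B e) x)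
      rwa [hd, tmul_smul, M.smul_mem_iff (by rintro rfl; simp [hd] at hw)] at this
    · have := m1 _ (m3 (ctr U (ω.B e) x))
      rwa [nT_apply, ctr_tmul, ← smul_tmul', smul_comm, M.smul_mem_iff h3] at this
  suffices K : ∀ {e f}, ω.IsHyp e f → ∃ y ≠ 0, ω.B e y = 0 ∧ ∀ v, N' (v ⊗ₜ y) = 0 by
    obtain ⟨y, y0, -, y1⟩ := K hf
    obtain ⟨t, t3, t2⟩ : ∃ t, ω.Q t = 0 ∧ ω.B t y ≠ 0 := by
      by_contra! H'
      exact y0 (h.nω y fun x => ω.eq_zero_symm (hf.induction_singular (P := fun x => ω.B x y = 0) H'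
        (fun _ _ a b => by simp [a, b]) x))
    obtain ⟨t', ht'⟩ := h.nω.exists_isHyp t3 (by rintro rfl; simp at t2)
    obtain ⟨z, z0, z1, z2⟩ := K ht'
    have z3 : y ∉ F ∙ z := fun H' => by
      obtain ⟨c, rfl⟩ := Submodule.mem_span_singleton.1 H'
      simp [z1] at t2
    obtain ⟨x, x1, x0, x2⟩ := Herm.sing ω ((F ∙ z) ⊔ F ∙ y) (finrank_two z0 z3).ge
    obtain ⟨f', hf'⟩ := h.nω.exists_isHyp x2 x0
    have h5 := (H _ ⟨x, x0, x2, θ, t0, t1, rfl⟩).1 (v ⊗ₜ f')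
    rw [LinearMap.smul_apply, nT_apply, ctr_tmul, hf'.B_ef, one_smul, map_smul] at h5
    refine smul_ne_zero t0 (tmul_ne_zero hv x0) (h5 ?_)
    obtain ⟨_, a1, _, a2, rfl⟩ := Submodule.mem_sup.1 x1
    obtain ⟨r, rfl⟩ := Submodule.mem_span_singleton.1 a1
    obtain ⟨s, rfl⟩ := Submodule.mem_span_singleton.1 a2
    simp [tmul_add, y1, z2]
  intro e f hf
  have h0 := hf.e_ne_zero
  have hN : θ • nT U ω e ∈ rt U ω := ⟨e, h0, hf.Q_e, θ, t0, t1, rfl⟩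
  obtain ⟨-, c2, -, g, hX, hg, g1, g2, g3, g4⟩ := H _ hN
  have R := uq.root _ hN
  have g5 : ∀ u, ∃ s, g (u ⊗ₜ e) = s ⊗ₜ e := fun u => by
    obtain ⟨y, hy⟩ := g1 (u ⊗ₜ f)
    exact ⟨_, smul_right_injective _ t0 (by simpa [nT_apply, hf.B_ef] using hy.symm)⟩
  have g6 : ∀ x, (θ • nT U ω e) x = g ((θ • nT U ω e) (g x)) := fun x => h.nD.ext' fun y => by
    rw [← neg_neg (D.B y (g _)), ← show _ = -D.B y (g ((θ • nT U ω e) (g x))) from g3 y (g x),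
      LinearMap.comp_apply, LinearEquiv.coe_coe, h.B_map hX, R.skew, neg_neg]
  obtain ⟨y, y1, y2⟩ := A h0
  obtain ⟨y0, b, hb⟩ := y2 g hg θ fun u => mem_range_of R.sq c2 (g2 _) (by
    rw [map_sub, g.map_eq_zero_iff.1 ((g6 _).symm.trans _)] <;> simp [nT_apply, y1])
  have b1 := h.B_right hX hb
  obtain ⟨s, hs⟩ := g5 v
  obtain ⟨a, ha⟩ := mem_span_of_tmul hv ((hb v e).symm.trans hs)
  have a0 : a ≠ 0 := by rintro rfl; simpa [ha, hf.B_ef] using b1 e f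
  have b2 : ∀ x, (θ • nT U ω e) (g x) = a⁻¹ • (θ • nT U ω e) x := fun x => g.injective (by
    rw [← g6, map_smul, LinearMap.smul_apply, map_smul, nT_apply, hb, ha, tmul_smul, smul_comm θ,
      inv_smul_smul₀ a0])
  have b3 : ∀ w, a⁻¹ * ω.B e w = ω.B e w → ∃ c : F, b w = w + c • e := fun w hw => by
    obtain ⟨z, hz⟩ := mem_range_of R.sq c2 (g2 (v ⊗ₜ w)) (by
      rw [map_sub, b2, LinearMap.smul_apply, smul_comm, nT_apply, ctr_tmul, smul_tmul' a⁻¹, smul_smul, hw,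
        sub_self])
    rw [hb, ← tmul_sub] at hz
    exact (mem_span_of_tmul hv (hz.trans (smul_tmul' ..))).imp fun c hc => eq_add_of_sub_eq' hc
  rcases eq_or_ne a 1 with rfl | a1
  · obtain ⟨c, c1⟩ := b3 f (by simp)
    have c3 : σ c = -c := by
      have := b1 f f
      simp only [c1, ω.B_lin, hf.B_ee, hf.B_ef, hf.B_fe, hf.B_ff, hermKind_ε] at this
      linear_combination this
    refine absurd (fun x => ?_) (g4 (c / θ) (by rw [map_div₀, c3, eq_neg_of_add_eq_zero_right t1, neg_div_neg_eq]))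
    refine LinearMap.congr_fun (TensorProduct.ext' (g := g.toLinearMap)
        (h := 1 + (c / θ) • θ • nT U ω e) fun u w => ?_) x
    obtain ⟨d, hd⟩ := b3 w (by simp)
    have := b1 f w
    simp only [c1, hd, ω.B_lin, hf.B_ee, hf.B_fe, hermKind_ε, c3] at this
    simp [hb, hd, tmul_add, nT_apply, smul_tmul', smul_smul, t0,
      show d = c * ω.B e w by linear_combination this]
  obtain ⟨c, hc⟩ := b3 y (by simp [y1])
  have := sub_ne_zero.2 a1.symm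
  obtain ⟨y', hy'⟩ : ∃ y', y' = y + (c / (1 - a)) • e := ⟨_, rfl⟩
  have y3 : y' ≠ 0 := fun H => y0 (Submodule.mem_span_singleton.2
    ⟨-(c / (1 - a)), by rw [neg_smul]; exact neg_eq_of_add_eq_zero_left (hy' ▸ H)⟩)
  refine ⟨y', y3, by simp [hy', y1, hf.B_ee], fun v => ?_⟩
  refine eq_zero_of_fix R.sq c2 g2 h.nD (h.le' (h.le hX)) R.skew n2 (inv_ne_one.2 a1) b2 ?_
    (by simp [nT_apply, hy', y1, hf.B_ee])
  rw [hb, hy', map_add, map_smul, hc, ha]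
  congr 1
  match_scalars <;> (field_simp; try ring)

end Cfsg.Lib.Forms.TF.U3

namespace Cfsg.Lib.Forms.TF.U3

open Module Form TensorProduct Ten Qd Matrix Cfsg.Geo Asch

variable {F U W : Type*} [Field F] [AddCommGroup U] [Module F U] [AddCommGroup W] [Module F W]
  [FiniteDimensional F U] [FiniteDimensional F W] {σ : F →+* F} {q : ℕ} {hc : IsConj σ q}

theorem uu_core {β : Form hc.kind U} {ω : Form hc.kind W} {D : Form hc.kind (U ⊗[F] W)}
    (nβ : β.Nondeg) (nω : ω.Nondeg) (nD : D.Nondeg)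
    (B : ∀ u w u' w', D.B (u ⊗ₜ w) (u' ⊗ₜ w') = β.B u u' * ω.B w w') (hU : finrank F U = 2)
    (hW : 3 ≤ finrank F W) (hq : q ≠ 2) :
    ¬ D.E.map D.isom.subtype ≤ tens F U W ∧ ∀ X ≤ D.E.map D.isom.subtype,
      D.E.map D.isom.subtype ⊓ tens F U W ≤ X → ¬ X ≤ tens F U W → D.E.map D.isom.subtype ≤ X := by
  have hUW : finrank F U < finrank F W := by omega
  have h5 : 3 ≤ finrank F (U ⊗[F] W) := by rw [finrank_tensorProduct]; nlinarith
  have iso : ∀ g ∈ tens F U W, (∀ x y, D.B (g x) (g y) = D.B x y) → g ∈ D.isom := fun g _ H =>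
    herm_isIsometry H
  have h : St β ω D D.isom D.isom := ⟨nβ, nω, nD, B, iso, le_rfl, le_rfl, fun _ _ _ h _ => h, inf_le_left⟩
  refine ⟨fun H => ?_, fun X x1 x2 x3 => ?_⟩
  · obtain ⟨e, f, hf⟩ := Herm.exists_isHyp nD (by omega)
    obtain ⟨θ, t0, t1⟩ := hc.exists_trace_zero
    have t2 := (Herm.isRk1_iff_of_Q_eq_zero hf.Q_e).2 t1
    have h6 : finrank F (LinearMap.range ((θ • D.B e).smulRight e)) ≤ 1 :=
      (Submodule.finrank_mono (by
        rintro _ ⟨z, rfl⟩; exact Submodule.smul_mem _ _ (Submodule.mem_span_singleton_self e))).trans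
        (finrank_span_singleton_le e)
    obtain ⟨t, -, -, h7⟩ := range_eq_of_mem hUW (H ⟨_, rk1_mem_E t2 hf.Q_e, rfl⟩)
      (B := (θ • D.B e).smulRight e) (fun z => rfl)
      (fun h0 => hf.e_ne_zero (by simpa [hf.B_ef, t0] using LinearMap.congr_fun h0 f)) (by omega)
    omega
  by_contra H
  have hX : St β ω D X (D.E.map D.isom.subtype) := ⟨nβ, nω, nD, B, iso, x1, Subgroup.map_subtype_le _,
    fun e he k hk h4 => ⟨⟨k, hk⟩, herm_mem_E nD h5 _ ⟨3, LinearMap.ext fun x => by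
      obtain ⟨u, hu⟩ := h4.sub (k x - x) (by rw [map_sub, h.ctr_sub hk h4.fix, sub_self])
      simp only [pow_succ, pow_zero, one_mul, Module.End.mul_apply, LinearMap.sub_apply,
        LinearEquiv.coe_coe, Module.End.one_apply, LinearMap.zero_apply]
      rw [hu, add_sub_cancel_left, h4.fix, sub_self]⟩, rfl⟩, x2⟩
  let l : β.isom →* D.isom := MonoidHom.mk' (fun a => ⟨_, h.congr_isom a 1⟩)
    fun a b => Subtype.ext (by
      simp only [Subgroup.coe_mul, OneMemClass.coe_one]; rw [← congr_mul, mul_one])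
  have hl := E_le (G := D.E.comap l) fun u z d hd => herm_mem_E nD h5 _ ⟨3, TensorProduct.ext' fun x w => by
    simp [l, pow_succ, eich_apply, ← sub_tmul, hd.B_ee, hd.B_ez, hd.B_ze]⟩
  have hA : ∀ a ∈ β.E, ∀ b ∈ ω.E, congr a.1 b.1 ∈ X := fun a ha b hb => by
    rw [show congr a.1 b.1 = congr a.1 1 * congr 1 b.1 by rw [← congr_mul, mul_one, one_mul]]
    exact mul_mem (x2 ⟨⟨l a, hl ha, rfl⟩, _, _, rfl⟩) (hX.right_mem hb)
  have hno : ¬ D.E ≤ X.subgroupOf D.isom := fun H' => H (Subgroup.map_le_iff_le_comap.2 H')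
  exact x3 (le_odd hX hU hW hA hq hno hUW (Or.inr (hc.exists_fixed_ne hq)))

end Cfsg.Lib.Forms.TF.U3
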