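import Cfsg.Agent.Lib.MaxU.C3D
import Cfsg.Agent.Lib.MaxU.C5U
import Cfsg.Agent.Lib.Max.TU

/-! Pieces of the tables of maximal subgroups of unitary groups. -/

set_option autoImplicit false

namespace Cfsg.Lib.Forms

open Module Form Cfsg.Geo TensorProduct Ten TF Qd Asch

variable {F : Type*} [Field F] [Fintype F] {n q : ℕ} (hF : Fintype.card F = q ^ 2)
include hF

theorem su_max_ts (hn : 6 ≤ n) (W : Submodule F (Fin n → F)) (hW0 : W ≠ ⊥)
    (hW : IsTotallySingularFor (hermForm n F q) W) : IsMaximalIn (GU n F q ⊓ specialLinear (Fin n) F)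
      (subspaceStabilizer W ⊓ (GU n F q ⊓ specialLinear (Fin n) F)) := by
  obtain ⟨σ, h⟩ := isConj_of_card hF
  have hD := stdHerm_nondeg h (Fin n)
  have hW' := Herm.isTS ((rep_herm h n).ts.1 hW)
  refine isMaximalIn_map (su_eq h (by omega)) (comap_subspaceStabilizer W)
    (Herm.not_E_le_stab hD (by simp; omega) hW0 ?_) fun X => hW'.E_le hD (Or.inl Herm.exists_tr)
  rintro rfl
  have := hW'.two_mul_finrank_le hD
  simp at this; omega

theorem su_max_nondeg (hn : 6 ≤ n) (W : Submodule F (Fin n → F)) (hW0 : W ≠ ⊥)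
    (hW : IsNondegenerateOn (hermForm n F q) W) (hdim : 2 * finrank F W < n) :
    IsMaximalIn (GU n F q ⊓ specialLinear (Fin n) F)
      (subspaceStabilizer W ⊓ (GU n F q ⊓ specialLinear (Fin n) F)) := by
  obtain ⟨σ, h⟩ := isConj_of_card hF
  have hD := stdHerm_nondeg h (Fin n)
  have hW' := (rep_herm h n).nondeg.1 hW
  have hf := hD.finrank_perp W
  have hn' : finrank F (Fin n → F) = n := by simp
  have hw := wide_self (hD.disjoint_perp hW')
  refine isMaximalIn_map (su_eq h (by omega)) (comap_subspaceStabilizer W)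
    (Herm.not_E_le_stab hD (by omega) hW0 ?_)
    fun X => E_le_of_nondeg hD (Herm.trans hD (by omega)) hW'
      (Herm.irr ((stdHerm h (Fin n)).nondeg_restrict_iff.2 hW'))
      (Herm.big (hw.mono le_rfl (by omega))) (Herm.univ (hw.mono le_rfl (by omega)))
      (not_map_perp_le (by omega) (by omega))
  rintro rfl
  rw [finrank_top] at hdim; omega

theorem su_max_pair (hn : 10 ≤ n) {k : ℕ} (hk : 2 * k = n) (D : Fin 2 → Submodule F (Fin n → F))
    (hD : IsMDecomposition k D) (hts : ∀ i, IsTotallySingularFor (hermForm n F q) (D i)) :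
    IsMaximalIn (GU n F q ⊓ specialLinear (Fin n) F)
      (decompositionStabilizer D ⊓ (GU n F q ⊓ specialLinear (Fin n) F)) := by
  obtain ⟨σ, h⟩ := isConj_of_card hF
  have hN := stdHerm_nondeg h (Fin n)
  have hn' : finrank F (Fin n → F) = n := by simp
  obtain ⟨h1, h2, h3⟩ := isDual_of_dec hN hD fun i => Herm.isTS ((rep_herm h n).ts.1 (hts i))
  have h0 := hD.finrank_eq 0
  have h4 : D 0 ≠ ⊥ := fun h => by rw [h] at h0; simp at h0; omega
  refine isMaximalIn_map (su_eq h (by omega)) (comap_decompositionStabilizer D)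
    ((Herm.trans hN (by omega)).not_E_le_dec (Herm.sing _) hD.indep h4 (by omega)) fun X => ?_
  rw [← h3]
  exact h1.E_le h2 hN Herm.comm (by omega) (Herm.exists_swap hN (by omega) h1 h4)

theorem su_max_tensor_of {n₁ n₂ : ℕ} (h1 : 2 ≤ n₁) (h12 : n₁ < n₂)
    (H : ∀ {σ : F →+* F} {hc : IsConj σ q} {β : Form hc.kind (Fin n₁ → F)}
      {ω : Form hc.kind (Fin n₂ → F)} {D : Form hc.kind ((Fin n₁ → F) ⊗[F] (Fin n₂ → F))},
      β.Nondeg → ω.Nondeg → D.Nondeg →
      (∀ u w u' w', D.B (u ⊗ₜ w) (u' ⊗ₜ w') = β.B u u' * ω.B w w') →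
      ¬ D.E.map D.isom.subtype ≤ tens F _ _ ∧ ∀ X ≤ D.E.map D.isom.subtype,
        D.E.map D.isom.subtype ⊓ tens F _ _ ≤ X → ¬ X ≤ tens F _ _ → D.E.map D.isom.subtype ≤ X)
    (e : Fin n ≃ Fin n₁ × Fin n₂) (P : GL (Fin n) F) (f₁ f₂) (hf₁ : IsUnitaryFormPow q f₁)
    (hf₂ : IsUnitaryFormPow q f₂)
    (hT : IsTensorFormStructure (fun x : F => x ^ q) (hermForm n F q) f₁ f₂ e P) :
    IsMaximalIn (GU n F q ⊓ specialLinear (Fin n) F)
      (tensorProductSubgroup n₁ n₂ e P ⊓ (GU n F q ⊓ specialLinear (Fin n) F)) := by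
  have hc := isConj_frob (Nat.card_eq_fintype_card.trans hF)
  generalize hσ : frob (Nat.card_eq_fintype_card.trans hF) = σ at hc
  replace hT : IsTensorFormStructure σ (hermForm n F q) f₁ f₂ e P := hσ ▸ hT
  obtain ⟨c, c0, h⟩ := ts_of (IsUnitaryFormPow.hm hc hf₁).toIsSesq (IsUnitaryFormPow.hm hc hf₂).toIsSesq hT
  obtain ⟨D₁, h3, h4⟩ := exists_form_of_herm hc hf₁.add_left hf₁.smul_left
    (fun v w => (hf₁.herm v w).trans (hc.apply _).symm) hf₁.nondegenerate
  obtain ⟨ω, h5, h6⟩ := exists_form_of_herm hc hf₂.add_left hf₂.smul_left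
    (fun v w => (hf₂.herm v w).trans (hc.apply _).symm) hf₂.nondegenerate
  have h7 : ∀ u w u' w', (stdHerm hc (Fin n)).B (teq e P (u ⊗ₜ w)) (teq e P (u' ⊗ₜ w')) =
      c * D₁.B u u' * ω.B w w' := fun u w u' w' => by
    rw [← hermForm_eq, teq_tmul, teq_tmul, h, h3, h5, mul_assoc]
  have e1 : n = n₁ * n₂ := by simpa using Fintype.card_congr e
  have c1 : σ c = c := by
    obtain ⟨u, u', hu⟩ := Herm.exists_isHyp h4 (by simpa)
    obtain ⟨w, w', hw⟩ := Herm.exists_isHyp h6 (by simp; omega)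
    simpa [h7, hu.B_ef, hu.B_fe, hw.B_ef, hw.B_fe] using
      herm_symm (stdHerm hc (Fin n)) (teq e P (u ⊗ₜ w)) (teq e P (u' ⊗ₜ w'))
  obtain ⟨β, hβ⟩ : ∃ β : Form hc.kind (Fin n₁ → F), ∀ x y, β.B x y = c * D₁.B x y :=
    ⟨ofHerm hc.σσ (Or.inl hc.ne_id) (c • D₁.B) ⟨fun x y => by simp [c1, herm_symm]⟩, fun _ _ => rfl⟩
  have := H (β := β) (fun x hx => h4 x fun y => by simpa [hβ, c0] using hx y) h6
    ((iso_comap _ (teq e P)).symm.nondeg (stdHerm_nondeg hc _)) fun u w u' w' => by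
      rw [hβ]; exact h7 ..
  exact isMaximalIn_map' (su_eq_toM hc (by nlinarith) _) (comap_tensor e P) (toM_injective _) this.1 this.2

theorem su_max_tensor {n₁ n₂ : ℕ} (h1 : 2 ≤ n₁) (h12 : n₁ < n₂) (h5 : 5 ≤ n₂) (hq : 3 ≤ q)
    (e : Fin n ≃ Fin n₁ × Fin n₂) (P : GL (Fin n) F) (f₁ f₂) (hf₁ : IsUnitaryFormPow q f₁)
    (hf₂ : IsUnitaryFormPow q f₂)
    (hT : IsTensorFormStructure (fun x : F => x ^ q) (hermForm n F q) f₁ f₂ e P) :
    IsMaximalIn (GU n F q ⊓ specialLinear (Fin n) F)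
      (tensorProductSubgroup n₁ n₂ e P ⊓ (GU n F q ⊓ specialLinear (Fin n) F)) :=
  su_max_tensor_of hF h1 h12 (fun a b c d => uu_core a b c d (by simpa) (by simpa) (by simpa)
    (Or.inl (by omega))) e P f₁ f₂ hf₁ hf₂ hT

end Cfsg.Lib.Forms
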